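import Cfsg.Agent.Lib.AutPO.Reflect
import Cfsg.Agent.Lib.ClassicalSimple.PGOQuot
import Cfsg.Agent.Lib.QForm.OmegaQuot
import Cfsg.Agent.Lib.QForm.Gram

/-!
The inner-diagonal similarities `Dg` of an even-dimensional form in any characteristic, and how they move under
homomorphisms coming from field maps.
-/

set_option autoImplicit false

namespace Cfsg.Agent.AutPO

open scoped Matrix MatrixGroups
open ClassicalSimple (GO simAut scalarSub scalarGO omegaSub isometry_le_GO mem_isometry_iff)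
open QForm (refl)

section Basic

variable {ι : Type} [Fintype ι] [DecidableEq ι] {F : Type*} [Field F]
variable (Q : QuadraticForm F (ι → F))

/-- The similarities with `det g = μ(g) ^ k`. -/
def dsub0 (k : ℕ) : Subgroup (GO Q) where
  carrier := {g | ∃ c : Fˣ, (∀ v, Q (g.1.val *ᵥ v) = (c : F) * Q v) ∧ g.1.val.det = (c : F) ^ k}
  one_mem' := ⟨1, fun v => by simp, by simp⟩
  mul_mem' := fun {a b} ⟨c, hc, hc'⟩ ⟨d, hd, hd'⟩ => ⟨c * d,
    fun v => by rw [Subgroup.coe_mul, Units.val_mul, ← Matrix.mulVec_mulVec, hc, hd, Units.val_mul, mul_assoc],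
    by rw [Subgroup.coe_mul, Units.val_mul, Matrix.det_mul, hc', hd', Units.val_mul, mul_pow]⟩
  inv_mem' := fun {a} ⟨c, hc, hc'⟩ => ⟨c⁻¹, fun v => by
      have h := hc ((a.1⁻¹).val *ᵥ v)
      rw [ClassicalSimple.mulVec_inv_cancel] at h
      rw [InvMemClass.coe_inv, h, ← mul_assoc, ← Units.val_mul, inv_mul_cancel, Units.val_one, one_mul],
    by
      have h := congrArg Matrix.det (Units.inv_mul a.1)
      rw [Matrix.det_mul, hc', Matrix.det_one] at h
      rw [InvMemClass.coe_inv, Units.val_inv_eq_inv_val, inv_pow]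
      exact eq_inv_of_mul_eq_one_left h⟩

/-- The inner-diagonal similarities in dimension `2k`. -/
noncomputable def Dg (k : ℕ) : Subgroup (GO Q) :=
  open Classical in if (2 : F) = 0 then omegaSub Q ⊔ scalarSub Q else dsub0 Q k

theorem Dg_two (k : ℕ) (h2 : (2 : F) = 0) : Dg Q k = omegaSub Q ⊔ scalarSub Q := if_pos h2

theorem Dg_odd (k : ℕ) (h2 : (2 : F) ≠ 0) : Dg Q k = dsub0 Q k := if_neg h2

variable {Q}

theorem charTwo_of (h2 : (2 : F) = 0) : CharP F 2 := CharTwo.of_one_ne_zero_of_two_eq_zero one_ne_zero h2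

theorem mult_unique (hQ : (QuadraticMap.polarBilin Q).Nondegenerate) [Nonempty ι] {c d : F}
    (h : ∀ v, c * Q v = d * Q v) : c = d := by
  obtain ⟨v, hv⟩ := exists_value_rational (RingHom.id F) hQ
  exact mul_right_cancel₀ hv (h _)

theorem isometry_mult {g : GO Q} {c : F} (hg : g.1 ∈ isometryGroup F ⇑Q)
    (hQ : (QuadraticMap.polarBilin Q).Nondegenerate) [Nonempty ι]
    (hc : ∀ v, Q (g.1.val *ᵥ v) = c * Q v) : c = 1 :=
  mult_unique hQ fun v => by rw [← hc, (mem_isometry_iff Q).1 hg, one_mul]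

theorem det_omega {g : isometryGroup F ⇑Q} (hg : g ∈ Omega F ⇑Q) : g.1.val.det = 1 := by
  have := Abelianization.commutator_subset_ker
    (Matrix.GeneralLinearGroup.det.comp (isometryGroup F ⇑Q).subtype) hg
  rw [MonoidHom.mem_ker] at this
  exact congrArg Units.val this

variable {k : ℕ}

theorem scalar_le_Dg (hn : Fintype.card ι = 2 * k) : scalarSub Q ≤ Dg Q k := by
  by_cases h2 : (2 : F) = 0
  · rw [Dg_two Q k h2]; exact le_sup_right
  · rw [Dg_odd Q k h2]
    rintro g ⟨c, hc⟩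
    have hg : g.1 = scl c := hc.symm
    refine ⟨c * c, fun v => ?_, ?_⟩
    · rw [hg, scl_mulVec, QuadraticMap.map_smul, smul_eq_mul, Units.val_mul]
    · rw [hg, scl_val, Matrix.det_smul, Matrix.det_one, mul_one, hn, Units.val_mul, pow_mul, pow_two]

theorem omega_le_Dg : omegaSub Q ≤ Dg Q k := by
  by_cases h2 : (2 : F) = 0
  · rw [Dg_two Q k h2]; exact le_sup_left
  · rw [Dg_odd Q k h2]
    rintro g ⟨t, ht, htg⟩
    have hg : g.1 = t.1 := htg.symm
    refine ⟨1, fun v => ?_, ?_⟩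
    · rw [hg, (mem_isometry_iff Q).1 t.2, Units.val_one, one_mul]
    · rw [hg, det_omega ht, Units.val_one, one_pow]

/-- A reflection as a similarity. -/
def reflG (v : ι → F) (hv : Q v ≠ 0) : GO Q := Subgroup.inclusion (isometry_le_GO Q) (refl Q v hv)

theorem reflG_coe (v : ι → F) (hv : Q v ≠ 0) : (reflG (Q := Q) v hv).1.val = reflectionMatrix ⇑Q v := rfl

theorem det_smul_isometry {g : GO Q} {t : isometryGroup F ⇑Q} (hg : g.1 = t.1) : g.1.val.det = t.1.val.det := by
  rw [hg]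

variable [Fintype F] (hQ : (QuadraticMap.polarBilin Q).Nondegenerate) (hn : Fintype.card ι = 2 * k) (hk : 3 ≤ k)
include hQ hn hk

theorem reflG_notMem (v : ι → F) (hv : Q v ≠ 0) : reflG v hv ∉ Dg Q k := by
  classical
  have : Nonempty ι := Fintype.card_pos_iff.1 (by omega)
  by_cases h2 : (2 : F) = 0
  · have := charTwo_of h2
    rw [Dg_two Q k h2]
    intro hmem
    have hle : omegaSub Q ⊔ scalarSub Q ≤ (simAut Q).ker ⊔ omegaSub Q := by
      rw [ClassicalSimple.ker_simAut Q hQ (by omega), sup_comm]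
    have hnorm : ∀ a ∈ omegaSub Q ⊔ scalarSub Q, ∃ t ∈ omegaSub Q, ∃ s ∈ scalarSub Q, a = t * s := by
      intro a ha
      have hN : (scalarSub Q).Normal := by
        rw [← ClassicalSimple.ker_simAut Q hQ (by omega)]; infer_instance
      rw [Subgroup.mem_sup_of_normal_right] at ha
      obtain ⟨t, ht, s, hs, rfl⟩ := ha
      exact ⟨t, ht, s, hs, rfl⟩
    obtain ⟨t, ⟨t', ht', htt⟩, s, ⟨c, hc⟩, he⟩ := hnorm _ hmem
    have ht1 : t.1 = t'.1 := htt.symm
    have hs1 : s.1 = scl c := hc.symm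
    have hc1 : (c : F) = 1 := by
      have e : ∀ x, Q ((reflG v hv).1.val *ᵥ x) = ((c : F) * c) * Q x := fun x => by
        rw [he, Subgroup.coe_mul, ht1, hs1, Units.val_mul, ← Matrix.mulVec_mulVec, (mem_isometry_iff Q).1 t'.2,
          scl_mulVec, QuadraticMap.map_smul, smul_eq_mul]
      have := isometry_mult (g := reflG v hv) (refl Q v hv).2 hQ e
      rcases mul_self_eq_one_iff.1 this with h | h
      · exact h
      · rw [h, CharTwo.neg_eq]
    have hr : refl Q v hv = t' := Subtype.ext (by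
      have := congrArg Subtype.val he
      rw [Subgroup.coe_mul, ht1, hs1, show c = 1 from Units.ext hc1, map_one, mul_one] at this
      exact this)
    rw [← hr] at ht'
    have := (QForm.mem_omega_iff_even hQ (Or.inr (by omega)) (refl Q v hv) [v]
      (by simpa using hv) (by simp [QForm.refl])).1 ht'
    simp at this
  · rw [Dg_odd Q k h2]
    rintro ⟨c, hc, hd⟩
    have hc1 := isometry_mult (g := reflG v hv) (refl Q v hv).2 hQ hc
    rw [hc1, one_pow, reflG_coe, QForm.det_reflectionMatrix Q hv] at hd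
    exact h2 (by linear_combination -hd)

theorem mem_or_refl_mul (g : GO Q) (v : ι → F) (hv : Q v ≠ 0) : g ∈ Dg Q k ∨ reflG v hv * g ∈ Dg Q k := by
  classical
  have : Nonempty ι := Fintype.card_pos_iff.1 (by omega)
  obtain ⟨c, hc⟩ := g.2
  by_cases h2 : (2 : F) = 0
  · have := charTwo_of h2
    obtain ⟨s, hs⟩ := FiniteField.isSquare_of_char_two (CharP.eq F (ringChar.charP F) inferInstance) (c : F)
    have hs0 : s ≠ 0 := fun e => c.ne_zero (by rw [hs, e, mul_zero])
    set u := Units.mk0 s hs0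
    have hiso : (scalarGO Q u⁻¹ * g).1 ∈ isometryGroup F ⇑Q := by
      refine (mem_isometry_iff Q).2 fun x => ?_
      rw [Subgroup.coe_mul, scalarGO_coe, Units.val_mul, ← Matrix.mulVec_mulVec, scl_mulVec, QuadraticMap.map_smul,
        hc, smul_eq_mul, Units.val_inv_eq_inv_val, Units.val_mk0, hs]
      field_simp
    have hg : g = scalarGO Q u * Subgroup.inclusion (isometry_le_GO Q) (⟨_, hiso⟩ : isometryGroup F ⇑Q) := by
      refine Subtype.ext ?_
      show g.1 = (scalarGO Q u).1 * ((scalarGO Q u⁻¹).1 * g.1)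
      rw [scalarGO_coe, scalarGO_coe, ← mul_assoc, ← map_mul, mul_inv_cancel, map_one, one_mul]
    set t : isometryGroup F ⇑Q := ⟨_, hiso⟩
    have hsc := scalar_le_Dg (Q := Q) (k := k) hn (ClassicalSimple.scalarGO_mem (Q := Q) u)
    have hom : ∀ y : isometryGroup F ⇑Q, y ∈ Omega F ⇑Q → Subgroup.inclusion (isometry_le_GO Q) y ∈ Dg Q k :=
      fun y hy => omega_le_Dg ⟨y, hy, rfl⟩
    obtain ⟨vs, hvs, ht⟩ := QForm.exists_list hQ (Or.inr (by omega)) t
    rcases Nat.even_or_odd vs.length with he | ho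
    · exact Or.inl (hg ▸ mul_mem hsc (hom t ((QForm.mem_omega_iff_even hQ (Or.inr (by omega)) t vs hvs ht).2 he)))
    · refine Or.inr ?_
      have hmem : refl Q v hv * t ∈ Omega F ⇑Q := (QForm.mem_omega_iff_even hQ (Or.inr (by omega)) _ (v :: vs)
        (List.forall_mem_cons.2 ⟨hv, hvs⟩) (by rw [List.map_cons, List.prod_cons, ← ht]; rfl)).2
          (by rw [List.length_cons]; exact ho.add_one)
      have e : reflG v hv * g = scalarGO Q u * Subgroup.inclusion (isometry_le_GO Q) (refl Q v hv * t) := by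
        rw [map_mul, ← mul_assoc, show scalarGO Q u * Subgroup.inclusion (isometry_le_GO Q) (refl Q v hv) =
          reflG v hv * scalarGO Q u from Subtype.ext (scl_commute u _), mul_assoc, ← hg]
      rw [e]
      exact mul_mem hsc (hom _ hmem)
  · rw [Dg_odd Q k h2]
    have E : ClassicalSimple.EvenForm Q k := ⟨h2, hQ, hn, hk⟩
    have hm : (ClassicalSimple.mult g : F) = c := ClassicalSimple.mult_eq E g c hc
    have hd : ∀ e : F, ClassicalSimple.dsign k g = e → g.1.val.det = e * (c : F) ^ k := fun e he => by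
      rw [← he, ClassicalSimple.dsign, Units.val_pow_eq_pow_val, Units.val_inv_eq_inv_val, hm, mul_assoc, ← mul_pow,
        inv_mul_cancel₀ c.ne_zero, one_pow, mul_one]
    rcases ClassicalSimple.dsign_pm E g with h | h
    · exact Or.inl ⟨c, hc, by rw [hd 1 h, one_mul]⟩
    · refine Or.inr ⟨c, fun x => ?_, ?_⟩
      · rw [Subgroup.coe_mul, Units.val_mul, ← Matrix.mulVec_mulVec,
          show Q ((reflG v hv).1.val *ᵥ (g.1.val *ᵥ x)) = Q (g.1.val *ᵥ x) from
            (mem_isometry_iff Q).1 (refl Q v hv).2 _, hc]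
      · rw [Subgroup.coe_mul, Units.val_mul, Matrix.det_mul, reflG_coe, QForm.det_reflectionMatrix Q hv, hd _ h]
        ring

theorem exists_reflG : ∃ (v : ι → F) (hv : Q v ≠ 0), reflG (Q := Q) v hv ∉ Dg Q k := by
  obtain ⟨v, hv⟩ := QForm.exists_ne_zero hQ (by omega : 1 ≤ Fintype.card ι)
  exact ⟨v, hv, reflG_notMem hQ hn hk v hv⟩

theorem mul_mem_Dg_iff (g h : GO Q) : g * h ∈ Dg Q k ↔ (g ∈ Dg Q k ↔ h ∈ Dg Q k) := by
  obtain ⟨v, hv, hr⟩ := exists_reflG hQ hn hk
  set r : GO Q := reflG v hv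
  set D := Dg Q k
  have hrr : r * r = 1 := by
    have := QForm.refl_mul_self Q v hv
    exact Subtype.ext (congrArg (fun x : isometryGroup F ⇑Q => x.1) this)
  have hrinv : r⁻¹ = r := inv_eq_of_mul_eq_one_right hrr
  have hl : ∀ a, a ∉ D → r * a ∈ D := fun a ha => (mem_or_refl_mul hQ hn hk a v hv).resolve_left ha
  have hrt : ∀ a, a ∉ D → a * r ∈ D := fun a ha => by
    have := D.inv_mem (hl a⁻¹ fun h' => ha (by simpa using D.inv_mem h'))
    rwa [mul_inv_rev, inv_inv, hrinv] at this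
  by_cases hg : g ∈ D <;> by_cases hh : h ∈ D
  · exact iff_of_true (mul_mem hg hh) (iff_of_true hg hh)
  · exact iff_of_false (fun e => hh (by simpa using mul_mem (inv_mem hg) e)) fun e => hh (e.1 hg)
  · exact iff_of_false (fun e => hg (by simpa using mul_mem e (inv_mem hh))) fun e => hg (e.2 hh)
  · refine iff_of_true ?_ (iff_of_false hg hh)
    have := mul_mem (hrt g hg) (hl h hh)
    rwa [mul_assoc, ← mul_assoc r, hrr, one_mul] at this

end Basic

section Transfer

variable {ι : Type} [Fintype ι] [DecidableEq ι] {F : Type*} [Field F] {F₀ : Type*} [Field F₀]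
variable {Q : QuadraticForm F (ι → F)} {Q₀ : QuadraticForm F₀ (ι → F₀)}
variable (f : F₀ →+* F) (J : GL ι F) (u : Fˣ) (hJ : ∀ w, Q (J.val *ᵥ (f ∘ w)) = (u : F) * f (Q₀ w))
include hJ

/-- The multiplier of an image. -/
theorem emb_mult (g : GO Q₀) {c : F₀} (hc : ∀ v, Q₀ (g.1.val *ᵥ v) = c * Q₀ v) (v : ι → F) :
    Q ((embGO f J u hJ g).1.val *ᵥ v) = f c * Q v := by
  have key : Q.comp (Matrix.toLin' (J * Matrix.GeneralLinearGroup.map f g.1).val) =
      (f c) • Q.comp (Matrix.toLin' J.val) := by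
    refine form_ext f fun w => ?_
    rw [smul_apply, QuadraticMap.comp_apply, QuadraticMap.comp_apply, Matrix.toLin'_apply, Matrix.toLin'_apply,
      smul_eq_mul, Units.val_mul, ← Matrix.mulVec_mulVec,
      show (Matrix.GeneralLinearGroup.map f g.1).val *ᵥ (f ∘ w) = f ∘ (g.1.val *ᵥ w) from
        funext fun i => (RingHom.map_mulVec f g.1.val w i).symm, hJ, hc, hJ, map_mul]
    ring
  have := congrArg (fun D : QuadraticForm F (ι → F) => D ((J⁻¹).val *ᵥ v)) key
  simp only [smul_apply, QuadraticMap.comp_apply, Matrix.toLin'_apply, smul_eq_mul, Matrix.mulVec_mulVec,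
    ← Units.val_mul, mul_inv_cancel, Units.val_one, Matrix.one_mulVec] at this
  exact this

theorem emb_det (g : GO Q₀) : (embGO f J u hJ g).1.val.det = f g.1.val.det := by
  rw [embGO_coe, Units.val_mul, Units.val_mul, Matrix.det_mul, Matrix.det_mul]
  have h := congrArg Matrix.det (Units.mul_inv J)
  rw [Matrix.det_mul, Matrix.det_one] at h
  rw [show (Matrix.GeneralLinearGroup.map f g.1).val.det = f g.1.val.det from (RingHom.map_det f _).symm]
  linear_combination f g.1.val.det * h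

theorem emb_reflG (v : ι → F₀) (hv : Q₀ v ≠ 0) :
    ∃ (hw : Q (J.val *ᵥ (f ∘ v)) ≠ 0), embGO f J u hJ (reflG v hv) = reflG (J.val *ᵥ (f ∘ v)) hw := by
  have hw : Q (J.val *ᵥ (f ∘ v)) ≠ 0 := by
    rw [hJ]; exact mul_ne_zero u.ne_zero ((map_ne_zero f).2 hv)
  refine ⟨hw, Subtype.ext ?_⟩
  set R := (reflG (J.val *ᵥ (f ∘ v)) hw : GO Q).1
  suffices e : J * Matrix.GeneralLinearGroup.map f (reflG v hv).1 = R * J by
    rw [embGO_coe, e, mul_inv_cancel_right]
  refine Units.ext (Matrix.ext_of_mulVec_single fun i => ?_)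
  rw [single_eq_comp f, Units.val_mul, Units.val_mul, ← Matrix.mulVec_mulVec, ← Matrix.mulVec_mulVec,
    show (Matrix.GeneralLinearGroup.map f (reflG v hv).1).val *ᵥ (f ∘ Pi.single i 1) =
      f ∘ ((reflG v hv).1.val *ᵥ Pi.single i 1) from funext fun j => (RingHom.map_mulVec f _ _ j).symm]
  show J.val *ᵥ (f ∘ (reflectionMatrix ⇑Q₀ v *ᵥ Pi.single i 1)) =
    reflectionMatrix ⇑Q (J.val *ᵥ (f ∘ v)) *ᵥ (J.val *ᵥ (f ∘ Pi.single i 1))
  set x : ι → F₀ := Pi.single i 1
  have hp : QuadraticMap.polar ⇑Q (J.val *ᵥ (f ∘ v)) (J.val *ᵥ (f ∘ x)) =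
      (u : F) * f (QuadraticMap.polar ⇑Q₀ v x) := by
    simp only [QuadraticMap.polar, ← Matrix.mulVec_add, ← comp_add, hJ, map_sub]
    ring
  rw [QForm.reflectionMatrix_mulVec, QForm.reflectionMatrix_mulVec, hp, hJ,
    show ((u : F) * f (Q₀ v))⁻¹ * ((u : F) * f (QuadraticMap.polar ⇑Q₀ v x)) =
      f ((Q₀ v)⁻¹ * QuadraticMap.polar ⇑Q₀ v x) by
      rw [map_mul, map_inv₀]; have := u.ne_zero; field_simp]
  set a := (Q₀ v)⁻¹ * QuadraticMap.polar ⇑Q₀ v x
  rw [← Matrix.mulVec_smul, ← Matrix.mulVec_sub]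
  congr 1
  funext j
  simp

theorem emb_scalar (c : F₀ˣ) : embGO f J u hJ (scalarGO Q₀ c) = scalarGO Q (Units.map (f : F₀ →* F) c) := by
  have e : Matrix.GeneralLinearGroup.map f (scl c : GL ι F₀) = scl (Units.map (f : F₀ →* F) c) := by
    refine Units.ext (Matrix.ext fun i j => ?_)
    show f ((scl c : GL ι F₀).val i j) = _
    rw [scl_val, scl_val]
    rcases eq_or_ne i j with rfl | h <;> simp [*]
  refine Subtype.ext ?_
  rw [embGO_coe, scalarGO_coe, scalarGO_coe, e, ← scl_commute, mul_inv_cancel_right]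

theorem emb_mem_Dg [Nonempty ι] (hQ₀ : (QuadraticMap.polarBilin Q₀).Nondegenerate) {k : ℕ} {g : GO Q₀}
    (hg : g ∈ Dg Q₀ k) : embGO f J u hJ g ∈ Dg Q k := by
  by_cases h2 : (2 : F₀) = 0
  · have h2F : (2 : F) = 0 := by rw [← map_ofNat f 2, h2, map_zero]
    rw [Dg_two Q₀ k h2] at hg
    rw [Dg_two Q k h2F]
    revert g
    show omegaSub Q₀ ⊔ scalarSub Q₀ ≤ (omegaSub Q ⊔ scalarSub Q).comap (embGO f J u hJ)
    refine sup_le ?_ ?_
    · let ψ : isometryGroup F₀ ⇑Q₀ →* isometryGroup F ⇑Q :=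
        ((embGO f J u hJ).comp (Subgroup.inclusion (isometry_le_GO Q₀))).codRestrict
          ((isometryGroup F ⇑Q).subgroupOf (GO Q)) (fun a => (mem_isometry_iff Q).2 fun v => by
            show Q ((embGO f J u hJ (Subgroup.inclusion (isometry_le_GO Q₀) a)).1.val *ᵥ v) = Q v
            rw [emb_mult f J u hJ _ (c := 1) (fun w => by
              rw [one_mul]; exact (mem_isometry_iff Q₀).1 a.2 w), map_one, one_mul])
        |> (Subgroup.subgroupOfEquivOfLe (isometry_le_GO Q)).toMonoidHom.comp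
      rintro g ⟨t, ht, htg⟩
      have hle : (commutator (isometryGroup F₀ ⇑Q₀)).map ψ ≤ commutator (isometryGroup F ⇑Q) := by
        rw [commutator_def, commutator_def, Subgroup.map_commutator]
        exact Subgroup.commutator_mono le_top le_top
      refine Subgroup.mem_sup_left ⟨ψ t, hle ⟨t, ht, rfl⟩, ?_⟩
      show (embGO f J u hJ (Subgroup.inclusion (isometry_le_GO Q₀) t)).1 = (embGO f J u hJ g).1
      rw [show Subgroup.inclusion (isometry_le_GO Q₀) t = g from Subtype.ext htg]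
    · rintro g ⟨c, hc⟩
      rw [show g = scalarGO Q₀ c from Subtype.ext hc.symm, Subgroup.mem_comap, emb_scalar]
      exact Subgroup.mem_sup_right (ClassicalSimple.scalarGO_mem _)
  · have h2F : (2 : F) ≠ 0 := fun e => h2 (f.injective (by rw [map_ofNat, e, map_zero]))
    rw [Dg_odd Q₀ k h2] at hg
    rw [Dg_odd Q k h2F]
    obtain ⟨c, hc, hd⟩ := hg
    exact ⟨Units.map (f : F₀ →* F) c, fun v => emb_mult f J u hJ g hc v,
      by rw [emb_det, hd, map_pow]; rfl⟩

/-- Maps coming from field maps respect the inner-diagonal similarities. -/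
theorem emb_mem_Dg_iff [Fintype F] [Fintype F₀] (hQ : (QuadraticMap.polarBilin Q).Nondegenerate)
    (hQ₀ : (QuadraticMap.polarBilin Q₀).Nondegenerate) {k : ℕ} (hn : Fintype.card ι = 2 * k) (hk : 3 ≤ k)
    (g : GO Q₀) : embGO f J u hJ g ∈ Dg Q k ↔ g ∈ Dg Q₀ k := by
  have : Nonempty ι := Fintype.card_pos_iff.1 (by omega)
  refine ⟨fun h => ?_, emb_mem_Dg f J u hJ hQ₀⟩
  obtain ⟨v, hv, -⟩ := exists_reflG hQ₀ hn hk
  refine (mem_or_refl_mul hQ₀ hn hk g v hv).resolve_right fun h' => ?_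
  obtain ⟨hw, e⟩ := emb_reflG f J u hJ v hv
  have := emb_mem_Dg f J u hJ hQ₀ h'
  rw [map_mul, e, mul_mem_Dg_iff hQ hn hk] at this
  exact reflG_notMem hQ hn hk _ hw (this.2 h)

end Transfer

end Cfsg.Agent.AutPO
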