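import Cfsg.Agent.Lib.ClassicalSimple.SimilarityAut

/-!
Automorphisms of `POmega` induced by semisimilarities; field automorphisms of forms fixed by the field
automorphism.
-/

set_option autoImplicit false

namespace Cfsg.Agent.AutPO

open scoped Matrix MatrixGroups
open ClassicalSimple (GO simAut commutatorAut centreQuotAut mem_isometry_iff simAut_mk)

variable {ι : Type} [Fintype ι] [DecidableEq ι] {F : Type*} [Field F] [Finite F]
variable {Q : QuadraticForm F (ι → F)}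

/-- A field automorphism applied entrywise. -/
abbrev gmap (σ : F ≃+* F) : GL ι F →* GL ι F := Matrix.GeneralLinearGroup.map σ.toRingHom

omit [Finite F] in
theorem gmap_val (σ : F ≃+* F) (g : GL ι F) : (gmap σ g).val = g.val.map σ := rfl

omit [Finite F] in
theorem gmap_one (g : GL ι F) : gmap (1 : F ≃+* F) g = g := Units.ext (Matrix.ext fun _ _ => rfl)

omit [Finite F] in
theorem gmap_mul (σ τ : F ≃+* F) (g : GL ι F) : gmap (σ * τ) g = gmap σ (gmap τ g) :=
  Units.ext (Matrix.ext fun _ _ => rfl)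

omit [Finite F] in
theorem gmap_injective (σ : F ≃+* F) : Function.Injective (gmap (ι := ι) σ) := fun a b h =>
  Units.ext (Matrix.map_injective σ.injective (congrArg Units.val h))

omit [Finite F] in
theorem gmap_mulVec (σ : F ≃+* F) (g : GL ι F) (v : ι → F) :
    (gmap σ g).val *ᵥ (σ ∘ v) = σ ∘ (g.val *ᵥ v) :=
  funext fun i => (RingHom.map_mulVec σ.toRingHom g.val v i).symm

/-- `σ` commutes with `Q`. -/
def Fixes (Q : QuadraticForm F (ι → F)) (σ : F ≃+* F) : Prop := ∀ v, Q (σ ∘ v) = σ (Q v)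

/-- `v ↦ g σ(v)` multiplies `Q` by a scalar. -/
abbrev Semi (Q : QuadraticForm F (ι → F)) (g : GL ι F) (σ : F ≃+* F) : Prop := IsSemisimilarityPair ⇑Q g σ

omit [Finite F] in
theorem semi_mul_gmap {g : GL ι F} {σ : F ≃+* F} (hp : Semi Q g σ) (h : GO Q) :
    g * gmap σ h.1 * g⁻¹ ∈ GO Q := by
  obtain ⟨c, hc⟩ := hp
  obtain ⟨d, hd⟩ := h.2
  refine ⟨Units.map (σ : F →* F) d, fun v => ?_⟩
  obtain ⟨w, hw⟩ : ∃ w, g.val *ᵥ (σ ∘ w) = v :=
    ⟨σ.symm ∘ ((g⁻¹).val *ᵥ v), by
      rw [show σ ∘ σ.symm ∘ ((g⁻¹).val *ᵥ v) = (g⁻¹).val *ᵥ v from funext fun i => σ.apply_symm_apply _,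
        Matrix.mulVec_mulVec, ← Units.val_mul, mul_inv_cancel, Units.val_one, Matrix.one_mulVec]⟩
  subst hw
  rw [Units.val_mul, ← Matrix.mulVec_mulVec, Matrix.mulVec_mulVec (M := (g⁻¹).val), ← Units.val_mul,
    inv_mul_cancel, Units.val_one, Matrix.one_mulVec, Units.val_mul, ← Matrix.mulVec_mulVec, gmap_mulVec]
  refine (hc _).trans ?_
  rw [hd, map_mul, show Q (g.val *ᵥ (σ ∘ w)) = (c : F) * σ (Q w) from hc w]
  simp only [Units.coe_map, MonoidHom.coe_coe]
  ring

omit [Finite F] in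
theorem semi_isometry {g : GL ι F} {σ : F ≃+* F} (hp : Semi Q g σ) (s : isometryGroup F ⇑Q) :
    g * gmap σ s.1 * g⁻¹ ∈ isometryGroup F ⇑Q := by
  obtain ⟨c, hc⟩ := hp
  refine (mem_isometry_iff Q).2 fun v => ?_
  obtain ⟨w, hw⟩ : ∃ w, g.val *ᵥ (σ ∘ w) = v :=
    ⟨σ.symm ∘ ((g⁻¹).val *ᵥ v), by
      rw [show σ ∘ σ.symm ∘ ((g⁻¹).val *ᵥ v) = (g⁻¹).val *ᵥ v from funext fun i => σ.apply_symm_apply _,
        Matrix.mulVec_mulVec, ← Units.val_mul, mul_inv_cancel, Units.val_one, Matrix.one_mulVec]⟩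
  subst hw
  rw [Units.val_mul, ← Matrix.mulVec_mulVec, Matrix.mulVec_mulVec (M := (g⁻¹).val), ← Units.val_mul,
    inv_mul_cancel, Units.val_one, Matrix.one_mulVec, Units.val_mul, ← Matrix.mulVec_mulVec, gmap_mulVec]
  refine (hc _).trans ?_
  rw [(mem_isometry_iff Q).1 s.2]
  exact (hc w).symm

/-- A semisimilarity acting on the isometry group. -/
def semiHom {g : GL ι F} {σ : F ≃+* F} (hp : Semi Q g σ) : isometryGroup F ⇑Q →* isometryGroup F ⇑Q where
  toFun s := ⟨g * gmap σ s.1 * g⁻¹, semi_isometry hp s⟩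
  map_one' := Subtype.ext (by simp)
  map_mul' s t := Subtype.ext (by simp [map_mul, mul_assoc])

/-- A semisimilarity as an automorphism of the isometry group. -/
noncomputable def semiI {g : GL ι F} {σ : F ≃+* F} (hp : Semi Q g σ) : MulAut (isometryGroup F ⇑Q) :=
  MulEquiv.ofBijective (semiHom hp) (Finite.injective_iff_bijective.1 fun s t h => by
    have h' : g * gmap σ s.1 * g⁻¹ = g * gmap σ t.1 * g⁻¹ := congrArg Subtype.val h
    exact Subtype.ext (gmap_injective σ (mul_left_cancel (mul_right_cancel h'))))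

theorem semiI_coe {g : GL ι F} {σ : F ≃+* F} (hp : Semi Q g σ) (s : isometryGroup F ⇑Q) :
    (semiI hp s).1 = g * gmap σ s.1 * g⁻¹ := rfl

/-- A semisimilarity acting on `POmega`. -/
noncomputable def semiA {g : GL ι F} {σ : F ≃+* F} (hp : Semi Q g σ) : MulAut (POmega F ⇑Q) :=
  centreQuotAut (commutatorAut (semiI hp))

theorem semiA_mk {g : GL ι F} {σ : F ≃+* F} (hp : Semi Q g σ) (s : Omega F ⇑Q) :
    semiA hp (QuotientGroup.mk s) = QuotientGroup.mk (commutatorAut (semiI hp) s) := rfl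

theorem isInduced_semiA {g : GL ι F} {σ : F ≃+* F} (hp : Semi Q g σ) :
    IsInducedBySemilinearPOmega ⇑Q g σ (semiA hp) := by
  intro s s' e
  rw [semiA_mk]
  exact congrArg _ (Subtype.ext (Subtype.ext (Units.ext e.symm)))

theorem eq_semiA {g : GL ι F} {σ : F ≃+* F} (hp : Semi Q g σ) {β : MulAut (POmega F ⇑Q)}
    (h : IsInducedBySemilinearPOmega ⇑Q g σ β) : β = semiA hp := by
  refine MulEquiv.ext fun x => QuotientGroup.induction_on x fun s => ?_
  rw [semiA_mk]
  exact h s _ rfl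

/-- Semisimilarities normalise the image of the similarities. -/
theorem semiA_mul_simAut {g : GL ι F} {σ : F ≃+* F} (hp : Semi Q g σ) (h : GO Q) :
    semiA hp * simAut Q h = simAut Q ⟨_, semi_mul_gmap hp h⟩ * semiA hp := by
  refine MulEquiv.ext fun x => QuotientGroup.induction_on x fun s => ?_
  rw [MulAut.mul_apply, MulAut.mul_apply, simAut_mk, semiA_mk, semiA_mk, simAut_mk]
  refine congrArg _ (Subtype.ext (Subtype.ext ?_))
  show g * gmap σ (h.1 * s.1.1 * h.1⁻¹) * g⁻¹ =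
    g * gmap σ h.1 * g⁻¹ * (g * gmap σ s.1.1 * g⁻¹) * (g * gmap σ h.1 * g⁻¹)⁻¹
  rw [map_mul, map_mul, map_inv]
  group

section Field

variable {σ : F ≃+* F} (hσ : Fixes Q σ)
include hσ

omit [Finite F] in
theorem semi_one : Semi Q 1 σ := ⟨1, fun v => by
  show Q ((1 : GL ι F).val *ᵥ (σ ∘ v)) = _
  rw [Units.val_one, Matrix.one_mulVec, hσ, Units.val_one, one_mul]⟩

omit [Finite F] in
theorem gmap_mem (h : GO Q) : gmap σ h.1 ∈ GO Q := by
  simpa using semi_mul_gmap (semi_one hσ) h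

omit [Finite F] in
theorem semi_pair (g : GO Q) : Semi Q g.1 σ := by
  obtain ⟨c, hc⟩ := g.2
  exact ⟨c, fun v => by rw [show (fun i => σ (v i)) = σ ∘ v from rfl, hc, hσ]⟩

/-- A field automorphism on the similarities. -/
def mapGO : GO Q →* GO Q where
  toFun g := ⟨_, gmap_mem hσ g⟩
  map_one' := Subtype.ext (map_one _)
  map_mul' _ _ := Subtype.ext (map_mul _ _ _)

omit [Finite F] in
theorem mapGO_coe (g : GO Q) : (mapGO hσ g).1 = gmap σ g.1 := rfl

/-- The standard field automorphism of `POmega`. -/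
noncomputable def fieldA : MulAut (POmega F ⇑Q) := semiA (semi_one hσ)

theorem eq_fieldA {β : MulAut (POmega F ⇑Q)} (h : IsFieldAutPOmegaOf ⇑Q σ β) : β = fieldA hσ := by
  refine eq_semiA _ fun s s' e => h s s' ?_
  simpa using e

theorem fieldA_mul_simAut (g : GO Q) : fieldA hσ * simAut Q g = simAut Q (mapGO hσ g) * fieldA hσ := by
  rw [fieldA, semiA_mul_simAut]
  congr 2
  exact Subtype.ext (by simp [mapGO_coe])

theorem simAut_mul_fieldA (g : GO Q) : simAut Q g * fieldA hσ = semiA (semi_pair hσ g) := by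
  refine eq_semiA _ fun s s' e => ?_
  rw [MulAut.mul_apply, fieldA, semiA_mk, simAut_mk]
  refine congrArg _ (Subtype.ext (Subtype.ext (Units.ext ?_)))
  show (g.1 * (1 * gmap σ s.1.1 * 1⁻¹) * g.1⁻¹).val = _
  rw [e]
  simp

theorem semiI_pow_coe (s : isometryGroup F ⇑Q) :
    ∀ k, ((semiI (semi_one hσ) ^ k : MulAut (isometryGroup F ⇑Q)) s).1 = gmap (σ ^ k) s.1
  | 0 => by rw [pow_zero, pow_zero, gmap_one]; rfl
  | k + 1 => by
    rw [pow_succ', MulAut.mul_apply, semiI_coe, semiI_pow_coe s k, ← gmap_mul, ← pow_succ']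
    simp

theorem fieldA_pow_mk (k : ℕ) (s : Omega F ⇑Q) :
    (fieldA hσ ^ k) (QuotientGroup.mk s) =
      QuotientGroup.mk (commutatorAut (semiI (semi_one hσ) ^ k) s) := by
  rw [fieldA, semiA, ← map_pow, ← map_pow]
  rfl

theorem fieldA_pow_eq_one {k : ℕ} (hk : σ ^ k = 1) : fieldA hσ ^ k = 1 := by
  rw [fieldA, semiA, ← map_pow, ← map_pow,
    show semiI (semi_one hσ) ^ k = 1 from MulEquiv.ext fun s => Subtype.ext (by
      rw [semiI_pow_coe hσ, hk, gmap_one]; rfl), map_one, map_one]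

end Field

end Cfsg.Agent.AutPO
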