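import Cfsg.Agent.Lib.AutPO.Class
import Cfsg.Agent.Lib.AutPO.Even
import Cfsg.Agent.Lib.AutPOmega.Out
import Cfsg.Agent.Lib.LocalBalance.Criterion
import Cfsg.Agent.Lib.QForm.OmegaQuot

/-!
Local balance at a (twisted) field automorphism of `POmega`: the centraliser has trivial `p'`-core as soon as `p`
divides the number of fixed points.
-/

set_option autoImplicit false
set_option maxHeartbeats 400000

namespace Cfsg.Agent.AutPO

open scoped Matrix MatrixGroups
open ClassicalSimple (GO simAut scalarSub omegaSub ker_simAut inn_eq bil)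
open LocalBalance (fixK mem_fixK mul_conj)
open AutPOmega (AutData Probe semiA_mul semi_mul semi_GO simAut_eq_semiA sigma_unique center_POmega)

section Group

variable {K : Type*} [Group K]

theorem conj_injective_of_center (hc : Subgroup.center K = ⊥) :
    Function.Injective (MulAut.conj : K → MulAut K) := by
  refine (injective_iff_map_eq_one _).2 fun k hk => Subgroup.mem_bot.1 (hc ▸ ?_)
  refine Subgroup.mem_center_iff.2 fun z => ?_
  have h : k * z * k⁻¹ = z := MulEquiv.congr_fun hk z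
  exact (mul_inv_eq_iff_eq_mul.1 h).symm

theorem commute_conj_iff (hinj : Function.Injective (MulAut.conj : K → MulAut K)) {x : MulAut K} {k : K} :
    Commute (MulAut.conj k) x ↔ k ∈ fixK x :=
  ⟨fun h => (hinj (mul_right_cancel (h.eq.trans (mul_conj x k)))).symm, LocalBalance.commute_conj⟩

/-- A group of automorphisms of order prime to `p` normalised by the inner ones is trivial, if `p` divides the
order of the simple group. -/
theorem eq_bot_of_normalised [Finite K] (hs : IsSimpleGroup K)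
    (hinj : Function.Injective (MulAut.conj : K → MulAut K)) {p : ℕ} [Fact p.Prime] (hp : p ∣ Nat.card K)
    (L : Subgroup (MulAut K)) (hco : (Nat.card L).Coprime p)
    (hn : ∀ (k : K), ∀ l ∈ L, MulAut.conj k * l * (MulAut.conj k)⁻¹ ∈ L) : L = ⊥ := by
  haveI : (L.comap MulAut.conj).Normal := ⟨fun x hx y => by
    rw [Subgroup.mem_comap, map_mul, map_mul, map_inv]
    exact hn y _ hx⟩
  have hbot : L.comap MulAut.conj = ⊥ := by
    refine (hs.eq_bot_or_eq_top_of_normal _ inferInstance).resolve_right fun h => ?_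
    have h1 : Nat.card K ∣ Nat.card L := by
      have := Subgroup.card_comap_dvd_of_injective L (MulAut.conj : K →* MulAut K) hinj
      rwa [h, Subgroup.card_top] at this
    exact (Fact.out : p.Prime).coprime_iff_not_dvd.1 hco.symm (hp.trans h1)
  refine eq_bot_iff.2 fun l hl => Subgroup.mem_bot.2 (MulEquiv.ext fun k => ?_)
  have h : k * l k⁻¹ ∈ L.comap MulAut.conj := by
    rw [Subgroup.mem_comap, map_mul, show MulAut.conj k * MulAut.conj (l k⁻¹) =
      MulAut.conj k * l * (MulAut.conj k)⁻¹ * l⁻¹ by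
        rw [mul_assoc _ l, ← map_inv, mul_conj l k⁻¹, mul_assoc, mul_inv_cancel_right]]
    exact L.mul_mem (hn k l hl) (L.inv_mem hl)
  rw [hbot, Subgroup.mem_bot, map_inv, mul_inv_eq_one] at h
  exact h.symm

/-- The core of a group that embeds as a group of automorphisms containing the inner ones of a simple group, read
through two homomorphisms with the same kernel. -/
theorem pPrimeCore_eq_bot_of_hom {G Y A : Type*} [Group G] [Group Y] [Group A] [Finite G] [Finite K]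
    (hs : IsSimpleGroup K) (hinj : Function.Injective (MulAut.conj : K → MulAut K)) {p : ℕ} [Fact p.Prime]
    (hp : p ∣ Nat.card K) (e : G →* Y) (he : Function.Injective e) (θ : A →* Y) (φ : A →* MulAut K)
    (hker : θ.ker = φ.ker) (hrange : ∀ x, e x ∈ θ.range) (hinn : ∀ k, ∃ a, φ a = MulAut.conj k ∧ θ a ∈ e.range) :
    Cfsg.pPrimeCore p G = ⊥ := by
  set L := Cfsg.pPrimeCore p G
  set M : Subgroup A := (L.map e).comap θ
  have hL₀ : M.map φ = ⊥ := by
    refine eq_bot_of_normalised hs hinj hp _ ?_ ?_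
    · obtain ⟨E⟩ := nonempty_map_equiv φ θ hker.symm M
      rw [Nat.card_congr E.toEquiv, show M.map θ = L.map e from Subgroup.map_comap_eq_self
        (Subgroup.map_le_iff_le_comap.2 fun x _ => hrange x), Subgroup.card_map_of_injective he]
      exact PCore.coprime_card_pPrimeCore
    · rintro k _ ⟨d, hd, rfl⟩
      obtain ⟨a, ha, g, hg⟩ := hinn k
      obtain ⟨n, hn, hne⟩ := hd
      refine ⟨a * d * a⁻¹, ⟨g * n * g⁻¹, Subgroup.Normal.conj_mem inferInstance n hn _, ?_⟩, ?_⟩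
      · rw [map_mul, map_mul, map_inv, hne, hg, map_mul, map_mul, map_inv]
      · rw [map_mul, map_mul, map_inv, ha]
  refine eq_bot_iff.2 fun x hx => Subgroup.mem_bot.2 (he ?_)
  obtain ⟨a, ha⟩ := hrange x
  have hmem : φ a ∈ M.map φ := ⟨a, ⟨x, hx, ha.symm⟩, rfl⟩
  rw [hL₀, Subgroup.mem_bot, ← MonoidHom.mem_ker, ← hker, MonoidHom.mem_ker, ha] at hmem
  rw [hmem, map_one]

theorem card_map_comap_range {G Y A B : Type*} [Group G] [Group Y] [Group A] [Group B] (e : G →* Y)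
    (he : Function.Injective e) (θ : A →* Y) (φ : A →* B) (hker : θ.ker = φ.ker)
    (hrange : ∀ x, e x ∈ θ.range) : Nat.card ↥((e.range.comap θ).map φ) = Nat.card G := by
  obtain ⟨E⟩ := nonempty_map_equiv φ θ hker.symm (e.range.comap θ)
  rw [Nat.card_congr E.toEquiv, Subgroup.map_comap_eq_self (by rintro _ ⟨x, rfl⟩; exact hrange x),
    ← Nat.card_congr (MonoidHom.ofInjective he).toEquiv]

/-- An automorphism of coprime order fixing the fixed field of `σ` is trivial. -/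
theorem eq_one_of_fix_field {F : Type*} [Field F] [Finite F] {σ τ : F ≃+* F} {p k : ℕ} (hσ : orderOf σ = p)
    (hτ : ∀ t, σ t = t → τ t = t) (hk : τ ^ k = 1) (hco : k.Coprime p) : τ = 1 := by
  haveI := Fintype.ofFinite F
  haveI := FieldExt.finite_ringAut (F := F)
  let τ' : F ≃ₐ[FixedPoints.subfield (Subgroup.zpowers σ) F] F :=
    AlgEquiv.ofRingEquiv (f := τ) fun t => hτ _ (t.2 ⟨σ, Subgroup.mem_zpowers σ⟩)
  obtain ⟨g, hg⟩ := FixedPoints.toAlgAut_surjective (Subgroup.zpowers σ) F τ'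
  have hmem : τ ∈ Subgroup.zpowers σ :=
    (RingEquiv.ext fun t => DFunLike.congr_fun hg t : (g : F ≃+* F) = τ) ▸ g.2
  have h := Nat.dvd_gcd (orderOf_dvd_of_pow_eq_one hk) (hσ ▸ orderOf_dvd_of_mem_zpowers hmem)
  rw [hco.gcd_eq_one, Nat.dvd_one, orderOf_eq_one_iff] at h
  exact h

end Group

variable {ι : Type} [Fintype ι] [DecidableEq ι] {F : Type*} [Field F] [Fintype F]
variable {Q : QuadraticForm F (ι → F)}

/-- The square of an element of the similarities is a scalar times an isometry; its fourth power is in `Omega`. -/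
theorem pow_four_mem (hQ : (QuadraticMap.polarBilin Q).Nondegenerate) (h5 : 5 ≤ Fintype.card ι) (g : GO Q) :
    g ^ 4 ∈ omegaSub Q ⊔ scalarSub Q := by
  obtain ⟨c, hc⟩ := g.2
  set s : GO Q := ClassicalSimple.scalarGO Q c
  have hiso : (s⁻¹ * (g * g)).1 ∈ isometryGroup F ⇑Q := by
    refine (ClassicalSimple.mem_isometry_iff Q).2 fun x => ?_
    have hs : (s⁻¹ : GO Q).1 = scl c⁻¹ := by
      rw [Subgroup.coe_inv, show s.1 = scl c from rfl, map_inv]
    rw [Subgroup.coe_mul, Subgroup.coe_mul, hs, Units.val_mul, Units.val_mul, ← Matrix.mulVec_mulVec,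
      ← Matrix.mulVec_mulVec, scl_mulVec, QuadraticMap.map_smul, hc, hc, smul_eq_mul,
      Units.val_inv_eq_inv_val]
    field_simp
  set y : isometryGroup F ⇑Q := ⟨_, hiso⟩
  have hy : y * y ∈ commutator (isometryGroup F ⇑Q) := by
    rw [← Abelianization.ker_of, MonoidHom.mem_ker, map_mul]
    exact QForm.of_mul_self hQ (Or.inr (by omega)) y
  have hg : g * g = s * (s⁻¹ * (g * g)) := (mul_inv_cancel_left _ _).symm
  have hsm : s ∈ scalarSub Q := ClassicalSimple.scalarGO_mem (Q := Q) c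
  have hcomm : Commute s (s⁻¹ * (g * g)) := by
    refine Subtype.ext ?_
    simp only [Subgroup.coe_mul]
    exact scl_commute c _
  rw [show g ^ 4 = g * g * (g * g) by rw [show 4 = 2 + 2 from rfl, pow_add, pow_two]]
  rw [hg, hcomm.symm.mul_mul_mul_comm]
  exact Subgroup.mul_mem _ (Subgroup.mem_sup_right (mul_mem hsm hsm))
    (Subgroup.mem_sup_left ⟨y * y, hy, rfl⟩)

/-- An odd prime dividing the order of a group of similarities modulo scalars divides the order of `POmega`. -/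
theorem dvd_card_POmega (hQ : (QuadraticMap.polarBilin Q).Nondegenerate) (h5 : 5 ≤ Fintype.card ι) {p : ℕ}
    [Fact p.Prime] (hp : p ≠ 2) (H : Subgroup (GO Q)) (h : p ∣ Nat.card (H.map (simAut Q))) :
    p ∣ Nat.card (POmega F ⇑Q) := by
  obtain ⟨x, hx⟩ := exists_prime_orderOf_dvd_card' p h
  obtain ⟨g, -, hg⟩ := x.2
  have h4 : (x.1 : MulAut (POmega F ⇑Q)) ^ 4 ∈ Inn (POmega F ⇑Q) := by
    rw [← hg, ← map_pow]
    have := Subgroup.mem_map_of_mem (simAut Q) (pow_four_mem hQ h5 g)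
    rwa [Subgroup.map_sup, ← inn_eq, ← ker_simAut Q hQ h5, (Subgroup.map_eq_bot_iff _).2 le_rfl, sup_bot_eq] at this
  have ho : orderOf (x.1 ^ 4) = p := by
    rw [Nat.Coprime.orderOf_pow] <;> rw [Subgroup.orderOf_coe, hx]
    exact ((Nat.coprime_primes (Fact.out : p.Prime) Nat.prime_two).2 hp).pow_right 2
  obtain ⟨k, hk⟩ := h4
  have : p ∣ orderOf k := by rw [← ho, ← hk]; exact orderOf_map_dvd _ k
  exact this.trans (orderOf_dvd_natCard k)

theorem semiA_eq_of {g g' : GL ι F} {σ σ' : F ≃+* F} (hg : g = g') (hσ : σ = σ') (hp : Semi Q g σ)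
    (hp' : Semi Q g' σ') : semiA hp = semiA hp' := by
  subst hg hσ; rfl

/-- Pairs with the same field part inducing the same automorphism differ by a scalar. -/
theorem semiA_eq_scl (hQ : (QuadraticMap.polarBilin Q).Nondegenerate) (h5 : 5 ≤ Fintype.card ι)
    {g g' : GL ι F} {σ : F ≃+* F} (hp : Semi Q g σ) (hp' : Semi Q g' σ) (e : semiA hp = semiA hp') :
    ∃ c : Fˣ, g = g' * scl c := by
  have hk : g * g'⁻¹ ∈ GO Q := by
    obtain ⟨c, hc⟩ := hp
    obtain ⟨d, hd⟩ := hp'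
    refine ⟨c * d⁻¹, fun v => ?_⟩
    obtain ⟨w, rfl⟩ : ∃ w, g'.val *ᵥ (σ ∘ w) = v :=
      ⟨σ.symm ∘ ((g'⁻¹).val *ᵥ v), by
        rw [show σ ∘ σ.symm ∘ ((g'⁻¹).val *ᵥ v) = (g'⁻¹).val *ᵥ v from funext fun i => σ.apply_symm_apply _,
          Matrix.mulVec_mulVec, ← Units.val_mul, mul_inv_cancel, Units.val_one, Matrix.one_mulVec]⟩
    rw [Units.val_mul, ← Matrix.mulVec_mulVec, Matrix.mulVec_mulVec (M := (g'⁻¹).val), ← Units.val_mul,
      inv_mul_cancel, Units.val_one, Matrix.one_mulVec]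
    refine (hc w).trans ?_
    rw [show Q (g'.val *ᵥ (σ ∘ w)) = (d : F) * σ (Q w) from hd w, Units.val_mul, mul_assoc,
      ← mul_assoc ((d⁻¹ : Fˣ) : F), Units.inv_mul, one_mul]
  set k : GO Q := ⟨_, hk⟩
  have h1 : semiA hp = simAut Q k * semiA hp' := by
    have hg : g = k.1 * gmap 1 g' := by rw [gmap_one]; exact (inv_mul_cancel_right g g').symm
    rw [simAut_eq_semiA, semiA_mul]
    exact semiA_eq_of hg (one_mul σ).symm _ _
  rw [e, eq_comm] at h1
  have h2 : k ∈ scalarSub Q := by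
    rw [← ker_simAut Q hQ h5, MonoidHom.mem_ker]
    exact mul_eq_right.1 h1
  obtain ⟨c, hc⟩ := h2
  exact ⟨c, by rw [← scl_commute c g']; exact eq_mul_of_mul_inv_eq hc.symm⟩

section Field

variable {σ : F ≃+* F} (hσ : Fixes Q σ)
  (hQ : (QuadraticMap.polarBilin Q).Nondegenerate) (h5 : 5 ≤ Fintype.card ι)
variable {F₀ : Type*} [Field F₀] [Fintype F₀] (f : F₀ →+* F) {Q₀ : QuadraticForm F₀ (ι → F₀)} (J : GL ι F)
  (u : Fˣ) (hQ₀ : ∀ w, Q (J.val *ᵥ (f ∘ w)) = (u : F) * f (Q₀ w))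
  (hf : ∀ x : F, σ x = x ↔ x ∈ Set.range f) (S : GO Q) (hS : S.1 * gmap σ J = J)
  (hQ₀n : (QuadraticMap.polarBilin Q₀).Nondegenerate)

omit [Fintype F₀] in
/-- `Omega` over the subfield lands in `Omega`. -/
theorem emb_mem_omega {g : GO Q₀} (hg : g ∈ omegaSub Q₀) : embGO f J u hQ₀ g ∈ omegaSub Q := by
  let ψ : isometryGroup F₀ ⇑Q₀ →* isometryGroup F ⇑Q :=
    ((embGO f J u hQ₀).comp (Subgroup.inclusion (ClassicalSimple.isometry_le_GO Q₀))).codRestrict
      ((isometryGroup F ⇑Q).subgroupOf (GO Q)) (fun a => (ClassicalSimple.mem_isometry_iff Q).2 fun v => by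
        show Q ((embGO f J u hQ₀ (Subgroup.inclusion (ClassicalSimple.isometry_le_GO Q₀) a)).1.val *ᵥ v) = Q v
        rw [emb_mult f J u hQ₀ _ (c := 1) (fun w => by
          rw [one_mul]; exact (ClassicalSimple.mem_isometry_iff Q₀).1 a.2 w), map_one, one_mul])
    |> (Subgroup.subgroupOfEquivOfLe (ClassicalSimple.isometry_le_GO Q)).toMonoidHom.comp
  obtain ⟨t, ht, htg⟩ := hg
  have hle : (commutator (isometryGroup F₀ ⇑Q₀)).map ψ ≤ commutator (isometryGroup F ⇑Q) := by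
    rw [commutator_def, commutator_def, Subgroup.map_commutator]
    exact Subgroup.commutator_mono le_top le_top
  refine ⟨ψ t, hle ⟨t, ht, rfl⟩, ?_⟩
  show (embGO f J u hQ₀ (Subgroup.inclusion (ClassicalSimple.isometry_le_GO Q₀) t)).1 = (embGO f J u hQ₀ g).1
  rw [show Subgroup.inclusion (ClassicalSimple.isometry_le_GO Q₀) t = g from Subtype.ext htg]

local notation "x₀" => simAut Q S * fieldA hσ

include hQ h5 hQ₀ hf hS

/-- Elements of `Omega` over the subfield give fixed points. -/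
theorem exists_fix_of_omega {g : GO Q₀} (hg : g ∈ omegaSub Q₀) :
    ∃ k ∈ fixK x₀, MulAut.conj k = simAut Q (embGO f J u hQ₀ g) := by
  have hi : simAut Q (embGO f J u hQ₀ g) ∈ Inn (POmega F ⇑Q) := by
    rw [inn_eq]; exact ⟨_, emb_mem_omega f J u hQ₀ hg, rfl⟩
  obtain ⟨k, hk⟩ := hi
  refine ⟨k, (commute_conj_iff (conj_injective_of_center (center_POmega hQ h5))).1 ?_, hk⟩
  rw [show MulAut.conj k = simAut Q (embGO f J u hQ₀ g) from hk]
  exact Subgroup.mem_centralizer_singleton_iff.1 ((mem_centralizer_iff hσ hQ h5 f J u hQ₀ hf S hS _).2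
    ⟨g, 1, by rw [map_one, mul_one]⟩)

include hQ₀n

theorem fixK_ne_bot : fixK x₀ ≠ ⊥ := by
  intro hbot
  have hs := ClassicalSimple.POmega_isSimpleGroup Q₀ hQ₀n h5
  haveI := hs.toNontrivial
  obtain ⟨z, hz⟩ := exists_ne (1 : POmega F₀ ⇑Q₀)
  have hi : MulAut.conj z ∈ Inn (POmega F₀ ⇑Q₀) := ⟨z, rfl⟩
  rw [inn_eq] at hi
  obtain ⟨g, hg, he⟩ := hi
  obtain ⟨k, hk, hke⟩ := exists_fix_of_omega hσ hQ h5 f J u hQ₀ hf S hS hg
  rw [hbot, Subgroup.mem_bot] at hk
  rw [hk, map_one, eq_comm] at hke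
  have hg' : g ∈ ((simAut Q).comp (embGO f J u hQ₀)).ker := hke
  rw [ker_embGO hQ h5 f J u hQ₀, ← ker_simAut Q₀ hQ₀n h5, MonoidHom.mem_ker, he] at hg'
  exact hz (conj_injective_of_center (center_POmega hQ₀n h5) (by rw [hg', map_one]))

/-- The core of the fixed points. -/
theorem core_fixK {p : ℕ} [Fact p.Prime] (h2 : p = 2 → 2 ∣ Nat.card (POmega F₀ ⇑Q₀))
    (hd : p ∣ Nat.card (fixK x₀)) : Cfsg.pPrimeCore p (fixK x₀) = ⊥ := by
  classical
  have hinj : Function.Injective (MulAut.conj : POmega F ⇑Q → MulAut (POmega F ⇑Q)) :=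
    conj_injective_of_center (center_POmega hQ h5)
  let e : fixK x₀ →* MulAut (POmega F ⇑Q) := (MulAut.conj : POmega F ⇑Q →* _).comp (fixK x₀).subtype
  have he : Function.Injective e := hinj.comp Subtype.val_injective
  have hker : ((simAut Q).comp (embGO f J u hQ₀)).ker = (simAut Q₀).ker := by
    rw [ker_embGO hQ h5 f J u hQ₀, ker_simAut Q₀ hQ₀n h5]
  have hrange : ∀ k, e k ∈ ((simAut Q).comp (embGO f J u hQ₀)).range := by
    intro k
    have hi : MulAut.conj (k : POmega F ⇑Q) ∈ Inn (POmega F ⇑Q) := ⟨_, rfl⟩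
    rw [inn_eq] at hi
    obtain ⟨g, -, hg⟩ := hi
    obtain ⟨g₀, y, hy⟩ := (mem_centralizer_iff hσ hQ h5 f J u hQ₀ hf S hS g).1 (by
      rw [hg]; exact Subgroup.mem_centralizer_singleton_iff.2 (LocalBalance.commute_conj k.2).eq)
    exact ⟨g₀, (simAut_eq_of_scl hQ h5 hy).symm.trans hg⟩
  refine pPrimeCore_eq_bot_of_hom (ClassicalSimple.POmega_isSimpleGroup Q₀ hQ₀n h5)
    (conj_injective_of_center (center_POmega hQ₀n h5)) ?_ e he _ (simAut Q₀) hker hrange fun k => ?_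
  · by_cases hp : p = 2
    · subst hp; exact h2 rfl
    refine dvd_card_POmega hQ₀n h5 hp (e.range.comap ((simAut Q).comp (embGO f J u hQ₀))) ?_
    rw [card_map_comap_range e he _ _ hker hrange]
    exact hd
  · have hi : MulAut.conj k ∈ Inn (POmega F₀ ⇑Q₀) := ⟨_, rfl⟩
    rw [inn_eq] at hi
    obtain ⟨g, hg, hge⟩ := hi
    obtain ⟨k', hk', hke⟩ := exists_fix_of_omega hσ hQ h5 f J u hQ₀ hf S hS hg
    exact ⟨g, hge, ⟨k', hk'⟩, hke⟩

omit hQ h5 hQ₀ hQ₀n in
/-- Descent of the matrix of an automorphism commuting with the field automorphism. -/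
theorem exists_rational [Nonempty ι] {h : GL ι F} {τ : F ≃+* F} (hcomm : τ * σ = σ * τ) {z : Fˣ}
    (hz : h * gmap τ S.1 = S.1 * gmap σ h * scl z) :
    ∃ (b : GL ι F₀) (y : Fˣ), J * Matrix.GeneralLinearGroup.map f b = h * scl y * gmap τ J := by
  set h' := J⁻¹ * h * gmap τ J with hh'
  have hσJ : gmap σ J = S.1⁻¹ * J := eq_inv_mul_iff_mul_eq.2 hS
  have hfixed : gmap σ h' = h' * scl z⁻¹ := by
    rw [hh', map_mul, map_mul, map_inv, hσJ, ← gmap_mul σ τ, ← hcomm, gmap_mul, hσJ, map_mul, map_inv]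
    have hz' : gmap σ h = S.1⁻¹ * (h * gmap τ S.1) * scl z⁻¹ := by
      rw [hz, map_inv]; group
    rw [hz']
    calc (S.1⁻¹ * J)⁻¹ * (S.1⁻¹ * (h * gmap τ S.1) * scl z⁻¹) * ((gmap τ S.1)⁻¹ * gmap τ J)
        = J⁻¹ * (h * gmap τ S.1) * (scl z⁻¹ * ((gmap τ S.1)⁻¹ * gmap τ J)) := by group
      _ = J⁻¹ * (h * gmap τ S.1) * (((gmap τ S.1)⁻¹ * gmap τ J) * scl z⁻¹) := by rw [scl_commute]
      _ = _ := by group
  obtain ⟨y, hy⟩ := exists_fixed_rep σ h' z⁻¹ hfixed
  choose A hA using fun i j => (hf ((h' * scl y).val i j)).1 (congrArg (fun B : GL ι F => B.val i j) hy)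
  have hmap : (Matrix.of A).map f = (h' * scl y).val := Matrix.ext hA
  have hdet : IsUnit (Matrix.of A).det := by
    rw [isUnit_iff_ne_zero]
    intro h0
    have := congrArg f h0
    rw [RingHom.map_det, map_zero, RingHom.mapMatrix_apply, hmap] at this
    exact ((Matrix.isUnit_iff_isUnit_det _).1 (h' * scl y).isUnit).ne_zero this
  refine ⟨Matrix.nonsingInvUnit (Matrix.of A) hdet, y, ?_⟩
  rw [show Matrix.GeneralLinearGroup.map f (Matrix.nonsingInvUnit (Matrix.of A) hdet) = h' * scl y from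
    Units.ext hmap, hh', mul_assoc _ (gmap τ J), ← scl_commute y (gmap τ J)]
  group

omit hQ h5 hf hS in
/-- The descended pair is a semisimilarity over the subfield. -/
theorem semi_descend [Nonempty ι] {h : GL ι F} {τ : F ≃+* F} (hp : Semi Q h τ) {τ₀ : F₀ ≃+* F₀}
    (hτ₀ : ∀ x, f (τ₀ x) = τ (f x)) {b : GL ι F₀} {y : Fˣ}
    (hjb : J * Matrix.GeneralLinearGroup.map f b = h * scl y * gmap τ J) : Semi Q₀ b τ₀ := by
  obtain ⟨cτ, hcτ⟩ := hp
  obtain ⟨d, hd⟩ : ∃ d : F, ∀ w : ι → F₀, f (Q₀ (b.val *ᵥ fun i => τ₀ (w i))) = d * f (τ₀ (Q₀ w)) := by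
    refine ⟨((u⁻¹ : Fˣ) : F) * ((y : F) * (y : F) * ((cτ : F) * τ (u : F))), fun w => ?_⟩
    refine mul_left_cancel₀ u.ne_zero ?_
    rw [← hQ₀, show f ∘ (b.val *ᵥ fun i => τ₀ (w i)) =
      (Matrix.GeneralLinearGroup.map f b).val *ᵥ (f ∘ fun i => τ₀ (w i)) from
        funext fun i => RingHom.map_mulVec f b.val _ i, Matrix.mulVec_mulVec, ← Units.val_mul, hjb,
      show f ∘ (fun i => τ₀ (w i)) = τ ∘ (f ∘ w) from funext fun i => hτ₀ (w i), Units.val_mul,
      ← Matrix.mulVec_mulVec, gmap_mulVec, Units.val_mul, ← Matrix.mulVec_mulVec, scl_mulVec,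
      Matrix.mulVec_smul, QuadraticMap.map_smul,
      show Q (h.val *ᵥ (τ ∘ (J.val *ᵥ (f ∘ w)))) = (cτ : F) * τ (Q (J.val *ᵥ (f ∘ w))) from hcτ _, hQ₀,
      map_mul, hτ₀, smul_eq_mul, ← mul_assoc (u : F), ← mul_assoc (u : F), Units.mul_inv, one_mul]
    ring
  obtain ⟨w1, hw1⟩ : ∃ w, Q₀ w ≠ 0 := by
    by_contra! h0
    have h := hQ₀n.1 (Pi.single (Classical.arbitrary ι) 1) fun y => by simp [QuadraticMap.polar, h0]
    simpa using congrFun h (Classical.arbitrary ι)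
  set d₀ := Q₀ (b.val *ᵥ fun i => τ₀ (w1 i)) / τ₀ (Q₀ w1) with hd₀
  have hdd : f d₀ = d := by
    rw [hd₀, map_div₀, hd, mul_div_assoc, div_self ((map_ne_zero f).2 ((map_ne_zero τ₀).2 hw1)), mul_one]
  have hd0 : d₀ ≠ 0 := fun e => by
    rw [e, map_zero] at hdd
    obtain ⟨w2, hw2⟩ : ∃ w, (fun i => τ₀ (w i)) = (b⁻¹).val *ᵥ w1 :=
      ⟨fun i => τ₀.symm (((b⁻¹).val *ᵥ w1) i), funext fun i => τ₀.apply_symm_apply _⟩
    have h' := hd w2
    rw [hw2, Matrix.mulVec_mulVec, ← Units.val_mul, mul_inv_cancel, Units.val_one, Matrix.one_mulVec, ← hdd,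
      zero_mul] at h'
    exact hw1 (f.injective (by rw [h', map_zero]))
  exact ⟨Units.mk0 d₀ hd0, fun w => f.injective (by rw [hd, map_mul, Units.val_mk0, hdd])⟩

omit hQ h5 hQ₀n hf hS in
/-- The two conjugations agree. -/
theorem emb_semi_conj {h : GL ι F} {τ : F ≃+* F} (hp : Semi Q h τ) {τ₀ : F₀ ≃+* F₀}
    (hτ₀ : ∀ x, f (τ₀ x) = τ (f x)) {b : GL ι F₀} (hp₀ : Semi Q₀ b τ₀) {y : Fˣ}
    (hjb : J * Matrix.GeneralLinearGroup.map f b = h * scl y * gmap τ J) (g : GO Q₀) :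
    embGO f J u hQ₀ ⟨_, semi_mul_gmap hp₀ g⟩ = ⟨_, semi_mul_gmap hp (embGO f J u hQ₀ g)⟩ := by
  have hgm : Matrix.GeneralLinearGroup.map f (gmap τ₀ g.1) = gmap τ (Matrix.GeneralLinearGroup.map f g.1) :=
    Units.ext (Matrix.ext fun i j => hτ₀ (g.1.val i j))
  refine Subtype.ext ?_
  show J * Matrix.GeneralLinearGroup.map f (b * gmap τ₀ g.1 * b⁻¹) * J⁻¹ =
    h * gmap τ (J * Matrix.GeneralLinearGroup.map f g.1 * J⁻¹) * h⁻¹
  rw [map_mul, map_mul, map_inv, hgm, map_mul, map_mul, map_inv,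
    show Matrix.GeneralLinearGroup.map f b = J⁻¹ * (h * scl y * gmap τ J) by rw [← hjb, inv_mul_cancel_left]]
  generalize gmap τ (Matrix.GeneralLinearGroup.map f g.1) = G
  calc J * (J⁻¹ * (h * scl y * gmap τ J) * G * (J⁻¹ * (h * scl y * gmap τ J))⁻¹) * J⁻¹
      = h * (scl y * (gmap τ J * G * (gmap τ J)⁻¹)) * (scl y)⁻¹ * h⁻¹ := by group
    _ = h * (gmap τ J * G * (gmap τ J)⁻¹ * scl y) * (scl y)⁻¹ * h⁻¹ := by rw [scl_commute]
    _ = _ := by group

set_option maxHeartbeats 1600000 in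
-- the descent has many steps
/-- An automorphism commuting with the field automorphism and fixing its fixed points. -/
theorem eq_one_of_fix (D : AutData Q) (hP₀ : Probe Q₀) {p : ℕ} (hσp : orderOf σ = p)
    (a : MulAut (POmega F ⇑Q)) (ha : Commute a x₀) (hfix : ∀ k ∈ fixK x₀, a k = k)
    (hco : (orderOf a).Coprime p) : a = 1 := by
  classical
  have hne : Nonempty ι := Fintype.card_pos_iff.1 (by omega)
  obtain ⟨Γ, -, hΓ⟩ := AutPOmega.exists_galPart D
  obtain ⟨h, τ, hp, rfl⟩ := D.pair a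
  have hτ : τ ^ orderOf (semiA hp) = 1 := by
    calc τ ^ orderOf (semiA hp) = Γ (semiA hp) ^ orderOf (semiA hp) :=
          congrArg (· ^ orderOf (semiA hp)) (hΓ h τ hp).symm
      _ = 1 := by rw [← map_pow, pow_orderOf_eq_one, map_one]
  have e0 : semiA hp * semiA (semi_pair hσ S) = semiA (semi_pair hσ S) * semiA hp := by
    rw [← simAut_mul_fieldA]; exact ha.eq
  rw [semiA_mul, semiA_mul] at e0
  have hcomm : τ * σ = σ * τ := sigma_unique D.nondeg D.five D.probe _ _ e0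
  obtain ⟨z, hz⟩ : ∃ z : Fˣ, h * gmap τ S.1 = S.1 * gmap σ h * scl z := by
    have key : ∀ (π : F ≃+* F) (h1 : Semi Q (h * gmap τ S.1) π) (h2 : Semi Q (S.1 * gmap σ h) (σ * τ)),
        π = σ * τ → semiA h1 = semiA h2 → ∃ z : Fˣ, h * gmap τ S.1 = S.1 * gmap σ h * scl z := by
      rintro π h1 h2 rfl e
      exact semiA_eq_scl hQ h5 h1 h2 e
    exact key _ _ _ hcomm e0
  obtain ⟨b, y, hjb⟩ := exists_rational f J hf S hS hcomm hz
  have hst : ∀ x, ∃ x', f x' = τ (f x) := fun x => (hf _).1 (by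
    rw [← RingAut.mul_apply, ← hcomm, RingAut.mul_apply, (hf (f x)).2 ⟨x, rfl⟩])
  choose t ht using hst
  let t' : F₀ →+* F₀ :=
    { toFun := t
      map_one' := f.injective (by rw [ht, map_one, map_one])
      map_mul' := fun x y => f.injective (by simp [ht])
      map_zero' := f.injective (by rw [ht, map_zero, map_zero])
      map_add' := fun x y => f.injective (by simp [ht]) }
  set τ₀ : F₀ ≃+* F₀ := RingEquiv.ofBijective t' (Finite.injective_iff_bijective.1 t'.injective)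
  have hτ₀ : ∀ x, f (τ₀ x) = τ (f x) := ht
  have hp₀ : Semi Q₀ b τ₀ := semi_descend f J u hQ₀ hQ₀n hp hτ₀ hjb
  have hinj₀ := conj_injective_of_center (center_POmega hQ₀n h5)
  have hone : semiA hp₀ = 1 := by
    refine MulEquiv.ext fun k => hinj₀ (mul_right_cancel (b := semiA hp₀) ?_)
    rw [MulAut.one_apply, ← mul_conj]
    have hi : MulAut.conj k ∈ Inn (POmega F₀ ⇑Q₀) := ⟨_, rfl⟩
    rw [inn_eq] at hi
    obtain ⟨g, hg, hge⟩ := hi
    rw [← hge, semiA_mul_simAut]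
    congr 1
    obtain ⟨k', hk', hke⟩ := exists_fix_of_omega hσ hQ h5 f J u hQ₀ hf S hS hg
    have e1 := mul_conj (semiA hp) k'
    rw [hfix k' hk', hke] at e1
    have e2 := mul_right_cancel ((semiA_mul_simAut hp (embGO f J u hQ₀ g)).symm.trans e1)
    rw [← emb_semi_conj f J u hQ₀ hp hτ₀ hp₀ hjb g] at e2
    have e3 : ⟨_, semi_mul_gmap hp₀ g⟩ * g⁻¹ ∈ ((simAut Q).comp (embGO f J u hQ₀)).ker := by
      rw [MonoidHom.mem_ker, map_mul, map_inv, MonoidHom.comp_apply, MonoidHom.comp_apply, e2, mul_inv_cancel]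
    rw [ker_embGO hQ h5 f J u hQ₀, ← ker_simAut Q₀ hQ₀n h5, MonoidHom.mem_ker, map_mul, map_inv,
      mul_inv_eq_one] at e3
    exact e3
  obtain ⟨hτ₀1, cb, hcb⟩ : τ₀ = 1 ∧ ∃ cb : F₀ˣ, b = scl cb := by
    have h1 : semiA hp₀ = semiA (semi_GO (1 : GO Q₀)) := by rw [hone, ← simAut_eq_semiA, map_one]
    have e := sigma_unique (ClassicalSimple.bil_nondegenerate Q₀ hQ₀n) h5 hP₀ _ _ h1
    refine ⟨e, ?_⟩
    have key : ∀ (π : F₀ ≃+* F₀) (h2 : Semi Q₀ b π), π = 1 → semiA h2 = semiA (semi_GO (1 : GO Q₀)) →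
        ∃ cb : F₀ˣ, b = scl cb := by
      rintro π h2 rfl e'
      obtain ⟨c, hc⟩ := semiA_eq_scl hQ₀n h5 h2 _ e'
      exact ⟨c, by rw [hc, Subgroup.coe_one, one_mul]⟩
    exact key _ _ e h1
  have hτ1 : τ = 1 := by
    refine eq_one_of_fix_field hσp (fun x hx => ?_) hτ hco
    obtain ⟨x', rfl⟩ := (hf x).1 hx
    rw [← hτ₀, hτ₀1, RingAut.one_apply]
  subst hτ1
  obtain ⟨c, hc⟩ : ∃ c : Fˣ, h = (1 : GO Q).1 * scl c := by
    refine ⟨Units.map (f : F₀ →* F) cb * y⁻¹, ?_⟩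
    have hm : Matrix.GeneralLinearGroup.map f (scl cb : GL ι F₀) = scl (Units.map (f : F₀ →* F) cb) := by
      refine Units.ext (Matrix.ext fun i j => ?_)
      show f ((scl cb : GL ι F₀).val i j) = _
      rw [scl_val, scl_val]
      rcases eq_or_ne i j with rfl | hij <;> simp [*]
    rw [hcb, hm, gmap_one] at hjb
    rw [Subgroup.coe_one, one_mul, map_mul, map_inv, eq_mul_inv_iff_mul_eq]
    refine mul_right_cancel (b := J) ?_
    rw [← hjb, scl_commute]
  rw [Subgroup.coe_one, one_mul] at hc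
  have hsemi := semiA_eq_of (g' := (ClassicalSimple.scalarGO Q c).1) (hc.trans (scalarGO_coe c).symm) rfl hp
    (semi_GO (ClassicalSimple.scalarGO Q c))
  rw [hsemi, ← simAut_eq_semiA, ← MonoidHom.mem_ker, ker_simAut Q hQ h5]
  exact ClassicalSimple.scalarGO_mem (Q := Q) c

/-- The criterion for local balance at a twisted field automorphism. -/
theorem core_ne_bot_iff_field (D : AutData Q) (hP₀ : Probe Q₀) {p : ℕ} [Fact p.Prime] (hσp : orderOf σ = p)
    (h2 : p = 2 → 2 ∣ Nat.card (POmega F₀ ⇑Q₀)) (c : MulAut (POmega F ⇑Q)) (A : Subgroup (MulAut (POmega F ⇑Q)))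
    (hinn : ∀ k, MulAut.conj k ∈ A) :
    Cfsg.pPrimeCore p ↥(A ⊓ Subgroup.centralizer {c * x₀ * c⁻¹}) ≠ ⊥ ↔
      p.Coprime (Nat.card (fixK (c * x₀ * c⁻¹))) :=
  LocalBalance.core_ne_bot_iff_conj (conj_injective_of_center (center_POmega hQ h5)) _ c A hinn
    (fixK_ne_bot hσ hQ h5 f J u hQ₀ hf S hS hQ₀n) (core_fixK hσ hQ h5 f J u hQ₀ hf S hS hQ₀n h2)
    (eq_one_of_fix hσ hQ h5 f J u hQ₀ hf S hS hQ₀n D hP₀ hσp)

end Field

end Cfsg.Agent.AutPO
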