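import Cfsg.Agent.Lib.AutPO.Lang
import Cfsg.Agent.Lib.AutPSL.Split

/-!
Transport along automorphisms, centralisers and class splitting for (twisted) field automorphisms of `POmega`.
-/

set_option autoImplicit false

namespace Cfsg.Agent.AutPO

open scoped Matrix MatrixGroups
open ClassicalSimple (GO simAut scalarSub omegaSub ker_simAut inn_eq)

section Group

variable {X : Type*} [Group X]

/-- Reduction of the class statement to the standard element. -/
theorem orderOf_iff_isConjUnder (G : Subgroup X) [hn : G.Normal] {x δ std α : X} (hx : α * x * α⁻¹ = std)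
    {r : ℕ} (hxr : orderOf x = r) (hδ : δ ∈ G)
    (lang : ∀ y ∈ G, (y * std) ^ r = 1 → Cfsg.IsConjUnder G std (y * std)) :
    orderOf (δ * x) = r ↔ Cfsg.IsConjUnder G x (δ * x) := by
  constructor
  · intro ho
    have hy : α * δ * α⁻¹ ∈ G := hn.conj_mem _ hδ α
    have e : α * δ * α⁻¹ * std = α * (δ * x) * α⁻¹ := by rw [← hx]; group
    obtain ⟨h, hh, he⟩ := lang _ hy (by rw [e, conj_pow, ← ho, pow_orderOf_eq_one, mul_one, mul_inv_cancel])
    refine ⟨α⁻¹ * h * α, by simpa using hn.conj_mem _ hh α⁻¹, ?_⟩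
    rw [e, ← hx] at he
    calc δ * x = α⁻¹ * (α * (δ * x) * α⁻¹) * α := by group
      _ = _ := by rw [he]; group
  · rintro ⟨h, -, e⟩
    rw [e, show h * x * h⁻¹ = MulAut.conj h x from rfl, (MulAut.conj h).orderOf_eq, hxr]

theorem isConjUnder_symm {G : Subgroup X} {x y : X} (h : Cfsg.IsConjUnder G x y) : Cfsg.IsConjUnder G y x := by
  obtain ⟨g, hg, rfl⟩ := h
  exact ⟨g⁻¹, G.inv_mem hg, by group⟩

theorem isConjUnder_trans {G : Subgroup X} {x y z : X} (h : Cfsg.IsConjUnder G x y)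
    (h' : Cfsg.IsConjUnder G y z) : Cfsg.IsConjUnder G x z := by
  obtain ⟨g, hg, rfl⟩ := h
  obtain ⟨k, hk, rfl⟩ := h'
  exact ⟨k * g, G.mul_mem hk hg, by group⟩

/-- The images of a subgroup under two homomorphisms with the same kernel are isomorphic. -/
theorem nonempty_map_equiv {A B C : Type*} [Group A] [Group B] [Group C] (f : A →* B) (g : A →* C)
    (h : f.ker = g.ker) (H : Subgroup A) : Nonempty (↥(H.map f) ≃* ↥(H.map g)) := by
  have e : (f.comp H.subtype).ker = (g.comp H.subtype).ker := by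
    rw [← MonoidHom.comap_ker, ← MonoidHom.comap_ker, h]
  have r1 : (f.comp H.subtype).range = H.map f := by rw [MonoidHom.range_comp, Subgroup.range_subtype]
  have r2 : (g.comp H.subtype).range = H.map g := by rw [MonoidHom.range_comp, Subgroup.range_subtype]
  exact ⟨(MulEquiv.subgroupCongr r1.symm).trans ((QuotientGroup.quotientKerEquivRange _).symm.trans
    ((QuotientGroup.quotientMulEquivOfEq e).trans ((QuotientGroup.quotientKerEquivRange _).trans
      (MulEquiv.subgroupCongr r2))))⟩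

theorem inn_normal : (Cfsg.Inn X).Normal :=
  ⟨fun _ ⟨x, hx⟩ β => ⟨β x, by
    subst hx
    exact MulEquiv.ext fun y => by simp⟩⟩

end Group

variable {ι : Type} [Fintype ι] [DecidableEq ι] {F : Type*} [Field F] [Fintype F]
variable {Q : QuadraticForm F (ι → F)}

instance : Finite (MulAut (POmega F ⇑Q)) :=
  Finite.of_injective (fun e : MulAut (POmega F ⇑Q) => (e : POmega F ⇑Q → POmega F ⇑Q)) DFunLike.coe_injective

/-- Generators that conjugate a group of similarities into itself make its image normal. -/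
theorem normal_of_gamma (H : Subgroup (GO Q)) (hΓ : gammaPOmega F ⇑Q = ⊤)
    (hH : ∀ (g : GL ι F) (σ : F ≃+* F) (hp : Semi Q g σ), ∀ h ∈ H, (⟨_, semi_mul_gmap hp h⟩ : GO Q) ∈ H) :
    (H.map (simAut Q)).Normal := by
  refine ⟨fun x hx β => ?_⟩
  have hβ : β ∈ gammaPOmega F ⇑Q := hΓ ▸ Subgroup.mem_top β
  rw [gammaPOmega, autSubgroupOf, ← SetLike.mem_coe] at hβ
  revert x
  refine Subgroup.closure_induction (p := fun β _ => ∀ x ∈ H.map (simAut Q), β * x * β⁻¹ ∈ H.map (simAut Q))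
    ?_ ?_ ?_ ?_ hβ
  · rintro β ⟨g, σ, hp, hi⟩ _ ⟨h, hh, rfl⟩
    rw [eq_semiA hp hi, semiA_mul_simAut hp, mul_inv_cancel_right]
    exact ⟨_, hH g σ hp h hh, rfl⟩
  · intro x hx; simpa using hx
  · intro a b _ _ ha hb x hx
    rw [show a * b * x * (a * b)⁻¹ = a * (b * x * b⁻¹) * a⁻¹ by group]
    exact ha _ (hb x hx)
  · intro a _ ha x hx
    obtain ⟨n, hn⟩ : ∃ n : ℕ, a ^ n = a⁻¹ := by
      refine ⟨orderOf a - 1, eq_inv_of_mul_eq_one_left ?_⟩
      rw [← pow_succ, Nat.sub_add_cancel (orderOf_pos a), pow_orderOf_eq_one]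
    rw [← hn]
    have hpow : ∀ k : ℕ, a ^ k * x * (a ^ k)⁻¹ ∈ H.map (simAut Q) := by
      intro k
      induction k with
      | zero => simpa using hx
      | succ k ih =>
        rw [pow_succ', show a * a ^ k * x * (a * a ^ k)⁻¹ = a * (a ^ k * x * (a ^ k)⁻¹) * a⁻¹ by group]
        exact ha _ ih
    exact hpow n

variable {σ : F ≃+* F} (hσ : Fixes Q σ)
  (hQ : (QuadraticMap.polarBilin Q).Nondegenerate) (h5 : 5 ≤ Fintype.card ι)

section Embedding

variable {F₀ : Type*} [Field F₀] (f : F₀ →+* F) {Q₀ : QuadraticForm F₀ (ι → F₀)} (J : GL ι F) (u : Fˣ)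
  (hQ₀ : ∀ w, Q (J.val *ᵥ (f ∘ w)) = (u : F) * f (Q₀ w))

omit [Fintype F] in
include hQ₀ in
theorem emb_mem (g : GO Q₀) : J * Matrix.GeneralLinearGroup.map f g.1 * J⁻¹ ∈ GO Q := by
  obtain ⟨c, hc⟩ := g.2
  refine ⟨Units.map (f : F₀ →* F) c, ?_⟩
  have key : Q.comp (Matrix.toLin' (J * Matrix.GeneralLinearGroup.map f g.1).val) =
      (f (c : F₀)) • Q.comp (Matrix.toLin' J.val) := by
    refine form_ext f fun w => ?_
    rw [smul_apply, QuadraticMap.comp_apply, QuadraticMap.comp_apply, Matrix.toLin'_apply, Matrix.toLin'_apply,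
      smul_eq_mul, Units.val_mul, ← Matrix.mulVec_mulVec,
      show (Matrix.GeneralLinearGroup.map f g.1).val *ᵥ (f ∘ w) = f ∘ (g.1.val *ᵥ w) from
        funext fun i => (RingHom.map_mulVec f g.1.val w i).symm, hQ₀, hc, hQ₀, map_mul]
    ring
  intro v
  have := congrArg (fun D : QuadraticForm F (ι → F) => D ((J⁻¹).val *ᵥ v)) key
  simp only [smul_apply, QuadraticMap.comp_apply, Matrix.toLin'_apply, smul_eq_mul, Matrix.mulVec_mulVec,
    ← Units.val_mul, mul_inv_cancel, Units.val_one, Matrix.one_mulVec] at this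
  exact this

/-- Similarities over the fixed field. -/
def embGO : GO Q₀ →* GO Q where
  toFun g := ⟨_, emb_mem f J u hQ₀ g⟩
  map_one' := Subtype.ext (by simp)
  map_mul' a b := Subtype.ext (by simp [map_mul, mul_assoc])

omit [Fintype F] in
theorem embGO_coe (g : GO Q₀) : (embGO f J u hQ₀ g).1 = J * Matrix.GeneralLinearGroup.map f g.1 * J⁻¹ := rfl

variable (hf : ∀ x : F, σ x = x ↔ x ∈ Set.range f) (S : GO Q) (hS : S.1 * gmap σ J = J)
include hQ h5 hf hS

/-- The centraliser in the similarities of the twisted field automorphism. -/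
theorem mem_centralizer_iff (g : GO Q) :
    simAut Q g ∈ Subgroup.centralizer {simAut Q S * fieldA hσ} ↔
      ∃ (g₀ : GO Q₀) (y : Fˣ), g.1 = (embGO f J u hQ₀ g₀).1 * scl y := by
  have hne : Nonempty ι := Fintype.card_pos_iff.1 (by omega)
  have hσJ : gmap σ J = S.1⁻¹ * J := eq_inv_mul_iff_mul_eq.2 hS
  have hiff : simAut Q g ∈ Subgroup.centralizer {simAut Q S * fieldA hσ} ↔
      ∃ c : Fˣ, gmap σ (J⁻¹ * g.1 * J) = J⁻¹ * g.1 * J * scl c := by
    rw [Subgroup.mem_centralizer_singleton_iff, mul_assoc, fieldA_mul_simAut, ← mul_assoc, ← mul_assoc,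
      mul_left_inj, ← map_mul, ← map_mul, simAut_eq_iff hQ h5]
    constructor
    · rintro ⟨c, hc⟩
      refine ⟨c⁻¹, ?_⟩
      simp only [Subgroup.coe_mul, mapGO_coe] at hc
      rw [map_mul, map_mul, map_inv, hσJ, show (S.1⁻¹ * J)⁻¹ * gmap σ g.1 * (S.1⁻¹ * J) =
        J⁻¹ * (S.1 * gmap σ g.1) * (S.1⁻¹ * J) by group]
      have hc' : S.1 * gmap σ g.1 = g.1 * S.1 * scl c⁻¹ := by
        rw [map_inv, eq_mul_inv_iff_mul_eq]; exact hc.symm
      rw [hc']
      calc J⁻¹ * (g.1 * S.1 * scl c⁻¹) * (S.1⁻¹ * J)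
          = J⁻¹ * g.1 * S.1 * (scl c⁻¹ * (S.1⁻¹ * J)) := by group
        _ = J⁻¹ * g.1 * S.1 * (S.1⁻¹ * J * scl c⁻¹) := by rw [scl_commute]
        _ = _ := by group
    · rintro ⟨c, hc⟩
      refine ⟨c⁻¹, ?_⟩
      simp only [Subgroup.coe_mul, mapGO_coe]
      rw [map_mul, map_mul, map_inv, hσJ] at hc
      have e : S.1 * gmap σ g.1 = g.1 * (J * scl c * J⁻¹) * S.1 := by
        calc S.1 * gmap σ g.1 = J * ((S.1⁻¹ * J)⁻¹ * gmap σ g.1 * (S.1⁻¹ * J)) * J⁻¹ * S.1 := by group
          _ = _ := by rw [hc]; group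
      rw [e, ← scl_commute c J, mul_inv_cancel_right, mul_assoc g.1, scl_commute c S.1, mul_assoc g.1,
        mul_assoc S.1, map_inv, mul_inv_cancel, mul_one]
  rw [hiff]
  constructor
  · rintro ⟨c, hc⟩
    obtain ⟨y, hy⟩ := exists_fixed_rep σ _ c hc
    set k := J⁻¹ * g.1 * J * scl y with hk
    choose A hA using fun i j => (hf (k.val i j)).1 (congrArg (fun A : GL ι F => A.val i j) hy)
    have hmap : (Matrix.of A).map f = k.val := Matrix.ext hA
    have hdet : IsUnit (Matrix.of A).det := by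
      rw [isUnit_iff_ne_zero]
      intro h0
      have := congrArg f h0
      rw [RingHom.map_det, map_zero, RingHom.mapMatrix_apply, hmap] at this
      exact ((Matrix.isUnit_iff_isUnit_det _).1 k.isUnit).ne_zero this
    set b := Matrix.nonsingInvUnit (Matrix.of A) hdet
    have hb : Matrix.GeneralLinearGroup.map f b = k := Units.ext hmap
    obtain ⟨d, hd⟩ : g.1 * scl y ∈ GO Q := mul_mem g.2 (ClassicalSimple.scalarGO Q y).2
    have hk' : J * k = g.1 * scl y * J := by rw [hk, mul_assoc _ J (scl y), ← scl_commute y J]; group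
    have hval : ∀ w, f (Q₀ (b.val *ᵥ w)) = (d : F) * f (Q₀ w) := by
      intro w
      refine mul_left_cancel₀ u.ne_zero ?_
      rw [← hQ₀, show f ∘ (b.val *ᵥ w) = k.val *ᵥ (f ∘ w) by
        rw [← hb]; exact funext fun i => RingHom.map_mulVec f b.val w i, Matrix.mulVec_mulVec,
        ← Units.val_mul, hk', Units.val_mul, ← Matrix.mulVec_mulVec, hd, hQ₀]
      ring
    obtain ⟨w1, hw1⟩ : ∃ w, Q₀ w ≠ 0 := by
      by_contra! h0
      have hz : Q.comp (Matrix.toLin' J.val) = 0 := form_ext f fun w => by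
        simp [hQ₀, h0]
      have e : ∀ x, Q x = 0 := fun x => by
        have := congrArg (fun D : QuadraticForm F (ι → F) => D ((J⁻¹).val *ᵥ x)) hz
        simpa [Matrix.mulVec_mulVec, ← Units.val_mul] using this
      have h := hQ.1 (Pi.single (Classical.arbitrary ι) 1) fun y => by simp [QuadraticMap.polar, e]
      simpa using congrFun h (Classical.arbitrary ι)
    set d₀ := Q₀ (b.val *ᵥ w1) / Q₀ w1 with hd₀
    have hdd : f d₀ = d := by
      rw [hd₀, map_div₀, hval, mul_div_assoc, div_self ((map_ne_zero f).2 hw1), mul_one]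
    have hd0 : d₀ ≠ 0 := fun e => d.ne_zero (by rw [← hdd, e, map_zero])
    refine ⟨⟨b, Units.mk0 d₀ hd0, fun w => f.injective (by rw [map_mul, Units.val_mk0, hdd, hval])⟩, y⁻¹, ?_⟩
    rw [embGO_coe, hb, hk', map_inv]
    group
  · rintro ⟨g₀, y, hy⟩
    refine ⟨y⁻¹ * Units.map (σ : F →* F) y, ?_⟩
    have h1 : J⁻¹ * g.1 * J = Matrix.GeneralLinearGroup.map f g₀.1 * scl y := by
      rw [hy, embGO_coe, mul_assoc _ _ J, mul_assoc _ (scl y) J, scl_commute y J]
      group
    rw [h1, map_mul, gmap_map f hf, gmap_scl, mul_assoc, ← map_mul, mul_inv_cancel_left]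

omit hS in
omit hf in
theorem ker_embGO : ((simAut Q).comp (embGO f J u hQ₀)).ker = scalarSub Q₀ := by
  have hne : Nonempty ι := Fintype.card_pos_iff.1 (by omega)
  ext g
  rw [MonoidHom.mem_ker, MonoidHom.comp_apply, ← map_one (simAut Q), simAut_eq_iff hQ h5, embGO_coe,
    Subgroup.coe_one]
  constructor
  · rintro ⟨c, hc⟩
    rw [one_mul] at hc
    have hc' : Matrix.GeneralLinearGroup.map f g.1 = scl c := by
      calc Matrix.GeneralLinearGroup.map f g.1 = J⁻¹ * scl c * J := by rw [← hc]; group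
        _ = _ := by rw [← scl_commute, inv_mul_cancel_right]
    have he : ∀ i j, f (g.1.val i j) = if i = j then (c : F) else 0 := fun i j => by
      have := congrArg (fun A : GL ι F => A.val i j) hc'
      simpa [scl_val, Matrix.one_apply, Matrix.diagonal_apply] using this
    obtain ⟨i0⟩ := hne
    have h00 : g.1.val i0 i0 ≠ 0 := fun h => c.ne_zero (by
      have := he i0 i0; rw [h, map_zero, if_pos rfl] at this; exact this.symm)
    refine ⟨Units.mk0 _ h00, Units.ext (Matrix.ext fun i j => f.injective ?_)⟩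
    show f ((scl (Units.mk0 _ h00) : GL ι F₀).val i j) = f (g.1.val i j)
    rw [he i j, scl_val]
    rcases eq_or_ne i j with rfl | hij
    · simpa using he i0 i0
    · simp [hij]
  · rintro ⟨c, hc⟩
    refine ⟨Units.map (f : F₀ →* F) c, ?_⟩
    have hc' : g.1 = scl c := hc.symm
    have hm : Matrix.GeneralLinearGroup.map f (scl c : GL ι F₀) = scl (Units.map (f : F₀ →* F) c) := by
      refine Units.ext (Matrix.ext fun i j => ?_)
      show f ((scl c : GL ι F₀).val i j) = _
      rw [scl_val, scl_val]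
      rcases eq_or_ne i j with rfl | h <;> simp [*]
    rw [hc', hm, ← scl_commute, mul_inv_cancel_right, one_mul]

/-- The centraliser in the image of a group of similarities. -/
theorem map_inf_centralizer (H : Subgroup (GO Q)) (hsc : scalarSub Q ≤ H) :
    H.map (simAut Q) ⊓ Subgroup.centralizer {simAut Q S * fieldA hσ} =
      (H.comap (embGO f J u hQ₀)).map ((simAut Q).comp (embGO f J u hQ₀)) := by
  ext x
  constructor
  · rintro ⟨⟨g, hg, rfl⟩, hx⟩
    obtain ⟨g₀, y, hy⟩ := (mem_centralizer_iff hσ hQ h5 f J u hQ₀ hf S hS g).1 hx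
    have he : g = embGO f J u hQ₀ g₀ * ClassicalSimple.scalarGO Q y := Subtype.ext hy
    refine ⟨g₀, ?_, (simAut_eq_of_scl hQ h5 hy).symm⟩
    show embGO f J u hQ₀ g₀ ∈ H
    rw [he] at hg
    simpa using H.mul_mem hg (H.inv_mem (hsc (ClassicalSimple.scalarGO_mem (Q := Q) y)))
  · rintro ⟨g₀, hg₀, rfl⟩
    exact ⟨⟨_, hg₀, rfl⟩, (mem_centralizer_iff hσ hQ h5 f J u hQ₀ hf S hS _).2
      ⟨g₀, 1, by rw [map_one, mul_one]⟩⟩

theorem nonempty_centralizer_equiv (hQ₀n : (QuadraticMap.polarBilin Q₀).Nondegenerate) [Finite F₀]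
    (H : Subgroup (GO Q)) (hsc : scalarSub Q ≤ H) :
    Nonempty (↥(H.map (simAut Q) ⊓ Subgroup.centralizer {simAut Q S * fieldA hσ}) ≃*
      ↥((H.comap (embGO f J u hQ₀)).map (simAut Q₀))) := by
  rw [map_inf_centralizer hσ hQ h5 f J u hQ₀ hf S hS H hsc]
  exact nonempty_map_equiv _ _ ((ker_embGO hQ h5 f J u hQ₀).trans (ker_simAut Q₀ hQ₀n h5).symm) _

/-- The number of classes of inner automorphisms in the class. -/
theorem split_eq_relIndex (H : Subgroup (GO Q)) (hsc : scalarSub Q ≤ H) (hom : omegaSub Q ≤ H) :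
    Cfsg.splitClassCount (H.map (simAut Q)) (Cfsg.Inn (POmega F ⇑Q)) (simAut Q S * fieldA hσ) =
      (omegaSub Q ⊔ scalarSub Q ⊔ (H.comap (embGO f J u hQ₀)).map (embGO f J u hQ₀)).relIndex H := by
  have := inn_normal (X := POmega F ⇑Q)
  rw [AutPSL.splitClassCount_eq _ _ (by rw [inn_eq]; exact Subgroup.map_mono hom),
    map_inf_centralizer hσ hQ h5 f J u hQ₀ hf S hS H hsc, inn_eq, ← Subgroup.map_map, ← Subgroup.map_sup,
    ← Subgroup.relIndex_comap, Subgroup.comap_map_eq, ker_simAut Q hQ h5]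
  congr 1
  rw [sup_right_comm]

end Embedding

end Cfsg.Agent.AutPO
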