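import Cfsg.Agent.Lib.AutPO.Semilinear
import Cfsg.Agent.Lib.Field.Fixed

/-!
Descent of matrices and quadratic forms along a field automorphism, for any index type.
-/

set_option autoImplicit false

namespace Cfsg.Agent.AutPO

open scoped Matrix MatrixGroups

variable {ι : Type} [Fintype ι] [DecidableEq ι] {F : Type*} [Field F]

/-- A scalar matrix. -/
abbrev scl : Fˣ →* GL ι F := Matrix.GeneralLinearGroup.scalar ι

theorem scl_val (c : Fˣ) : (scl c : GL ι F).val = (c : F) • 1 := by
  ext i j
  rcases eq_or_ne i j with rfl | h <;> simp [Matrix.GeneralLinearGroup.coe_scalar, *]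

theorem scl_mulVec (c : Fˣ) (v : ι → F) : (scl c : GL ι F).val *ᵥ v = (c : F) • v := by
  rw [scl_val, Matrix.smul_mulVec, Matrix.one_mulVec]

theorem scl_commute (c : Fˣ) (g : GL ι F) : scl c * g = g * scl c := by
  refine Units.ext ?_
  ext i j
  simp [Matrix.GeneralLinearGroup.coe_scalar, Matrix.diagonal_mul, Matrix.mul_diagonal, mul_comm]

theorem scl_injective [Nonempty ι] {a b : Fˣ} (h : (scl a : GL ι F) = scl b) : a = b := by
  have := congrArg (fun A : GL ι F => A.val (Classical.arbitrary ι) (Classical.arbitrary ι)) h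
  simp only [scl_val] at this
  exact Units.ext (by simpa using this)

theorem gmap_scl (σ : F ≃+* F) (c : Fˣ) : gmap σ (scl c : GL ι F) = scl (Units.map (σ : F →* F) c) := by
  refine Units.ext (Matrix.ext fun i j => ?_)
  rw [gmap_val, Matrix.map_apply, scl_val, scl_val]
  rcases eq_or_ne i j with rfl | h <;> simp [*]

/-- Reindexing by consecutive numbers. -/
noncomputable def rei : GL ι F ≃* GL (Fin (Fintype.card ι)) F :=
  Units.mapEquiv (Matrix.reindexAlgEquiv F F (Fintype.equivFin ι)).toMulEquiv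

theorem rei_map (σ : F ≃+* F) (g : GL ι F) : rei (gmap σ g) = FieldExt.glMap σ (rei g) :=
  Units.ext (Matrix.ext fun _ _ => rfl)

theorem rei_scl (c : Fˣ) : rei (scl c : GL ι F) = Matrix.GeneralLinearGroup.scalar _ c := by
  refine Units.ext (Matrix.ext fun i j => ?_)
  rcases eq_or_ne i j with rfl | h <;> simp [rei, Matrix.GeneralLinearGroup.coe_scalar, *]

/-- The twisted norm `g σ(g) ⋯ σᵏ⁻¹(g)`. -/
def twist (σ : F ≃+* F) (g : GL ι F) : ℕ → GL ι F
  | 0 => 1
  | k + 1 => g * gmap σ (twist σ g k)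

theorem rei_twist (σ : F ≃+* F) (g : GL ι F) : ∀ k, rei (twist σ g k) = FieldExt.twistNorm σ (rei g) k
  | 0 => map_one _
  | k + 1 => by rw [FieldExt.twistNorm_succ, ← rei_twist σ g k, ← rei_map, ← map_mul]; rfl

theorem twist_mul_scl (σ : F ≃+* F) (g : GL ι F) (z : Fˣ) (k : ℕ) :
    twist σ (g * scl z) k =
      twist σ g k * scl (∏ i ∈ Finset.range k, Units.map ((σ ^ i : F ≃+* F) : F →* F) z) := by
  refine rei.injective ?_
  rw [map_mul, rei_twist, rei_twist, rei_scl, map_mul, rei_scl, FieldExt.twistNorm_mul_scalar]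

theorem twist_fixed [Nonempty ι] (σ : F ≃+* F) {r : ℕ} (hσ : orderOf σ = r) (g : GL ι F) (c : Fˣ)
    (hc : twist σ g r = scl c) : σ (c : F) = c := by
  have h1 : FieldExt.twistNorm σ (rei g) 1 = rei g := by
    rw [FieldExt.twistNorm_succ, FieldExt.twistNorm_zero, map_one, mul_one]
  have e : FieldExt.twistNorm σ (rei g) (1 + r) = FieldExt.twistNorm σ (rei g) (r + 1) := by rw [Nat.add_comm]
  rw [FieldExt.twistNorm_add, FieldExt.twistNorm_add, ← rei_twist σ g r, hc, h1, ← hσ,
    pow_orderOf_eq_one, FieldExt.glMap_one, pow_one, ← rei_map, ← map_mul, ← map_mul, gmap_scl,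
    scl_commute c g] at e
  exact congrArg Units.val (scl_injective (mul_left_cancel (rei.injective e)))

theorem exists_descent (σ : F ≃+* F) {r : ℕ} (hr : 0 < r) (hσ : orderOf σ = r) (g : GL ι F)
    (hg : twist σ g r = 1) : ∃ h : GL ι F, g * gmap σ h = h := by
  obtain ⟨h', hh'⟩ := FieldExt.exists_descent σ hr hσ (rei g) (by rw [← rei_twist, hg, map_one])
  obtain ⟨h, rfl⟩ := rei.surjective h'
  rw [← rei_map, ← map_mul, rei.injective.eq_iff] at hh'
  exact ⟨h, hh'⟩

/-- A matrix fixed up to a scalar is fixed up to a scalar factor. -/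
theorem exists_fixed_rep [Fintype F] [Nonempty ι] (σ : F ≃+* F) (g : GL ι F) (c : Fˣ) (hc : gmap σ g = g * scl c) :
    ∃ y : Fˣ, gmap σ (g * scl y) = g * scl y := by
  have key : ∀ k, gmap (σ ^ k) g =
      g * scl (∏ i ∈ Finset.range k, Units.map ((σ ^ i : F ≃+* F) : F →* F) c) := by
    intro k
    induction k with
    | zero => simp [gmap_one]
    | succ k ih =>
      rw [pow_succ', gmap_mul, ih, map_mul, hc, gmap_scl, mul_assoc, ← map_mul,
        Finset.prod_range_succ' _ k, mul_comm (∏ i ∈ Finset.range k, _) _, pow_zero]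
      congr 2
      rw [map_prod]
      refine congrArg₂ (· * ·) (Units.ext (by simp)) (Finset.prod_congr rfl fun i _ => Units.ext ?_)
      simp [pow_succ']
  have h := key (orderOf σ)
  rw [pow_orderOf_eq_one, gmap_one, left_eq_mul] at h
  obtain ⟨y, hy⟩ := FieldExt.exists_div_eq σ (FieldExt.orderOf_pos' σ) rfl c
    (scl_injective (h.trans (map_one scl).symm))
  exact ⟨y, by rw [map_mul, hc, gmap_scl, mul_assoc, ← map_mul, hy]⟩

/-! ### Quadratic forms -/

omit [Fintype ι] in
theorem single_eq_comp {F₀ : Type*} [Field F₀] (f : F₀ →+* F) (i : ι) :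
    (Pi.single i 1 : ι → F) = f ∘ Pi.single i 1 := by
  funext l
  by_cases h : l = i <;> simp [h]

omit [Fintype ι] [DecidableEq ι] in
theorem comp_add {F₀ : Type*} [Field F₀] (f : F₀ →+* F) (u v : ι → F₀) : f ∘ (u + v) = f ∘ u + f ∘ v :=
  funext fun _ => map_add f _ _

theorem eq_zero_of_single (D : QuadraticForm F (ι → F)) (h1 : ∀ i, D (Pi.single i 1) = 0)
    (h2 : ∀ i j, D (Pi.single i 1 + Pi.single j 1) = 0) : D = 0 := by
  have hB : QuadraticMap.polarBilin D = 0 := LinearMap.ext_basis (Pi.basisFun F ι) (Pi.basisFun F ι) fun i j => by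
    simp [QuadraticMap.polar, h1, h2]
  have hadd : ∀ u v, D (u + v) = D u + D v := fun u v => by
    have e := congrArg (fun B => B u v) hB
    simp only [QuadraticMap.polarBilin_apply_apply, QuadraticMap.polar, LinearMap.zero_apply] at e
    linear_combination e
  refine QuadraticMap.ext fun v => ?_
  let d : (ι → F) →+ F := AddMonoidHom.mk' D hadd
  show d v = 0
  rw [pi_eq_sum_univ' v, map_sum]
  exact Finset.sum_eq_zero fun i _ => by
    show D (v i • Pi.single i 1) = 0
    rw [QuadraticMap.map_smul, h1, smul_zero]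

/-- Forms agreeing on the vectors over a subfield are equal. -/
theorem form_ext {F₀ : Type*} [Field F₀] (f : F₀ →+* F) {Q Q' : QuadraticForm F (ι → F)}
    (h : ∀ w : ι → F₀, Q (f ∘ w) = Q' (f ∘ w)) : Q = Q' := by
  refine sub_eq_zero.1 (eq_zero_of_single _ (fun i => ?_) fun i j => ?_)
  · rw [sub_apply, single_eq_comp f, h, sub_self]
  · rw [sub_apply, single_eq_comp f, single_eq_comp f, ← comp_add, h, sub_self]

theorem exists_value_rational {F₀ : Type*} [Field F₀] (f : F₀ →+* F) {Q : QuadraticForm F (ι → F)}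
    (hQ : (QuadraticMap.polarBilin Q).Nondegenerate) [Nonempty ι] : ∃ w : ι → F₀, Q (f ∘ w) ≠ 0 := by
  by_contra hne
  push Not at hne
  have h0 : Q = 0 := form_ext f fun w => by rw [hne]; rfl
  have h := hQ.1 (Pi.single (Classical.arbitrary ι) 1) fun y => by simp [h0, QuadraticMap.polar]
  simpa using congrFun h (Classical.arbitrary ι)

/-- A form with values in a subfield on its vectors comes from that subfield. -/
theorem exists_restrict {F₀ : Type*} [Field F₀] (f : F₀ →+* F) (Q : QuadraticForm F (ι → F))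
    (hval : ∀ w : ι → F₀, Q (f ∘ w) ∈ Set.range f) (hQ : (QuadraticMap.polarBilin Q).Nondegenerate) :
    ∃ Q₁ : QuadraticForm F₀ (ι → F₀), (∀ w, f (Q₁ w) = Q (f ∘ w)) ∧
      (QuadraticMap.polarBilin Q₁).Nondegenerate := by
  choose q hq using hval
  have hsmul : ∀ (a : F₀) (w : ι → F₀), f ∘ (a • w) = f a • (f ∘ w) := fun a w =>
    funext fun _ => map_mul f _ _
  have hpol : ∀ x y, f (q (x + y) - q x - q y) = QuadraticMap.polarBilin Q (f ∘ x) (f ∘ y) := fun x y => by
    rw [map_sub, map_sub, hq, hq, hq, comp_add]; rfl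
  let Q₁ : QuadraticForm F₀ (ι → F₀) :=
    { toFun := q
      toFun_smul := fun a w => f.injective (by
        rw [hq, hsmul, QuadraticMap.map_smul, smul_eq_mul, smul_eq_mul, map_mul, map_mul, hq])
      exists_companion' := ⟨LinearMap.mk₂ F₀ (fun x y => q (x + y) - q x - q y)
        (fun x x' y => f.injective (by rw [map_add f (q (x + y) - _ - _), hpol, hpol, hpol, comp_add]; simp))
        (fun a x y => f.injective (by rw [smul_eq_mul, map_mul, hpol, hpol, hsmul]; simp))
        (fun x y y' => f.injective (by rw [map_add f (q (x + y) - _ - _), hpol, hpol, hpol, comp_add]; simp))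
        (fun a x y => f.injective (by rw [smul_eq_mul, map_mul, hpol, hpol, hsmul]; simp)),
        fun x y => by simp [LinearMap.mk₂_apply]⟩ }
  refine ⟨Q₁, hq, ?_⟩
  have hsep : ∀ x, (∀ y, QuadraticMap.polarBilin Q₁ x y = 0) → x = 0 := fun x hx => by
    have hz : f ∘ x = 0 := hQ.1 _ fun y => by
      rw [pi_eq_sum_univ' y, map_sum]
      refine Finset.sum_eq_zero fun i _ => ?_
      rw [map_smul, single_eq_comp f, ← hpol,
        show q (x + Pi.single i 1) - q x - q (Pi.single i 1) = 0 from hx _, map_zero, smul_zero]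
    exact funext fun i => f.injective ((congrFun hz i).trans (map_zero f).symm)
  exact ⟨hsep, fun y hy => hsep y fun x => by
    have := hy x
    rw [QuadraticMap.polarBilin_apply_apply, QuadraticMap.polar_comm] at this
    exact this⟩

end Cfsg.Agent.AutPO
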