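import Cfsg.Agent.Lib.AutPO.Class

/-!
A power of the standard field automorphism is trivial only if the power of the field automorphism is.
-/

set_option autoImplicit false

namespace Cfsg.Agent.AutPO

open scoped Matrix MatrixGroups
open ClassicalSimple (GO simAut)

variable {ι : Type} [Fintype ι] [DecidableEq ι] {F : Type*} [Field F] [Fintype F]
variable {Q : QuadraticForm F (ι → F)} {σ : F ≃+* F} (hσ : Fixes Q σ)
  (hQ : (QuadraticMap.polarBilin Q).Nondegenerate) (h5 : 5 ≤ Fintype.card ι)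

include hσ in
theorem fieldA_pow_mul_simAut (g : GO Q) : ∀ k : ℕ, ∃ h : GO Q, h.1 = gmap (σ ^ k) g.1 ∧
    fieldA hσ ^ k * simAut Q g = simAut Q h * fieldA hσ ^ k
  | 0 => ⟨g, (gmap_one g.1).symm, by rw [pow_zero, one_mul, mul_one]⟩
  | k + 1 => by
    obtain ⟨h, hh, he⟩ := fieldA_pow_mul_simAut g k
    refine ⟨mapGO hσ h, by rw [mapGO_coe, hh, ← gmap_mul, ← pow_succ'], ?_⟩
    rw [pow_succ', mul_assoc, he, ← mul_assoc, fieldA_mul_simAut, mul_assoc]

include hQ h5 in
/-- If a similarity with entries `1` and `t` is fixed up to scalars then `t` is fixed. -/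
theorem fix_entry {k : ℕ} (hk : fieldA hσ ^ k = 1) (g : GO Q) {i₀ j₀ i j : ι} (h1 : g.1.val i₀ j₀ = 1) :
    (σ ^ k : F ≃+* F) (g.1.val i j) = g.1.val i j := by
  obtain ⟨h, hh, he⟩ := fieldA_pow_mul_simAut hσ g k
  rw [hk, one_mul, mul_one] at he
  obtain ⟨c, hc⟩ := (simAut_eq_iff hQ h5).1 he.symm
  rw [hh] at hc
  have hij : ∀ a b, (σ ^ k : F ≃+* F) (g.1.val a b) = (c : F) * g.1.val a b := fun a b => by
    have := congrArg (fun A : GL ι F => A.val a b) hc
    simp only [Units.val_mul, scl_val, gmap_val, Matrix.map_apply] at this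
    simpa using this
  have hc1 : (c : F) = 1 := by
    have := hij i₀ j₀
    rw [h1, map_one, mul_one] at this
    exact this.symm
  rw [hij i j, hc1, one_mul]

include hQ h5 in
/-- The order of the standard field automorphism. -/
theorem orderOf_fieldA (hrich : ∀ t : F, ∃ (g : GO Q) (i₀ j₀ i j : ι), g.1.val i₀ j₀ = 1 ∧ g.1.val i j = t) :
    orderOf (fieldA hσ) = orderOf σ := by
  refine Nat.dvd_antisymm (orderOf_dvd_of_pow_eq_one (fieldA_pow_eq_one hσ (pow_orderOf_eq_one σ)))
    (orderOf_dvd_of_pow_eq_one (RingEquiv.ext fun t => ?_))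
  obtain ⟨g, i₀, j₀, i, j, h1, rfl⟩ := hrich t
  exact fix_entry hσ hQ h5 (pow_orderOf_eq_one _) g h1

end Cfsg.Agent.AutPO
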