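import Cfsg.Agent.Lib.AutPO.Even
import Cfsg.Agent.Lib.ClassicalSimple.PGOModels
import Cfsg.Agent.Lib.Forms.Quad

/-!
The inner-diagonal groups of `POmega` of plus and minus type are the images of `Dg`, in any characteristic.
-/

set_option autoImplicit false

namespace Cfsg.Agent.AutPO

open scoped Matrix MatrixGroups
open ClassicalSimple (GO simAut scalarSub omegaSub scalarGO isometry_le_GO mem_isometry_iff)
open QForm (plusForm minusForm TotallySingular)
open Module (finrank)

section Generic

variable {ι : Type} [Fintype ι] [DecidableEq ι] {F : Type*} [Field F]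
variable {Q : QuadraticForm F (ι → F)} {k : ℕ}
variable (hQ : (QuadraticMap.polarBilin Q).Nondegenerate) (hn : Fintype.card ι = 2 * k)
include hQ hn

theorem finrank_maxSingular' {U0 U : Submodule F (ι → F)}
    (h0 : TotallySingular Q U0) (h0k : finrank F U0 = k) (hU : IsMaxTotallySingular ⇑Q U) :
    finrank F U = k := by
  have hV : finrank F (ι → F) = 2 * k := by rw [Module.finrank_fintype_fun_eq_card, hn]
  have hUs : TotallySingular Q U := hU.1
  have hle : finrank F U ≤ k := by
    have h1 := Submodule.finrank_mono hUs.le_orthogonal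
    rw [LinearMap.BilinForm.finrank_orthogonal hQ, hV] at h1
    have h2 : finrank F U ≤ finrank F (ι → F) := Submodule.finrank_le U
    rw [hV] at h2
    omega
  let bU := Module.finBasis F U
  let b0 := Module.finBasisOfFinrankEq F U0 h0k
  let φ : U →ₗ[F] (ι → F) := bU.constr F fun i => (b0 (Fin.castLE hle i) : ι → F)
  have hφli : LinearIndependent F fun i => φ (bU i) := by
    simp only [φ, Module.Basis.constr_basis]
    exact ((b0.linearIndependent.map' U0.subtype U0.ker_subtype).comp _ (Fin.castLE_injective hle))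
  have hinj : Function.Injective φ := by
    refine (injective_iff_map_eq_zero φ).2 fun x hx => bU.ext_elem fun i => ?_
    rw [map_zero, Finsupp.zero_apply]
    refine Fintype.linearIndependent_iff.1 hφli (fun i => bU.repr x i) ?_ i
    rw [← hx]
    conv_rhs => rw [← bU.sum_repr x, map_sum]
    simp
  have hφ0 : ∀ x : U, φ x ∈ U0 := fun x => by
    rw [Module.Basis.constr_apply_fintype]
    exact Submodule.sum_mem _ fun i _ => Submodule.smul_mem _ _ (b0 _).2
  obtain ⟨h, hh⟩ := QForm.exists_act_extend hQ U φ hinj fun x => by rw [h0 _ (hφ0 x), hUs _ x.2]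
  have hsub : U ≤ QForm.image h⁻¹ U0 := fun u hu => (QForm.mem_image _).2
    ⟨φ ⟨u, hu⟩, hφ0 _, by rw [← hh ⟨u, hu⟩]; exact QForm.act_inv_act Q h u⟩
  rw [← hU.2 _ (QForm.totallySingular_image _ h0) hsub, QForm.finrank_image, h0k]

omit [DecidableEq ι] in
theorem isMax_of_finrank {U0 : Submodule F (ι → F)} (h0 : TotallySingular Q U0) (h0k : finrank F U0 = k) :
    IsMaxTotallySingular ⇑Q U0 := ⟨h0, fun W hW hle => by
  refine (Submodule.eq_of_le_of_finrank_le hle ?_).symm
  have hWs : TotallySingular Q W := hW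
  have h1 := Submodule.finrank_mono hWs.le_orthogonal
  rw [LinearMap.BilinForm.finrank_orthogonal hQ, Module.finrank_fintype_fun_eq_card, hn] at h1
  have h2 : finrank F W ≤ finrank F (ι → F) := Submodule.finrank_le W
  rw [Module.finrank_fintype_fun_eq_card, hn] at h2
  omega⟩

/-- In characteristic two a similarity fixes the two classes iff it lies in `Omega` up to a scalar. -/
theorem preserves_iff_Dg_two [Fintype F] (h2 : (2 : F) = 0) (hk : 3 ≤ k) {U0 : Submodule F (ι → F)}
    (h0 : TotallySingular Q U0) (h0k : finrank F U0 = k) (g : GO Q) :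
    PreservesSingularClasses ⇑Q g.1.val ↔ g ∈ Dg Q k := by
  classical
  have := charTwo_of h2
  have : Nonempty ι := Fintype.card_pos_iff.1 (by omega)
  have hV : finrank F (ι → F) = 2 * k := by rw [Module.finrank_fintype_fun_eq_card, hn]
  obtain ⟨c, hc⟩ := g.2
  obtain ⟨s, hs⟩ := FiniteField.isSquare_of_char_two (CharP.eq F (ringChar.charP F) inferInstance) (c : F)
  have hs0 : s ≠ 0 := fun e => c.ne_zero (by rw [hs, e, mul_zero])
  set u := Units.mk0 s hs0
  have hiso : (scalarGO Q u⁻¹ * g).1 ∈ isometryGroup F ⇑Q := by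
    refine (mem_isometry_iff Q).2 fun x => ?_
    rw [Subgroup.coe_mul, scalarGO_coe, Units.val_mul, ← Matrix.mulVec_mulVec, scl_mulVec, QuadraticMap.map_smul,
      hc, smul_eq_mul, Units.val_inv_eq_inv_val, Units.val_mk0, hs]
    field_simp
  set t : isometryGroup F ⇑Q := ⟨_, hiso⟩
  have hg : g = scalarGO Q u * Subgroup.inclusion (isometry_le_GO Q) t := by
    refine Subtype.ext ?_
    show g.1 = (scalarGO Q u).1 * ((scalarGO Q u⁻¹).1 * g.1)
    rw [scalarGO_coe, scalarGO_coe, ← mul_assoc, ← map_mul, mul_inv_cancel, map_one, one_mul]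
  have himg : ∀ U, imageSubmodule g.1.val U = QForm.image t U := by
    intro U
    ext x
    rw [QForm.mem_image]
    show x ∈ U.map (Matrix.toLin' g.1.val) ↔ _
    have hact : ∀ y, g.1.val *ᵥ y = s • QForm.act Q t y := fun y => by
      show _ = s • ((scalarGO Q u⁻¹ * g).1.val *ᵥ y)
      rw [Subgroup.coe_mul, scalarGO_coe, Units.val_mul, ← Matrix.mulVec_mulVec, scl_mulVec, smul_smul,
        Units.val_inv_eq_inv_val, Units.val_mk0, mul_inv_cancel₀ hs0, one_smul]
    rw [Submodule.mem_map]
    constructor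
    · rintro ⟨y, hy, rfl⟩
      exact ⟨s • y, U.smul_mem s hy, by rw [Matrix.toLin'_apply, hact]; exact Matrix.mulVec_smul _ s y⟩
    · rintro ⟨y, hy, rfl⟩
      refine ⟨s⁻¹ • y, U.smul_mem _ hy, ?_⟩
      rw [Matrix.toLin'_apply, hact]
      show s • (t.1.val *ᵥ (s⁻¹ • y)) = _
      rw [Matrix.mulVec_smul, smul_smul, mul_inv_cancel₀ hs0, one_smul]
  have hom : g ∈ Dg Q k ↔ t ∈ Omega F ⇑Q := by
    have hsc := scalar_le_Dg (Q := Q) (k := k) hn (ClassicalSimple.scalarGO_mem (Q := Q) u)
    have e : g ∈ Dg Q k ↔ Subgroup.inclusion (isometry_le_GO Q) t ∈ Dg Q k := by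
      rw [hg, mul_mem_Dg_iff hQ hn hk]
      exact ⟨fun h => h.1 hsc, fun h => iff_of_true hsc h⟩
    refine e.trans ⟨fun h => ?_, fun h => omega_le_Dg ⟨t, h, rfl⟩⟩
    obtain ⟨vs, hvs, ht⟩ := QForm.exists_list hQ (Or.inr (by omega)) t
    rcases Nat.even_or_odd vs.length with he | ho
    · exact (QForm.mem_omega_iff_even hQ (Or.inr (by omega)) t vs hvs ht).2 he
    · exfalso
      cases vs with
      | nil => simp at ho
      | cons v vs =>
        have hv := hvs v List.mem_cons_self
        obtain ⟨t', ht'⟩ := QForm.exists_prod_refl Q vs fun w hw => hvs w (List.mem_cons_of_mem _ hw)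
        have htt : t = QForm.refl Q v hv * t' := Subtype.ext (Units.ext (by
          rw [ht, List.map_cons, List.prod_cons, ← ht']; rfl))
        have hev : Even vs.length := by simpa [Nat.odd_add_one] using ho
        have h't : t' ∈ Omega F ⇑Q := (QForm.mem_omega_iff_even hQ (Or.inr (by omega)) t' vs
          (fun w hw => hvs w (List.mem_cons_of_mem _ hw)) ht').2 hev
        have h1 : reflG v hv * Subgroup.inclusion (isometry_le_GO Q) t' ∈ Dg Q k := by
          rw [htt, map_mul] at h; exact h
        rw [mul_mem_Dg_iff hQ hn hk] at h1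
        exact reflG_notMem hQ hn hk v hv (h1.2 (omega_le_Dg ⟨t', h't, rfl⟩))
  rw [hom]
  constructor
  · intro hp
    have hpU := hp U0 (isMax_of_finrank hQ hn h0 h0k)
    rw [SameParityClass, himg, h0k] at hpU
    exact (QForm.family_iff_omega hQ hV (Or.inr (by omega)) h0 h0k t).1 hpU
  · intro ht U hU
    have hUk := finrank_maxSingular' hQ hn h0 h0k hU
    rw [SameParityClass, himg, hUk]
    exact (QForm.family_iff_omega hQ hV (Or.inr (by omega)) hU.1 hUk t).2 ht

end Generic

section Models

universe v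

variable {F : Type v} [Field F] [Fintype F] {m : ℕ}

omit [Fintype F] in
theorem nondeg_plus : (QuadraticMap.polarBilin (plusForm F m)).Nondegenerate := QForm.plusForm_nondegenerate F m

omit [Fintype F] in
theorem card_plus : Fintype.card (Fin m ⊕ Fin m) = 2 * m := by simp [two_mul]

omit [Fintype F] in
theorem card_minus : Fintype.card ((Fin m ⊕ Fin m) ⊕ Fin 2) = 2 * (m + 1) := by simp; omega

theorem mem_Dg_iff_dsign {ι : Type} [Fintype ι] [DecidableEq ι] {Q : QuadraticForm F (ι → F)} {k : ℕ}
    (E : ClassicalSimple.EvenForm Q k) (g : GO Q) : g ∈ Dg Q k ↔ ClassicalSimple.dsign k g = 1 := by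
  rw [Dg_odd Q k E.two]
  have key : ∀ c : Fˣ, (ClassicalSimple.mult g : F) = c →
      ClassicalSimple.dsign k g = g.1.val.det * ((c : F) ^ k)⁻¹ := fun c hc => by
    rw [ClassicalSimple.dsign, Units.val_pow_eq_pow_val, Units.val_inv_eq_inv_val, hc, inv_pow]
  constructor
  · rintro ⟨c, hc, hd⟩
    rw [key c (ClassicalSimple.mult_eq E g c hc), hd, mul_inv_cancel₀ (pow_ne_zero _ c.ne_zero)]
  · intro h
    refine ⟨ClassicalSimple.mult g, ClassicalSimple.mult_spec g, ?_⟩
    rw [key _ rfl, mul_inv_eq_one₀ (pow_ne_zero _ (Units.ne_zero _))] at h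
    exact h

theorem preserves_plus_iff (hm : 3 ≤ m) (g : GO (plusForm F m)) :
    PreservesSingularClasses ⇑(plusForm F m) g.1.val ↔ g ∈ Dg (plusForm F m) m := by
  by_cases h2 : (2 : F) = 0
  · obtain ⟨U0, h0, h0k, -⟩ := ClassicalSimple.exists_plus_fixed (F := F) m
    exact preserves_iff_Dg_two nondeg_plus card_plus h2 hm h0 h0k g
  · have E : ClassicalSimple.EvenForm (plusForm F m) m := ⟨h2, nondeg_plus, card_plus, hm⟩
    rw [ClassicalSimple.preserves_plus E g, mem_Dg_iff_dsign E]

/-- The inner-diagonal group of plus type. -/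
theorem inndiagPlus_eq (hm : 3 ≤ m) :
    autSubgroupOf (fun β : MulAut (POmega F ⇑(plusForm F m)) =>
      ∃ g : GL (Fin m ⊕ Fin m) F, g ∈ GO (plusForm F m) ∧
        PreservesSingularClasses ⇑(plusForm F m) g.val ∧
        IsInducedBySemilinearPOmega ⇑(plusForm F m) g (RingEquiv.refl F) β) =
      (Dg (plusForm F m) m).map (simAut _) := by
  have := ClassicalSimple.autSubgroupOf_eq_map (plusForm F m)
    (fun g => g ∈ GO (plusForm F m) ∧ PreservesSingularClasses ⇑(plusForm F m) g.val)
    (Dg (plusForm F m) m) (fun g => by rw [and_iff_right g.2, preserves_plus_iff hm g]) (fun g hg => hg.1)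
  simp only [and_assoc] at this
  exact this

variable {a b : F}

omit [Fintype F] in
theorem minusForm_eq_quad : minusForm F m a b = Forms.quadMinus m F a b :=
  QuadraticMap.ext fun x => by rw [QForm.minusForm_apply, Forms.quadMinus_apply]

theorem nondeg_minus (hab : ∀ z₁ z₂ : F, z₁ ^ 2 + a * z₁ * z₂ + b * z₂ ^ 2 = 0 → z₁ = 0 ∧ z₂ = 0) :
    (QuadraticMap.polarBilin (minusForm F m a b)).Nondegenerate := by
  rw [minusForm_eq_quad]; exact Forms.quadMinus_nondegenerate m hab

theorem disc_ne_zero (hab : ∀ z₁ z₂ : F, z₁ ^ 2 + a * z₁ * z₂ + b * z₂ ^ 2 = 0 → z₁ = 0 ∧ z₂ = 0) :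
    a ^ 2 - 4 * b ≠ 0 := fun e => by
  have hg := (LinearMap.BilinForm.nondegenerate_iff_det_ne_zero
    (Pi.basisFun F ((Fin 0 ⊕ Fin 0) ⊕ Fin 2))).1 (nondeg_minus (m := 0) hab)
  rw [← QForm.gram_eq_toMatrix, QForm.det_gram_minus, e, mul_zero] at hg
  exact hg rfl

omit [Fintype F] in
theorem minusForm_map {K : Type*} [Field K] (f : F →+* K) (w : (Fin m ⊕ Fin m) ⊕ Fin 2 → F) :
    minusForm K m (f a) (f b) (f ∘ w) = f (minusForm F m a b w) := by
  simp [QForm.minusForm_apply, quadFormMinus, map_sum]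

omit [Fintype F] in
theorem plusForm_map {K : Type*} [Field K] (f : F →+* K) (w : Fin m ⊕ Fin m → F) :
    plusForm K m (f ∘ w) = f (plusForm F m w) := by
  simp [QForm.plusForm_apply, quadFormPlus, map_sum]

omit [Fintype F] in
theorem minusForm_map_one {K : Type*} [Field K] (f : F →+* K) (w : (Fin m ⊕ Fin m) ⊕ Fin 2 → F) :
    minusForm K m (f a) (f b) ((1 : GL ((Fin m ⊕ Fin m) ⊕ Fin 2) K).val *ᵥ (f ∘ w)) =
      ((1 : Kˣ) : K) * f (minusForm F m a b w) := by
  rw [Units.val_one, Matrix.one_mulVec, Units.val_one, one_mul, minusForm_map]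

theorem preserves_minus_iff (hm : 2 ≤ m)
    (hab : ∀ z₁ z₂ : F, z₁ ^ 2 + a * z₁ * z₂ + b * z₂ ^ 2 = 0 → z₁ = 0 ∧ z₂ = 0)
    (g : GO (minusForm F m a b)) :
    PreservesSingularClassesMinus m a b g.1.val ↔ g ∈ Dg (minusForm F m a b) (m + 1) := by
  have hQ := nondeg_minus (m := m) hab
  have key : ∀ (K : Type v) [Field K] [Algebra F K], finrank F K = 2 →
      (PreservesSingularClasses (quadFormMinus m K (algebraMap F K a) (algebraMap F K b))
        (g.1.val.map (algebraMap F K)) ↔ g ∈ Dg (minusForm F m a b) (m + 1)) := by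
    intro K _ _ hK
    by_cases h2 : (2 : F) = 0
    · haveI : Module.Finite F K := Module.finite_of_finrank_pos (by omega)
      have : Finite K := Module.finite_of_finite F
      let : Fintype K := Fintype.ofFinite K
      set f := algebraMap F K
      have h2K : (2 : K) = 0 := by rw [← map_ofNat f 2, h2, map_zero]
      obtain ⟨θ, hθ⟩ := FieldExt.exists_root hK (-a) b
      rw [map_neg] at hθ
      have hQK : (QuadraticMap.polarBilin (minusForm K m (f a) (f b))).Nondegenerate :=
        ClassicalSimple.minus_nondegenerate K _ _ (by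
          rw [← map_ofNat f 4, ← map_pow, ← map_mul, ← map_sub]
          exact (map_ne_zero f).2 (disc_ne_zero hab))
      obtain ⟨U0, h0, h0k, -⟩ := ClassicalSimple.exists_minus_fixed (f a) (f b) m θ (by linear_combination hθ)
      rw [← emb_mem_Dg_iff f 1 1 (minusForm_map_one f) hQK hQ card_minus (by omega) g,
        ← preserves_iff_Dg_two hQK card_minus h2K (by omega) h0 h0k, QForm.coe_minusForm, embGO_coe, one_mul,
        inv_one, mul_one]
      rfl
    · have E : ClassicalSimple.EvenForm (minusForm F m a b) (m + 1) := ⟨h2, hQ, card_minus, by omega⟩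
      rw [mem_Dg_iff_dsign E]
      exact ClassicalSimple.preserves_minus E g K hK
  constructor
  · rintro ⟨K, hKf, hKa, hK, hp⟩
    exact (key K hK).1 hp
  · intro h
    obtain ⟨K, hKf, hKa, hK⟩ := ClassicalSimple.exists_quadratic_field hab
    exact ⟨K, hKf, hKa, hK, (key K hK).2 h⟩

/-- The inner-diagonal group of minus type. -/
theorem inndiagMinus_eq (hm : 2 ≤ m)
    (hab : ∀ z₁ z₂ : F, z₁ ^ 2 + a * z₁ * z₂ + b * z₂ ^ 2 = 0 → z₁ = 0 ∧ z₂ = 0) :
    autSubgroupOf (fun β : MulAut (POmega F ⇑(minusForm F m a b)) =>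
      ∃ g : GL ((Fin m ⊕ Fin m) ⊕ Fin 2) F, g ∈ GO (minusForm F m a b) ∧
        PreservesSingularClassesMinus m a b g.val ∧
        IsInducedBySemilinearPOmega ⇑(minusForm F m a b) g (RingEquiv.refl F) β) =
      (Dg (minusForm F m a b) (m + 1)).map (simAut _) := by
  have := ClassicalSimple.autSubgroupOf_eq_map (minusForm F m a b)
    (fun g => g ∈ GO (minusForm F m a b) ∧ PreservesSingularClassesMinus m a b g.val)
    (Dg (minusForm F m a b) (m + 1)) (fun g => by rw [and_iff_right g.2, preserves_minus_iff hm hab g])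
    (fun g hg => hg.1)
  simp only [and_assoc] at this
  exact this

end Models

end Cfsg.Agent.AutPO
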