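import Cfsg.Agent.Lib.AutPO.OddSplit
import Cfsg.Agent.Lib.AutPO.Singular
import Cfsg.Agent.Lib.ClassicalSimple.PGOOmega

/-!
Inner-diagonal similarities against the ones coming from a subfield of odd index.
-/

set_option autoImplicit false

namespace Cfsg.Agent.AutPO

open scoped Matrix MatrixGroups
open ClassicalSimple (GO scalarSub omegaSub scalarGO scalarGO_mem EvenForm Twist mem_isometry_iff)
open QForm (sphereSign)

variable {ι : Type} [Fintype ι] [DecidableEq ι] {F : Type*} [Field F] {F₀ : Type*} [Field F₀]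
variable {Q : QuadraticForm F (ι → F)} {Q₀ : QuadraticForm F₀ (ι → F₀)}
variable (f : F₀ →+* F) (h : ∀ w, Q (f ∘ w) = f (Q₀ w))
include h

theorem one_hJ (w : ι → F₀) : Q ((1 : GL ι F).val *ᵥ (f ∘ w)) = ((1 : Fˣ) : F) * f (Q₀ w) := by
  rw [Units.val_one, Matrix.one_mulVec, Units.val_one, one_mul, h]

theorem emb_isoGO (y : isometryGroup F₀ ⇑Q₀) :
    embGO f 1 1 (one_hJ f h) (isoGO Q₀ y) = isoGO Q (mapIso f h y) :=
  Subtype.ext (by rw [embGO_coe, isoGO_coe, isoGO_coe, one_mul, inv_one, mul_one, mapIso_coe])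

variable [Fintype F] [DecidableEq F] [Fintype F₀] [DecidableEq F₀] {k r : ℕ}

/-- In odd characteristic and odd degree the subfield supplies every class modulo `Omega` and scalars. -/
theorem Dg_le_of_twist (E : EvenForm Q k) (E₀ : EvenForm Q₀ k) (T : Twist E₀)
    (hr : Fintype.card F = Fintype.card F₀ ^ r) (hodd : Odd r) :
    Dg Q k ≤ omegaSub Q ⊔ scalarSub Q ⊔ (Dg Q₀ k).map (embGO f 1 1 (one_hJ f h)) := by
  classical
  set emb := embGO f 1 1 (one_hJ f h)
  set S := omegaSub Q ⊔ scalarSub Q ⊔ (Dg Q₀ k).map emb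
  have : Nonempty ι := Fintype.card_pos_iff.1 (by have := E.card; have := E.three; omega)
  obtain ⟨v, hv, t, -, ht⟩ := ClassicalSimple.exists_spin_neg E₀ T
  set t₀ : isometryGroup F₀ ⇑Q₀ := ⟨t.1.1, t.2.1⟩
  have htd : t₀.1.val.det = 1 := by
    have hm := (ClassicalSimple.mem_soSub E₀ t.1).1 t.2
    rw [← ClassicalSimple.dsign_isometry E₀ t.1 hm.1]
    exact hm.2
  have htD : isoGO Q₀ t₀ ∈ Dg Q₀ k := by
    rw [Dg_odd Q₀ k E₀.two]
    exact ⟨1, fun w => by rw [Units.val_one, one_mul]; exact (mem_isometry_iff Q₀).1 t₀.2 w,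
      by rw [isoGO_coe, htd, Units.val_one, one_pow]⟩
  -- a square multiplier
  have sq : ∀ (g : GO Q) (c : Fˣ), (∀ w, Q (g.1.val *ᵥ w) = (c : F) * Q w) →
      g.1.val.det = (c : F) ^ k → IsSquare (c : F) → g ∈ S := by
    intro g c hc hd hsq
    obtain ⟨s, hs⟩ := hsq
    have hs0 : s ≠ 0 := fun e => c.ne_zero (by rw [hs, e, mul_zero])
    set u := Units.mk0 s hs0
    have hiso : (scalarGO Q u⁻¹ * g).1 ∈ isometryGroup F ⇑Q := by
      refine (mem_isometry_iff Q).2 fun x => ?_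
      rw [Subgroup.coe_mul, scalarGO_coe, Units.val_mul, ← Matrix.mulVec_mulVec, scl_mulVec, QuadraticMap.map_smul,
        hc, smul_eq_mul, Units.val_inv_eq_inv_val, Units.val_mk0, hs]
      field_simp
    set y : isometryGroup F ⇑Q := ⟨_, hiso⟩
    have hg : g = scalarGO Q u * isoGO Q y := by
      refine Subtype.ext ?_
      show g.1 = (scalarGO Q u).1 * ((scalarGO Q u⁻¹).1 * g.1)
      rw [scalarGO_coe, scalarGO_coe, ← mul_assoc, ← map_mul, mul_inv_cancel, map_one, one_mul]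
    have hyd : y.1.val.det = 1 := by
      show (scalarGO Q u⁻¹ * g).1.val.det = 1
      rw [Subgroup.coe_mul, scalarGO_coe, Units.val_mul, Matrix.det_mul, scl_val, Matrix.det_smul, Matrix.det_one,
        mul_one, hd, E.card, Units.val_inv_eq_inv_val, Units.val_mk0, pow_mul, inv_pow, ← mul_pow, hs]
      field_simp
      simp
    have hom : ∀ z : isometryGroup F ⇑Q, z.1.val.det = 1 → sphereSign Q z = 1 → isoGO Q z ∈ S := fun z hzd hzs =>
      Subgroup.mem_sup_left (Subgroup.mem_sup_left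
        ⟨z, (QForm.mem_omega_iff_invariants E.two E.nondeg z).2 ⟨hzs, hzd⟩, rfl⟩)
    rw [hg]
    refine S.mul_mem (Subgroup.mem_sup_left (Subgroup.mem_sup_right (scalarGO_mem (Q := Q) u))) ?_
    rcases Int.units_eq_one_or (sphereSign Q y) with hys | hys
    · exact hom y hyd hys
    · set t' := mapIso f h t₀
      have htd' : t'.1.val.det = 1 := by rw [det_mapIso, htd, map_one]
      have hts : sphereSign Q t' = -1 := by
        rw [(sphereSign_mapIso f h hr E.two E₀.nondeg t₀).1 hodd]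
        exact ht
      rw [show isoGO Q y = isoGO Q t' * isoGO Q (t'⁻¹ * y) by rw [← map_mul, mul_inv_cancel_left]]
      refine S.mul_mem (Subgroup.mem_sup_right ⟨_, htD, emb_isoGO f h t₀⟩) (hom _ ?_ ?_)
      · have hinv : t'.1⁻¹.val.det = 1 := by
          have h' := congrArg Matrix.det (Units.inv_mul t'.1)
          rwa [Matrix.det_mul, htd', mul_one, Matrix.det_one] at h'
        rw [Subgroup.coe_mul, InvMemClass.coe_inv, Units.val_mul, Matrix.det_mul, hinv, hyd, one_mul]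
      · rw [map_mul, map_inv, hts, hys]; rfl
  intro g hg
  rw [Dg_odd Q k E.two] at hg
  obtain ⟨c, hc, hd⟩ := hg
  by_cases hsq : IsSquare (c : F)
  · exact sq g c hc hd hsq
  -- a similarity over the subfield with nonsquare multiplier
  obtain ⟨d, hdD, c₀, hc₀, hns⟩ : ∃ d ∈ Dg Q₀ k, ∃ c₀ : F₀ˣ,
      (∀ w, Q₀ (d.1.val *ᵥ w) = (c₀ : F₀) * Q₀ w) ∧ ¬ IsSquare (c₀ : F₀) := by
    rcases mem_or_refl_mul E₀.nondeg E₀.card E₀.three T.g v hv with h1 | h1
    · exact ⟨_, h1, _, fun w => ClassicalSimple.mult_spec T.g w, T.nonsquare⟩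
    · refine ⟨_, h1, _, fun w => ?_, T.nonsquare⟩
      rw [Subgroup.coe_mul, Units.val_mul, ← Matrix.mulVec_mulVec]
      exact ((mem_isometry_iff Q₀).1 (QForm.refl Q₀ v hv).2 _).trans (ClassicalSimple.mult_spec T.g w)
  have hnsF : ¬ IsSquare (f (c₀ : F₀)) := by
    rw [← quadraticChar_neg_one_iff_not_isSquare, quadraticChar_map f hr E.two c₀.ne_zero,
      quadraticChar_neg_one_iff_not_isSquare.2 hns, hodd.neg_one_pow]
  have hdd : d.1.val.det = (c₀ : F₀) ^ k := by
    have h1 := hdD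
    rw [Dg_odd Q₀ k E₀.two] at h1
    obtain ⟨c₁, hc₁, hd₁⟩ := h1
    have e : (c₁ : F₀) = c₀ := mult_unique E₀.nondeg fun w => (hc₁ w).symm.trans (hc₀ w)
    rw [hd₁, e]
  have hmem : g * emb d ∈ S := sq _ (c * Units.map (f : F₀ →* F) c₀) (fun w => by
      rw [Subgroup.coe_mul, Units.val_mul, ← Matrix.mulVec_mulVec, hc, emb_mult f 1 1 (one_hJ f h) d hc₀,
        Units.val_mul, mul_assoc]
      rfl)
    (by rw [Subgroup.coe_mul, Units.val_mul, Matrix.det_mul, hd, emb_det, hdd, Units.val_mul, mul_pow, map_pow]; rfl)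
    (by rw [Units.val_mul]; exact (QForm.isSquare_mul_nonsquare_iff c.ne_zero hnsF).2 hsq)
  have := S.mul_mem hmem (S.inv_mem (Subgroup.mem_sup_right ⟨d, hdD, rfl⟩ : emb d ∈ S))
  rwa [mul_inv_cancel_right] at this

end Cfsg.Agent.AutPO
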