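import Cfsg.Agent.Lib.AutPO.GraphField
import Cfsg.Agent.Lib.AutPO.Split

/-!
Centralisers and classes of field automorphisms of the hyperbolic orthogonal groups.
-/

set_option autoImplicit false

namespace Cfsg.Agent.AutPO

open scoped Matrix MatrixGroups
open ClassicalSimple (GO simAut scalarSub omegaSub scalarGO EvenForm mem_isometry_iff)
open QForm (plusForm)

variable {F : Type*} [Field F] [Fintype F] {n : ℕ}

local notation "QP" => plusForm F (n + 1)

section Split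

variable {F₀ : Type*} [Field F₀] [Fintype F₀] (f : F₀ →+* F)

set_option maxHeartbeats 1000000 in
-- defeq checks on sum-indexed matrices are slow
/-- A rational similarity of nonsquare multiplier, as a scalar times a Levi element. -/
theorem exists_diag_form (hcard : Fintype.card F = Fintype.card F₀ ^ 2) (h2 : (2 : F) ≠ 0) :
    ∃ (d : GO (plusForm F₀ (n + 1))) (c : F₀ˣ) (u : Fˣ) (A : GL (Fin (n + 1)) F),
      d ∈ Dg (plusForm F₀ (n + 1)) (n + 1) ∧
      (∀ w, plusForm F₀ (n + 1) (d.1.val *ᵥ w) = (c : F₀) * plusForm F₀ (n + 1) w) ∧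
      ¬ IsSquare (c : F₀) ∧
      embGO f 1 1 (plus_one_map f) d = scalarGO QP u * isoGO QP (QForm.levi A) ∧
      (IsSquare A.val.det ↔ ¬ (Odd (n + 1) ∧ Fintype.card F₀ % 4 = 1)) := by
  classical
  have h20 : (2 : F₀) ≠ 0 := fun e => h2 (by rw [← map_ofNat f 2, e, map_zero])
  have hF0 : ringChar F₀ ≠ 2 := fun h => h20 (by
    have : CharP F₀ 2 := ringChar.of_eq h
    exact CharTwo.two_eq_zero)
  obtain ⟨c, hns⟩ := FiniteField.exists_nonsquare hF0
  have hc0 : c ≠ 0 := fun e => hns (e ▸ IsSquare.zero)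
  have hfc : f c ≠ 0 := (map_ne_zero f).2 hc0
  obtain ⟨s, hs⟩ : IsSquare (f c) := by
    rw [← quadraticChar_one_iff_isSquare hfc, quadraticChar_map f hcard h2 hc0,
      quadraticChar_neg_one_iff_not_isSquare.2 hns]
    norm_num
  have hs0 : s ≠ 0 := fun e => hfc (by rw [hs, e, mul_zero])
  obtain ⟨g, hg⟩ := ClassicalSimple.exists_GO_of_matrix (plusForm F₀ (n + 1))
    (ClassicalSimple.diagBlock (n + 1) c) (by rw [ClassicalSimple.det_diagBlock]; exact pow_ne_zero _ hc0) c hc0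
    (fun v => by rw [QForm.plusForm_apply, QForm.plusForm_apply, ClassicalSimple.quad_diagBlock])
  have hgc : ∀ v, plusForm F₀ (n + 1) (g.1.val *ᵥ v) = c * plusForm F₀ (n + 1) v := fun v => by
    rw [hg, QForm.plusForm_apply, QForm.plusForm_apply, ClassicalSimple.quad_diagBlock]
  let v : Fin (n + 1) → Fˣ := fun _ => Units.mk0 s hs0
  have hd : g ∈ Dg (plusForm F₀ (n + 1)) (n + 1) := by
    rw [Dg_odd _ _ h20]
    exact ⟨Units.mk0 c hc0, hgc, by rw [hg, ClassicalSimple.det_diagBlock]; rfl⟩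
  refine ⟨g, Units.mk0 c hc0, Units.mk0 s hs0, GL.diagHom v, hd, hgc, hns, ?_, ?_⟩
  · refine Subtype.ext ?_
    rw [embGO_coe, one_mul, inv_one, mul_one, Subgroup.coe_mul, scalarGO_coe, isoGO_coe]
    refine Units.ext ?_
    show g.1.val.map f = ((scl (Units.mk0 s hs0) : GL (Fin (n + 1) ⊕ Fin (n + 1)) F) *
      (QForm.levi (GL.diagHom v)).1).val
    rw [Units.val_mul, scl_val, Matrix.smul_mul, one_mul, QForm.coe_levi, hg, ClassicalSimple.diagBlock,
      ← Matrix.coe_units_inv, ← map_inv, GL.coe_diagHom, GL.coe_diagHom, Matrix.fromBlocks_map,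
      Matrix.fromBlocks_smul, Matrix.diagonal_transpose]
    congr 1
    all_goals ext i j; rcases eq_or_ne i j with rfl | h <;> simp [v, *]
  · have hdet : (GL.diagHom v).val.det = s ^ (n + 1) := by
      rw [GL.coe_diagHom, Matrix.det_diagonal]
      simp [v]
    rw [hdet]
    have hsq := isSquare_sqrt_iff f hcard h2 hns hs.symm
    have hodd : Fintype.card F₀ % 2 = 1 := FiniteField.odd_card_of_char_ne_two hF0
    rcases Nat.even_or_odd (n + 1) with he | ho
    · exact iff_of_true (he.isSquare_pow s) fun h => (Nat.not_odd_iff_even.2 he) h.1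
    · have hpow : IsSquare (s ^ (n + 1)) ↔ IsSquare s := by
        obtain ⟨j, hj⟩ := ho
        rw [hj, pow_succ, pow_mul']
        constructor
        · rintro ⟨t, ht⟩
          refine ⟨t * (s ^ j)⁻¹, ?_⟩
          field_simp
          linear_combination ht
        · rintro ⟨t, ht⟩
          exact ⟨s ^ j * t, by rw [ht]; ring⟩
      rw [hpow, hsq]
      constructor
      · rintro h ⟨-, h'⟩; omega
      · intro h; by_contra hc; exact h ⟨ho, by omega⟩

end Split

set_option maxHeartbeats 2000000 in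
-- defeq checks on sum-indexed matrices are slow
theorem fieldPlus_fun {p e : ℕ} [Fact p.Prime] (hF : Fintype.card F = p ^ e) (hm : 3 ≤ n + 1)
    (Qf : (Fin (n + 1) ⊕ Fin (n + 1) → F) → F) (hQf : ⇑QP = Qf) (F₀ : Type*) [Field F₀] [Fintype F₀]
    (Qf₀ : (Fin (n + 1) ⊕ Fin (n + 1) → F₀) → F₀) (hQf₀ : ⇑(plusForm F₀ (n + 1)) = Qf₀) :
    let G := autSubgroupOf (fun β : MulAut (POmega F Qf) =>
        ∃ g : GL (Fin (n + 1) ⊕ Fin (n + 1)) F, g ∈ Geo.quadSimilarityGroup (F := F) Qf ∧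
          PreservesSingularClasses Qf g.val ∧ IsInducedBySemilinearPOmega Qf g (RingEquiv.refl F) β)
    G.Normal → ∀ x : MulAut (POmega F Qf), IsFieldAutClassPOmega Qf x → ∀ r : ℕ, r.Prime → orderOf x = r →
      Fintype.card F₀ = p ^ (e / r) →
      r ∣ e ∧ Nonempty (↥(G ⊓ Subgroup.centralizer {x}) ≃*
          ↥(autSubgroupOf (fun β : MulAut (POmega F₀ Qf₀) =>
          ∃ g : GL (Fin (n + 1) ⊕ Fin (n + 1)) F₀, g ∈ Geo.quadSimilarityGroup (F := F₀) Qf₀ ∧
            PreservesSingularClasses Qf₀ g.val ∧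
            IsInducedBySemilinearPOmega Qf₀ g (RingEquiv.refl F₀) β))) ∧
      ((Odd r ∨ p = 2) → Cfsg.splitClassCount G (Cfsg.Inn (POmega F Qf)) x = 1) ∧
      ((r = 2 ∧ p ≠ 2 ∧ Odd (n + 1) ∧ p ^ (e / 2) % 4 = 1) →
        Cfsg.splitClassCount G (Cfsg.Inn (POmega F Qf)) x = 2) ∧
      ((r = 2 ∧ p ≠ 2 ∧ ¬ (Odd (n + 1) ∧ p ^ (e / 2) % 4 = 1)) →
        Cfsg.splitClassCount G (Cfsg.Inn (POmega F Qf)) x = 4) := by
  subst hQf hQf₀
  classical
  intro G
  have hG : G = (Dg QP (n + 1)).map (simAut QP) := inndiagPlus_eq hm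
  clear_value G
  subst hG
  intro hN x hx r hr hxr hF₀
  obtain ⟨α, σ, hσ, he⟩ := (exists_std_plus hm hr hxr).1 hx
  have hQ : (QuadraticMap.polarBilin QP).Nondegenerate := nondeg_plus
  have hn : Fintype.card (Fin (n + 1) ⊕ Fin (n + 1)) = 2 * (n + 1) := card_plus
  obtain ⟨hdvd, hcard⟩ := FieldExt.orderOf_dvd_and_card hF σ
  rw [hσ] at hdvd hcard
  obtain ⟨f, hf⟩ := FieldExt.exists_ringHom_range (F₀ := F₀) σ (by rw [hF₀, hcard])
  have hcardF : Fintype.card F = Fintype.card F₀ ^ r := by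
    rw [hF, hF₀, ← pow_mul, Nat.div_mul_cancel hdvd]
  have := inn_normal (X := POmega F ⇑QP)
  have hQ₀ : (QuadraticMap.polarBilin (plusForm F₀ (n + 1))).Nondegenerate := nondeg_plus
  have hS : ((1 : GO QP)).1 * gmap σ (1 : GL (Fin (n + 1) ⊕ Fin (n + 1)) F) = 1 := by
    rw [map_one, Subgroup.coe_one, one_mul]
  have hstd : simAut QP 1 * fieldA (fixes_plus σ) = α * x * α⁻¹ := by rw [map_one, one_mul, he]
  have hcomap : (Dg QP (n + 1)).comap (embGO f 1 1 (plus_one_map f)) = Dg (plusForm F₀ (n + 1)) (n + 1) :=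
    Subgroup.ext fun g => emb_mem_Dg_iff f 1 1 (plus_one_map f) hQ hQ₀ hn hm g
  have hsplit : Cfsg.splitClassCount ((Dg QP (n + 1)).map (simAut QP)) (Cfsg.Inn (POmega F ⇑QP)) x =
      (omegaSub QP ⊔ scalarSub QP ⊔ (Dg (plusForm F₀ (n + 1)) (n + 1)).map
        (embGO f 1 1 (plus_one_map f))).relIndex (Dg QP (n + 1)) := by
    rw [← AutPSL.splitClassCount_conj _ _ (by rw [ClassicalSimple.inn_eq]; exact Subgroup.map_mono omega_le_Dg)
      α x, ← hstd,
      split_eq_relIndex (fixes_plus σ) hQ (by omega) f 1 1 (plus_one_map f) hf 1 hS _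
        (scalar_le_Dg hn) omega_le_Dg, hcomap]
  have he0 : e ≠ 0 := fun h0 => by
    have := Fintype.one_lt_card (α := F)
    rw [hF, h0, pow_zero] at this
    exact lt_irrefl _ this
  have hp2 : (2 : F) = 0 ↔ p = 2 := by
    constructor
    · intro h2
      have := charTwo_of h2
      obtain ⟨k, hk, hk'⟩ := FiniteField.card F 2
      rw [hF] at hk'
      exact (Nat.prime_dvd_prime_iff_eq Fact.out Nat.prime_two).1 ((Fact.out : p.Prime).dvd_of_dvd_pow
        (hk' ▸ dvd_pow_self p he0))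
    · intro hp
      have := FiniteField.cast_card_eq_zero F
      rw [hF, hp, Nat.cast_pow] at this
      simpa using eq_zero_of_pow_eq_zero this
  refine ⟨hdvd, ?_, ?_, ?_, ?_⟩
  · rw [inndiagPlus_eq hm]
    obtain ⟨E⟩ := nonempty_centralizer_equiv (fixes_plus σ) hQ (by omega) f 1 1 (plus_one_map f) hf 1 hS hQ₀
      (Dg QP (n + 1)) (scalar_le_Dg hn)
    rw [hstd, hcomap] at E
    exact ⟨(AutPSL.centralizerEquiv _ α x).trans E⟩
  · intro h
    rw [hsplit, Subgroup.relIndex_eq_one]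
    by_cases h2 : (2 : F) = 0
    · rw [Dg_two _ _ h2]; exact le_sup_left
    · have hodd : Odd r := h.resolve_right fun hp => h2 (hp2.2 hp)
      have h20 : (2 : F₀) ≠ 0 := fun e => h2 (by rw [← map_ofNat f 2, e, map_zero])
      have E : EvenForm QP (n + 1) := ⟨h2, hQ, hn, hm⟩
      have E₀ : EvenForm (plusForm F₀ (n + 1)) (n + 1) := ⟨h20, hQ₀, card_plus, hm⟩
      obtain ⟨T⟩ := ClassicalSimple.twist_plus E₀
      exact Dg_le_of_twist f (fun w => plusForm_map f w) E E₀ T hcardF hodd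
  all_goals
    rintro ⟨rfl, hp, hc⟩
    have h2 : (2 : F) ≠ 0 := fun h2 => hp (hp2.1 h2)
    rw [← hF₀] at hc
    obtain ⟨d, c, u, A, hdD, hdc, hcns, hdA, hA⟩ := exists_diag_form (n := n) f hcardF h2
    have key := relIndex_quadratic f hm hcardF h2 hQ₀ 1 (plus_one_map f) d c u A hdD hdc hcns hdA
    rw [hA, not_not] at key
    rw [hsplit]
  · exact key.2 hc
  · exact key.1 hc

/-- The statement for field automorphisms, given that the inner-diagonal group is normal. -/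
theorem field_omega_plus {p e : ℕ} [Fact p.Prime] (hF : Fintype.card F = p ^ e) {m : ℕ} (hm : 4 ≤ m)
    (hN : (inndiagPOmegaPlus m F).Normal) (F₀ : Type*) [Field F₀] [Fintype F₀]
    (x : MulAut (POmega F (quadFormPlus m F))) (hx : IsFieldAutClassPOmega (quadFormPlus m F) x) {r : ℕ}
    (hr : r.Prime) (hxr : orderOf x = r) (hF₀ : Fintype.card F₀ = p ^ (e / r)) :
    r ∣ e ∧ Nonempty (↥(inndiagPOmegaPlus m F ⊓ Subgroup.centralizer {x}) ≃* ↥(inndiagPOmegaPlus m F₀)) ∧
      ((Odd r ∨ p = 2) →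
        Cfsg.splitClassCount (inndiagPOmegaPlus m F) (Cfsg.Inn (POmega F (quadFormPlus m F))) x = 1) ∧
      ((r = 2 ∧ p ≠ 2 ∧ Odd m ∧ p ^ (e / 2) % 4 = 1) →
        Cfsg.splitClassCount (inndiagPOmegaPlus m F) (Cfsg.Inn (POmega F (quadFormPlus m F))) x = 2) ∧
      ((r = 2 ∧ p ≠ 2 ∧ ¬ (Odd m ∧ p ^ (e / 2) % 4 = 1)) →
        Cfsg.splitClassCount (inndiagPOmegaPlus m F) (Cfsg.Inn (POmega F (quadFormPlus m F))) x = 4) := by
  obtain ⟨n, rfl⟩ : ∃ n, m = n + 1 := ⟨m - 1, by omega⟩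
  exact fieldPlus_fun hF (by omega) _ (QForm.coe_plusForm F (n + 1)) F₀ _ (QForm.coe_plusForm F₀ (n + 1)) hN x hx r hr
    hxr hF₀

end Cfsg.Agent.AutPO
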