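import Cfsg.Agent.Lib.AutPO.Balance
import Cfsg.Agent.Lib.AutPO.Even
import Cfsg.Agent.Lib.AutPOmega.SplitMinus
import Cfsg.Agent.Lib.LocalBalance.OrthInvol
import Cfsg.Agent.Lib.LocalBalance.FixHom

/-!
Local balance at a graph involution of `POmega` induced by a similarity, in odd characteristic: the centraliser has
trivial `2'`-core.
-/

set_option autoImplicit false
set_option maxHeartbeats 400000
set_option linter.unusedSectionVars false

namespace Cfsg.Agent.AutPO

open scoped Matrix MatrixGroups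
open Module (finrank)
open ClassicalSimple (GO simAut scalarSub omegaSub ker_simAut inn_eq EvenForm dsign mult mult_spec mult_eq
  isometry_le_GO mem_isometry_iff polar_sim)
open LocalBalance (fixK mem_fixK mul_conj)
open AutPOmega (AutData semiA_mul semi_GO simAut_eq_semiA)
open QForm (refl refl_mul_self act act_mul act_refl sphereSign)

variable {ι : Type} [Fintype ι] [DecidableEq ι] {F : Type*} [Field F] [Fintype F]
variable {Q : QuadraticForm F (ι → F)} {k : ℕ}

local notation "BQ" => QuadraticMap.polarBilin Q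

theorem two_vectors (h2 : (2 : F) ≠ 0) {v : ι → F} (hv : BQ v v ≠ 0) : Q v ≠ 0 := by
  intro h
  refine hv ?_
  rw [QuadraticMap.polarBilin_apply_apply, QuadraticMap.polar_self, h, smul_zero]

theorem polar_eq_two (v : ι → F) : BQ v v = 2 * Q v := by
  rw [QuadraticMap.polarBilin_apply_apply, QuadraticMap.polar_self, two_nsmul]; ring

/-- The structure of a similarity squaring to a scalar with sign `-1`. -/
theorem invol_structure (E : EvenForm Q k) (hk : 4 ≤ k) (g : GO Q) (hgg : g * g ∈ scalarSub Q)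
    (hd : dsign k g = -1) :
    ∃ μ : F, μ ≠ 0 ∧ (∀ v, g.1.val *ᵥ (g.1.val *ᵥ v) = μ • v) ∧
      (∀ v, Q (g.1.val *ᵥ v) = μ * Q v) ∧ (∀ x y, BQ (g.1.val *ᵥ x) y = BQ x (g.1.val *ᵥ y)) ∧
      ((¬ IsSquare μ ∧ 5 ≤ k) ∨ ∃ c : F, c * c = μ ∧
        Odd (finrank F (LinearMap.ker (c⁻¹ • Matrix.toLin' g.1.val - 1))) ∧
        Odd (finrank F (LinearMap.ker (c⁻¹ • Matrix.toLin' g.1.val + 1))) ∧
        5 ≤ finrank F (LinearMap.ker (c⁻¹ • Matrix.toLin' g.1.val - 1))) := by
  classical
  set M : Matrix ι ι F := g.1.val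
  obtain ⟨a, ha, hma, -⟩ := ClassicalSimple.scalar_classes E hgg
  set lam : F := (a : F)
  set μ : F := ((mult g : Fˣ) : F)
  have hμ : μ ≠ 0 := (mult g).ne_zero
  have hlam0 : lam ≠ 0 := a.ne_zero
  have hMM : M * M = lam • 1 := ha
  rw [show mult (g * g) = mult g * mult g from map_mul (ClassicalSimple.multHom E) g g, Units.val_mul] at hma
  have hma' : μ * μ = lam * lam := hma
  have hdetM : M.det = -μ ^ k := by
    rw [dsign, Units.val_pow_eq_pow_val, Units.val_inv_eq_inv_val, inv_pow] at hd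
    have : μ ^ k ≠ 0 := pow_ne_zero _ hμ
    field_simp at hd
    linear_combination hd
  have hfin : finrank F (ι → F) = 2 * k := by rw [Module.finrank_fintype_fun_eq_card, E.card]
  have happ : ∀ v, M *ᵥ (M *ᵥ v) = lam • v := fun v => by
    rw [Matrix.mulVec_mulVec, hMM, Matrix.smul_mulVec, Matrix.one_mulVec]
  have hQM : ∀ v, Q (M *ᵥ v) = μ * Q v := fun v => mult_spec g v
  have hBM : ∀ x y, BQ (M *ᵥ x) (M *ᵥ y) = μ * BQ x y := fun x y => polar_sim g x y
  set G : Module.End F (ι → F) := Matrix.toLin' M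
  have hGap : ∀ v, G v = M *ᵥ v := fun v => Matrix.toLin'_apply M v
  have hdetG : LinearMap.det G = -μ ^ k := by rw [LinearMap.det_toLin', hdetM]
  have hinv : ∀ c : F, c * c = lam → ∀ v, (c⁻¹ • G) ((c⁻¹ • G) v) = v := fun c hc v => by
    have hc0 : c ≠ 0 := fun e => hlam0 (by rw [← hc, e, mul_zero])
    simp only [LinearMap.smul_apply, hGap, Matrix.mulVec_smul, happ, smul_smul, ← hc]
    rw [show c⁻¹ * (c⁻¹ * (c * c)) = 1 by field_simp, one_smul]
  have hdets : ∀ c : F, c * c = lam →
      (-1 : F) ^ finrank F (LinearMap.ker (c⁻¹ • G + 1)) * lam ^ k = -μ ^ k := by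
    intro c hc
    have hc0 : c ≠ 0 := fun e => hlam0 (by rw [← hc, e, mul_zero])
    rw [← (AutPOmega.det_of_involution E.two _ (hinv c hc)).1, LinearMap.det_smul, hfin, hdetG, ← hc,
      pow_mul, ← pow_two, ← pow_mul c⁻¹, inv_pow, ← pow_mul c]
    field_simp
  have hne2 : (2 : F) ≠ 0 := E.two
  have hμlam : lam = μ := by
    rcases mul_self_eq_mul_self_iff.1 hma' with h | h
    · exact h.symm
    exfalso
    rcases em (IsSquare lam) with ⟨c, hc⟩ | hns
    · have hc0 : c ≠ 0 := fun e => hlam0 (by rw [hc, e, mul_zero])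
      obtain ⟨-, hsum⟩ := AutPOmega.det_of_involution E.two _ (hinv c hc.symm)
      have hiso : ∀ W : Submodule F (ι → F), (∀ x ∈ W, ∃ s : F, s * s = lam ∧ G x = s • x) →
          (∀ x ∈ W, ∀ y ∈ W, BQ x y = 0) → finrank F W ≤ k := by
        intro W _ hW
        have hle : W ≤ LinearMap.BilinForm.orthogonal BQ W := fun y hy x hx => hW x hx y hy
        have h1 := Submodule.finrank_mono hle
        rw [LinearMap.BilinForm.finrank_orthogonal (B := BQ) E.nondeg, hfin] at h1
        omega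
      have htot : ∀ (s : F), s * s = lam → ∀ x y, G x = s • x → G y = s • y → BQ x y = 0 := by
        intro s hs x y hx hy
        have e := hBM x y
        rw [← hGap, ← hGap, hx, hy] at e
        simp only [map_smul, LinearMap.smul_apply, smul_eq_mul] at e
        exact (mul_eq_zero.1 (show (2 * μ) * BQ x y = 0 by
          linear_combination -e + BQ x y * hs + BQ x y * h)).resolve_left (mul_ne_zero hne2 hμ)
      have hker : ∀ x, (x ∈ LinearMap.ker (c⁻¹ • G - 1) ↔ G x = c • x) ∧
          (x ∈ LinearMap.ker (c⁻¹ • G + 1) ↔ G x = (-c) • x) := fun x => by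
        constructor <;>
          simp only [LinearMap.mem_ker, LinearMap.sub_apply, LinearMap.add_apply, LinearMap.smul_apply,
            Module.End.one_apply, sub_eq_zero, add_eq_zero_iff_eq_neg]
        · exact inv_smul_eq_iff₀ hc0
        · rw [inv_smul_eq_iff₀ hc0, smul_neg, neg_smul]
      have hcc : -c * -c = lam := by rw [neg_mul_neg, hc]
      have h1 := hiso _ (fun x hx => ⟨c, hc.symm, (hker x).1.1 hx⟩)
        fun x hx y hy => htot c hc.symm x y ((hker x).1.1 hx) ((hker y).1.1 hy)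
      have h2 := hiso _ (fun x hx => ⟨-c, hcc, (hker x).2.1 hx⟩)
        fun x hx y hy => htot (-c) hcc x y ((hker x).2.1 hx) ((hker y).2.1 hy)
      have hk' : finrank F (LinearMap.ker (c⁻¹ • G + 1)) = k := by rw [hfin] at hsum; omega
      have e := hdets c hc.symm
      rw [hk', ← mul_pow, h, neg_mul, one_mul] at e
      exact pow_ne_zero k (neg_ne_zero.2 hlam0)
        ((mul_eq_zero.1 (show (2 : F) * (-lam) ^ k = 0 by linear_combination e)).resolve_left hne2)
    · have e := AutPOmega.det_of_sq_nonsquare hns G (LinearMap.ext fun v => by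
        simp [hGap, happ]) hfin
      rw [hdetG, ← h] at e
      exact pow_ne_zero k hμ ((mul_eq_zero.1 (show (2 : F) * μ ^ k = 0 by linear_combination -e)).resolve_left hne2)
  have hself : ∀ x y, BQ (M *ᵥ x) y = BQ x (M *ᵥ y) := fun x y => by
    have e := hBM x (M *ᵥ y)
    rw [happ, hμlam, map_smul, smul_eq_mul] at e
    exact mul_left_cancel₀ hμ e
  refine ⟨μ, hμ, fun v => hμlam ▸ happ v, hQM, hself, ?_⟩
  rcases em (IsSquare μ) with ⟨c, hc⟩ | hns
  · have hc' : c * c = lam := by rw [hμlam, hc]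
    have hc0 : c ≠ 0 := fun e => hlam0 (by rw [← hc', e, mul_zero])
    have hodd : ∀ s : F, s * s = lam → Odd (finrank F (LinearMap.ker (s⁻¹ • G + 1))) := by
      intro s hs
      have e := hdets s hs
      rw [hμlam] at e
      rcases Nat.even_or_odd (finrank F (LinearMap.ker (s⁻¹ • G + 1))) with he | ho
      · exfalso
        rw [he.neg_one_pow, one_mul] at e
        exact pow_ne_zero k hμ ((mul_eq_zero.1 (show (2 : F) * μ ^ k = 0 by linear_combination e)).resolve_left hne2)
      · exact ho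
    have hflip : LinearMap.ker ((-c)⁻¹ • G + 1) = LinearMap.ker (c⁻¹ • G - 1) ∧
        LinearMap.ker ((-c)⁻¹ • G - 1) = LinearMap.ker (c⁻¹ • G + 1) := by
      have e : (-c)⁻¹ • G = -(c⁻¹ • G) := by rw [inv_neg]; exact neg_smul c⁻¹ G
      rw [e]
      constructor <;> ext x <;>
        simp only [LinearMap.mem_ker, LinearMap.sub_apply, LinearMap.add_apply, LinearMap.neg_apply,
          Module.End.one_apply] <;>
        constructor <;> intro hx <;> linear_combination (norm := module) -hx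
    have h1 := hodd c hc'
    have h2 : Odd (finrank F (LinearMap.ker (c⁻¹ • G - 1))) := by
      have := hodd (-c) (by rw [neg_mul_neg, hc'])
      rwa [hflip.1] at this
    obtain ⟨-, hsum⟩ := AutPOmega.det_of_involution E.two _ (hinv c hc')
    rw [hfin] at hsum
    refine Or.inr ?_
    by_cases h5 : 5 ≤ finrank F (LinearMap.ker (c⁻¹ • G - 1))
    · exact ⟨c, hc.symm, h2, h1, h5⟩
    · obtain ⟨j, hj⟩ := h1
      obtain ⟨i, hi⟩ := h2
      refine ⟨-c, by rw [neg_mul_neg, hc], ?_, ?_, ?_⟩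
      · show Odd (finrank F (LinearMap.ker ((-c)⁻¹ • G - 1)))
        rw [hflip.2]; exact ⟨j, hj⟩
      · show Odd (finrank F (LinearMap.ker ((-c)⁻¹ • G + 1)))
        rw [hflip.1]; exact ⟨i, hi⟩
      · show 5 ≤ finrank F (LinearMap.ker ((-c)⁻¹ • G - 1))
        rw [hflip.2]; omega
  · refine Or.inl ⟨hns, ?_⟩
    have e := AutPOmega.det_of_sq_nonsquare (hμlam.symm ▸ hns : ¬ IsSquare lam) G (LinearMap.ext fun v => by
      simp [hGap, happ]) hfin
    rw [hdetG, hμlam] at e
    rcases Nat.even_or_odd k with he | ⟨j, hj⟩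
    · exfalso
      rw [he.neg_pow] at e
      exact pow_ne_zero k hμ ((mul_eq_zero.1 (show (2 : F) * μ ^ k = 0 by linear_combination -e)).resolve_left hne2)
    · omega

/-- Two reflections in orthogonal vectors whose values differ by a square give an element of `Omega`, and so do
two such pairs. -/
theorem refl_mem_omega (E : EvenForm Q k) (l : List {v : ι → F // Q v ≠ 0}) (hl : Even l.length)
    (hsq : IsSquare (l.map fun v => Q v.1).prod) :
    (l.map fun v => refl Q v.1 v.2).prod ∈ Omega F ⇑Q := by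
  classical
  rw [QForm.mem_omega_iff_invariants E.two E.nondeg]
  have key : ∀ l : List {v : ι → F // Q v ≠ 0},
      ((sphereSign Q (l.map fun v => refl Q v.1 v.2).prod : ℤˣ) : ℤ) =
        (-1) ^ l.length * quadraticChar F (l.map fun v => Q v.1).prod ∧
      (l.map fun v => refl Q v.1 v.2).prod.1.val.det = (-1) ^ l.length ∧
      (l.map fun v => Q v.1).prod ≠ 0 := by
    intro l
    induction l with
    | nil => simp
    | cons v l ih =>
      simp only [List.map_cons, List.prod_cons, List.length_cons]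
      refine ⟨?_, ?_, mul_ne_zero v.2 ih.2.2⟩
      · rw [map_mul, Units.val_mul, QForm.sphereSign_refl Q E.two v.1 v.2, ih.1, map_mul, pow_succ']; ring
      · rw [Subgroup.coe_mul, Units.val_mul, Matrix.det_mul, ih.2.1, pow_succ']
        congr 1
        exact QForm.det_reflectionMatrix Q v.2
  obtain ⟨hs, hd, hne⟩ := key l
  refine ⟨Units.ext ?_, by rw [hd, hl.neg_one_pow]⟩
  rw [hs, hl.neg_one_pow, one_mul, Units.val_one, quadraticChar_one_iff_isSquare hne]
  exact hsq

/-- A product of reflections moves only inside their span. -/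
theorem prod_refl_sub_mem (l : List {v : ι → F // Q v ≠ 0}) (W : Submodule F (ι → F)) (hW : ∀ v ∈ l, v.1 ∈ W)
    (x : ι → F) :
    act Q (l.map fun v => refl Q v.1 v.2).prod x - x ∈ W ∧
      ((∀ v ∈ l, BQ v.1 x = 0) → act Q (l.map fun v => refl Q v.1 v.2).prod x = x) := by
  induction l generalizing x with
  | nil => simp [QForm.act_one]
  | cons v l ih =>
    simp only [List.map_cons, List.prod_cons, act_mul, act_refl]
    obtain ⟨h1, h2⟩ := ih (fun w hw => hW w (List.mem_cons_of_mem _ hw)) x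
    refine ⟨?_, fun hx => ?_⟩
    · rw [sub_right_comm]
      exact W.sub_mem h1 (W.smul_mem _ (hW v List.mem_cons_self))
    · rw [h2 fun w hw => hx w (List.mem_cons_of_mem _ hw),
        show QuadraticMap.polar ⇑Q v.1 x = 0 from hx v List.mem_cons_self, mul_zero, zero_smul, sub_zero]

section Fix

variable (E : EvenForm Q k) (D : AutData Q) (g : GO Q)
include E

theorem five_le : 5 ≤ Fintype.card ι := by have := E.card; have := E.three; omega

/-- Elements of `Omega` commuting with the similarity give fixed points. -/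
theorem fix_of_commute (w : isometryGroup F ⇑Q) (hw : w ∈ Omega F ⇑Q)
    (hcomm : ∀ v, w.1.val *ᵥ (g.1.val *ᵥ v) = g.1.val *ᵥ (w.1.val *ᵥ v)) :
    ∃ x ∈ fixK (simAut Q g), MulAut.conj x = simAut Q ⟨w.1, isometry_le_GO Q w.2⟩ := by
  have hi : simAut Q ⟨w.1, isometry_le_GO Q w.2⟩ ∈ Inn (POmega F ⇑Q) := by
    rw [inn_eq]; exact ⟨_, ⟨w, hw, rfl⟩, rfl⟩
  obtain ⟨x, hx⟩ := hi
  refine ⟨x, (commute_conj_iff (conj_injective_of_center (AutPOmega.center_POmega E.nondeg (five_le E)))).1 ?_, hx⟩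
  rw [show MulAut.conj x = simAut Q ⟨w.1, isometry_le_GO Q w.2⟩ from hx]
  refine (Commute.map ?_ (simAut Q))
  refine Subtype.ext (Units.ext (Matrix.ext_iff_mulVec.2 fun v => ?_))
  simp only [Subgroup.coe_mul, Units.val_mul, ← Matrix.mulVec_mulVec]
  exact hcomm v

/-- A semilinear map fixing the fixed points stabilises the span of such reflections. -/
theorem mem_span_of_fix {h : GL ι F} {τ : F ≃+* F} (hp : Semi Q h τ)
    (hfix : ∀ x ∈ fixK (simAut Q g), semiA hp x = x) (l : List {v : ι → F // Q v ≠ 0}) (hl : Even l.length)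
    (hsq : IsSquare (l.map fun v => Q v.1).prod)
    (hcomm : ∀ v, act Q (l.map fun v => refl Q v.1 v.2).prod (g.1.val *ᵥ v) =
      g.1.val *ᵥ act Q (l.map fun v => refl Q v.1 v.2).prod v)
    (hlen : 2 * l.length < 2 * k) {y : ι → F}
    (hy : act Q (l.map fun v => refl Q v.1 v.2).prod y = -y) :
    h.val *ᵥ (τ ∘ y) ∈ Submodule.span F (Set.range fun i : Fin l.length => (l.get i).1) := by
  classical
  set w := (l.map fun v => refl Q v.1 v.2).prod
  set W := Submodule.span F (Set.range fun i : Fin l.length => (l.get i).1)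
  have hlW : ∀ v ∈ l, v.1 ∈ W := fun v hv => by
    obtain ⟨i, rfl⟩ := List.mem_iff_get.1 hv
    exact Submodule.subset_span ⟨i, rfl⟩
  obtain ⟨x, hx, hxw⟩ := fix_of_commute E g w (refl_mem_omega E l hl hsq) hcomm
  have e1 := mul_conj (semiA hp) x
  rw [hfix x hx, hxw] at e1
  have e2 := mul_right_cancel ((semiA_mul_simAut hp _).symm.trans e1)
  obtain ⟨s, hs⟩ := (simAut_eq_iff E.nondeg (five_le E)).1 e2
  set T : (ι → F) → (ι → F) := fun v => h.val *ᵥ (τ ∘ v)
  have hTw : ∀ v, T (act Q w v) = (s : F) • act Q w (T v) := by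
    intro v
    have hs' : h * gmap τ w.1 = w.1 * scl s * h := mul_inv_eq_iff_eq_mul.1 hs
    show h.val *ᵥ (τ ∘ (w.1.val *ᵥ v)) = (s : F) • (w.1.val *ᵥ (h.val *ᵥ (τ ∘ v)))
    rw [← gmap_mulVec, Matrix.mulVec_mulVec, ← Units.val_mul, hs', Units.val_mul, Units.val_mul, scl_val,
      ← Matrix.mulVec_mulVec, ← Matrix.mulVec_mulVec, Matrix.smul_mulVec, Matrix.one_mulVec, Matrix.mulVec_smul]
  have hTadd : ∀ a b, T (a + b) = T a + T b := fun a b => by
    show h.val *ᵥ (τ ∘ (a + b)) = _
    rw [← Matrix.mulVec_add]; congr 1; funext i; exact map_add τ _ _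
  have hTinj : Function.Injective T := fun a b e => by
    have e' := congrArg ((h⁻¹).val *ᵥ ·) e
    simp only [T, Matrix.mulVec_mulVec, ← Units.val_mul, inv_mul_cancel, Units.val_one, Matrix.one_mulVec] at e'
    exact funext fun i => τ.injective (congrFun e' i)
  have hWmem : ∀ (e : F) (z : ι → F), e ≠ 1 → act Q w z = e • z → z ∈ W := fun e z he hz => by
    have h1 := (prod_refl_sub_mem l W hlW z).1
    rw [hz, show e • z - z = (e - 1) • z by rw [sub_smul, one_smul]] at h1
    exact (W.smul_mem_iff (sub_ne_zero.2 he)).1 h1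
  by_cases hs1 : (s : F) = 1
  · refine hWmem (-1) _ (fun e => E.two (by linear_combination -e)) ?_
    have := hTw y
    rw [hy, hs1, one_smul] at this
    rw [neg_one_smul, ← this]
    show h.val *ᵥ (τ ∘ (-y)) = -(h.val *ᵥ (τ ∘ y))
    rw [← Matrix.mulVec_neg]; congr 1; funext i; exact map_neg τ _
  · exfalso
    let P : (ι → F) →ₗ[F] (Fin l.length → F) := LinearMap.pi fun i => BQ (l.get i).1
    have hmap : ∀ z ∈ LinearMap.ker P, T z ∈ W := fun z hz => by
      refine hWmem ((s : F)⁻¹) _ (fun e => hs1 (inv_eq_one.1 e)) ?_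
      have hfz : act Q w z = z := (prod_refl_sub_mem l W hlW z).2 fun v hv => by
        obtain ⟨i, rfl⟩ := List.mem_iff_get.1 hv
        exact congrFun hz i
      have := hTw z
      rw [hfz] at this
      conv_rhs => rw [this, smul_smul, inv_mul_cancel₀ s.ne_zero, one_smul]
    have hle : Nat.card (LinearMap.ker P) ≤ Nat.card W :=
      Nat.card_le_card_of_injective (fun z => (⟨T z.1, hmap z.1 z.2⟩ : W)) fun a b e =>
        Subtype.ext (hTinj (congrArg Subtype.val e))
    rw [Module.natCard_eq_pow_finrank (K := F) (V := LinearMap.ker P),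
      Module.natCard_eq_pow_finrank (K := F) (V := W), Nat.pow_le_pow_iff_right Finite.one_lt_card] at hle
    have h1 : finrank F W ≤ l.length := by
      have := finrank_range_le_card (R := F) (fun i : Fin l.length => (l.get i).1)
      rwa [Fintype.card_fin] at this
    have h2 := LinearMap.finrank_range_add_finrank_ker P
    have h3 := Submodule.finrank_le (LinearMap.range P)
    rw [Module.finrank_fintype_fun_eq_card, Fintype.card_fin] at h3
    rw [Module.finrank_fintype_fun_eq_card, E.card] at h2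
    omega

include D

set_option maxHeartbeats 1600000 in
-- many steps
/-- An automorphism of odd order commuting with the graph involution and fixing its fixed points. -/
theorem eq_one_of_fix_graph (hk : 4 ≤ k) (hgg : g * g ∈ scalarSub Q) (hd : dsign k g = -1)
    (a : MulAut (POmega F ⇑Q)) (ha : Commute a (simAut Q g)) (hfix : ∀ x ∈ fixK (simAut Q g), a x = x)
    (hco : (orderOf a).Coprime 2) : a = 1 := by
  classical
  have h5 := five_le E
  obtain ⟨μ, hμ, hGG, hQM, hadj, hcase⟩ := invol_structure E hk g hgg hd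
  obtain ⟨h, τ, hp, rfl⟩ := D.pair a
  have e0 : semiA hp * semiA (semi_GO g) = semiA (semi_GO g) * semiA hp := by
    rw [← simAut_eq_semiA]; exact ha.eq
  rw [semiA_mul, semiA_mul] at e0
  obtain ⟨z, hz⟩ : ∃ z : Fˣ, h * gmap τ g.1 = g.1 * h * scl z := by
    have key : ∀ (π π' : F ≃+* F) (h1 : Semi Q (h * gmap τ g.1) π) (h2 : Semi Q (g.1 * gmap 1 h) π'),
        π = π' → semiA h1 = semiA h2 → ∃ z : Fˣ, h * gmap τ g.1 = g.1 * h * scl z := by
      rintro π π' h1 h2 rfl e
      obtain ⟨z, hz⟩ := semiA_eq_scl E.nondeg h5 h1 h2 e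
      exact ⟨z, by rw [hz, gmap_one]⟩
    exact key _ _ _ _ (by rw [mul_one, one_mul]) e0
  set T : (ι → F) → (ι → F) := fun v => h.val *ᵥ (τ ∘ v)
  have hadd : ∀ x y, T (x + y) = T x + T y := fun x y => by
    show h.val *ᵥ (τ ∘ (x + y)) = _
    rw [← Matrix.mulVec_add]; congr 1; funext i; exact map_add τ _ _
  have hsmul : ∀ (c : F) x, T (c • x) = τ c • T x := fun c x => by
    show h.val *ᵥ (τ ∘ (c • x)) = _
    rw [← Matrix.mulVec_smul]; congr 1; funext i; exact map_mul τ _ _
  have hinj : ∀ x, T x = 0 → x = 0 := fun x hx => by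
    have e' := congrArg ((h⁻¹).val *ᵥ ·) hx
    simp only [T, Matrix.mulVec_mulVec, ← Units.val_mul, inv_mul_cancel, Units.val_one, Matrix.one_mulVec,
      Matrix.mulVec_zero] at e'
    exact funext fun i => τ.injective ((congrFun e' i).trans (map_zero τ).symm)
  have hTG : ∀ v, T (g.1.val *ᵥ v) = (z : F) • (g.1.val *ᵥ T v) := fun v => by
    show h.val *ᵥ (τ ∘ (g.1.val *ᵥ v)) = (z : F) • (g.1.val *ᵥ (h.val *ᵥ (τ ∘ v)))
    rw [← gmap_mulVec, Matrix.mulVec_mulVec, ← Units.val_mul, hz, Units.val_mul, Units.val_mul, scl_val,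
      Matrix.mul_smul, Matrix.mul_one, Matrix.smul_mulVec, ← Matrix.mulVec_mulVec]
  have hval : ∀ v, BQ v v ≠ 0 → Q v ≠ 0 := fun v hv => two_vectors E.two hv
  have hcomm_refl : ∀ (v : ι → F) (hv : Q v ≠ 0) (ε : F), g.1.val *ᵥ v = ε • v → ∀ x,
      act Q (refl Q v hv) (g.1.val *ᵥ x) = g.1.val *ᵥ act Q (refl Q v hv) x := by
    intro v hv ε hev x
    rw [act_refl, act_refl, Matrix.mulVec_sub, Matrix.mulVec_smul, hev, smul_smul,
      show QuadraticMap.polar ⇑Q v (g.1.val *ᵥ x) = ε * QuadraticMap.polar ⇑Q v x from by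
        rw [← QuadraticMap.polarBilin_apply_apply, ← hadj, hev, map_smul, LinearMap.smul_apply, smul_eq_mul,
          QuadraticMap.polarBilin_apply_apply]]
    rw [show (Q v)⁻¹ * (ε * QuadraticMap.polar ⇑Q v x) = (Q v)⁻¹ * QuadraticMap.polar ⇑Q v x * ε by ring]
  suffices hh : ∃ c : F, ∀ v, h.val *ᵥ (h.val *ᵥ v) = c • v ∧ τ = 1 by
    obtain ⟨c, hc⟩ := hh
    obtain rfl : τ = 1 := (hc 0).2
    have hg : h ∈ GO Q := by
      obtain ⟨c', hc'⟩ := hp
      exact ⟨c', fun v => hc' v⟩
    have h1 : semiA hp = simAut Q ⟨h, hg⟩ :=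
      (semiA_eq_of (g' := (⟨h, hg⟩ : GO Q).1) rfl rfl hp (semi_GO (⟨h, hg⟩ : GO Q))).trans
        (simAut_eq_semiA (⟨h, hg⟩ : GO Q)).symm
    have hne : Nonempty ι := Fintype.card_pos_iff.1 (by omega)
    have hc0 : c ≠ 0 := fun e => by
      have h0 := (hc (Pi.single (Classical.arbitrary ι) 1)).1
      rw [e, zero_smul, Matrix.mulVec_mulVec, ← Units.val_mul] at h0
      have h0' := congrArg ((h * h)⁻¹.val *ᵥ ·) h0
      simp only [Matrix.mulVec_mulVec, ← Units.val_mul, inv_mul_cancel, Units.val_one, Matrix.one_mulVec,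
        Matrix.mulVec_zero] at h0'
      simpa using congrFun h0' (Classical.arbitrary ι)
    have h2 : semiA hp * semiA hp = 1 := by
      rw [h1, ← map_mul, ← MonoidHom.mem_ker, ker_simAut Q E.nondeg h5]
      refine (Geo.mem_scalars_iff _).2 ⟨Units.mk0 c hc0, Matrix.ext_iff_mulVec.2 fun v => ?_⟩
      show (h * h).val *ᵥ v = _
      rw [Units.val_mul, ← Matrix.mulVec_mulVec, (hc v).1]
      simp [Matrix.smul_mulVec]
    rw [← orderOf_eq_one_iff]
    exact Nat.eq_one_of_dvd_coprimes hco dvd_rfl (orderOf_dvd_of_pow_eq_one ((pow_two _).trans h2))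
  rcases hcase with ⟨hns, hk5⟩ | ⟨c, hcc, hpos, hneg, hp5⟩
  · obtain ⟨hτ, a₁, b₁, hab⟩ := LocalBalance.rigid_nonsquare E.two BQ
      (ClassicalSimple.bil_nondegenerate Q E.nondeg) (fun x y => QuadraticMap.polar_comm _ _ _)
      (Matrix.toLin' g.1.val) (μ := μ)
      (fun v => by simp only [Matrix.toLin'_apply]; exact hGG v)
      (fun x y => by simp only [Matrix.toLin'_apply]; exact hadj x y) hns hk5
      (by rw [Module.finrank_fintype_fun_eq_card, E.card]) hadd τ hsmul hinj (z := (z : F))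
      (fun v => by simp only [Matrix.toLin'_apply]; exact hTG v)
      (by
        intro v u hvv huu hvG huG hvu hvGu
        simp only [Matrix.toLin'_apply] at hvG huG hvGu ⊢
        have hv := hval v hvv
        have hu := hval u huu
        have hgv : Q (g.1.val *ᵥ v) ≠ 0 := by rw [hQM]; exact mul_ne_zero hμ hv
        have hgu : Q (g.1.val *ᵥ u) ≠ 0 := by rw [hQM]; exact mul_ne_zero hμ hu
        let l : List {v : ι → F // Q v ≠ 0} :=
          [⟨v, hv⟩, ⟨g.1.val *ᵥ v, hgv⟩, ⟨u, hu⟩, ⟨g.1.val *ᵥ u, hgu⟩]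
        have hsym : ∀ x y, BQ x y = BQ y x := fun x y => QuadraticMap.polar_comm _ _ _
        have hpair : ∀ (w : ι → F) (hw : Q w ≠ 0) (hgw : Q (g.1.val *ᵥ w) ≠ 0), BQ w (g.1.val *ᵥ w) = 0 → ∀ x,
            act Q (refl Q w hw) (act Q (refl Q _ hgw) x) = x - ((Q w)⁻¹ * BQ w x) • w -
              ((μ * Q w)⁻¹ * BQ (g.1.val *ᵥ w) x) • (g.1.val *ᵥ w) := by
          intro w hw hgw hwg x
          rw [act_refl, act_refl, hQM]
          simp only [← QuadraticMap.polarBilin_apply_apply, map_sub, map_smul, hwg, smul_zero, sub_zero]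
          module
        have hpc : ∀ (w : ι → F) (hw : Q w ≠ 0) (hgw : Q (g.1.val *ᵥ w) ≠ 0), BQ w (g.1.val *ᵥ w) = 0 → ∀ x,
            act Q (refl Q w hw) (act Q (refl Q _ hgw) (g.1.val *ᵥ x)) =
              g.1.val *ᵥ act Q (refl Q w hw) (act Q (refl Q _ hgw) x) := by
          intro w hw hgw hwg x
          rw [hpair w hw hgw hwg, hpair w hw hgw hwg, Matrix.mulVec_sub, Matrix.mulVec_sub, Matrix.mulVec_smul,
            Matrix.mulVec_smul, hGG, smul_smul, ← hadj w x,
            show BQ (g.1.val *ᵥ w) (g.1.val *ᵥ x) = μ * BQ w x by rw [hadj, hGG, map_smul, smul_eq_mul]]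
          have e1 : (μ * Q w)⁻¹ * (μ * BQ w x) = (Q w)⁻¹ * BQ w x := by field_simp
          have e2 : (μ * Q w)⁻¹ * BQ (g.1.val *ᵥ w) x * μ = (Q w)⁻¹ * BQ (g.1.val *ᵥ w) x := by field_simp
          rw [e1, e2]
          module
        have hfv : ∀ x, act Q (l.map fun v => refl Q v.1 v.2).prod x =
            act Q (refl Q v hv) (act Q (refl Q _ hgv) (act Q (refl Q u hu) (act Q (refl Q _ hgu) x))) := fun x => by
          simp [l, act_mul]
        have hmem := mem_span_of_fix E g hp hfix l ⟨2, rfl⟩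
          ⟨Q v * Q u * μ, by simp [l, hQM]; ring⟩
          (fun x => by rw [hfv, hfv, hpc u hu hgu huG, hpc v hv hgv hvG])
          (show 2 * 4 < 2 * k by omega) (y := v) (by
            rw [hfv, act_refl, act_refl, act_refl, act_refl,
              show QuadraticMap.polar ⇑Q (g.1.val *ᵥ u) v = 0 from (hsym _ _).trans hvGu,
              mul_zero, zero_smul, sub_zero,
              show QuadraticMap.polar ⇑Q u v = 0 from (hsym _ _).trans hvu, mul_zero, zero_smul, sub_zero,
              show QuadraticMap.polar ⇑Q (g.1.val *ᵥ v) v = 0 from (hsym _ _).trans hvG, mul_zero, zero_smul,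
              sub_zero, QuadraticMap.polar_self]
            rw [two_nsmul, show (Q v)⁻¹ * (Q v + Q v) = 2 by field_simp; ring, two_smul]
            abel)
        obtain ⟨cf, hcf⟩ := (Submodule.mem_span_range_iff_exists_fun F).1 hmem
        refine ⟨cf 0, cf 1, cf 2, cf 3, hcf.symm.trans ?_⟩
        rw [show (Finset.univ : Finset (Fin l.length)) = (Finset.univ : Finset (Fin 4)) from rfl]
        simp [Fin.sum_univ_four, l]
        abel)
    refine ⟨a₁ * a₁ + μ * (b₁ * b₁), fun v => ⟨?_, RingEquiv.ext hτ⟩⟩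
    have hT : ∀ v, h.val *ᵥ v = a₁ • v + b₁ • (g.1.val *ᵥ v) := fun v => by
      rw [← show T v = h.val *ᵥ v from congrArg (h.val *ᵥ ·) (funext fun i => hτ (v i)), hab, Matrix.toLin'_apply]
    obtain ⟨w, hw⟩ : ∃ w : ι → F, BQ w (g.1.val *ᵥ w) = 0 ∧ BQ w w ≠ 0 := by
      obtain ⟨w, hw1, hw2⟩ := ClassicalSimple.exists_orth_anisotropic E (g := g) (lam := μ)
        (Matrix.ext_iff_mulVec.2 fun v => by
          rw [← Matrix.mulVec_mulVec, hGG, Matrix.smul_mulVec, Matrix.one_mulVec])
        (by rwa [show ((mult g : Fˣ) : F) = μ from (mult_eq E g _ hQM)])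
      exact ⟨w, hw2, by rw [polar_eq_two]; exact mul_ne_zero E.two hw1⟩
    have hab0 : a₁ * b₁ = 0 := by
      obtain ⟨cτ, hcτ⟩ := hp
      have hTB : ∀ x y, BQ (h.val *ᵥ x) (h.val *ᵥ y) = (cτ : F) * BQ x y := by
        intro x y
        have hQh : ∀ x, Q (h.val *ᵥ x) = (cτ : F) * Q x := fun x => by
          have := hcτ x
          rwa [funext fun i => hτ (x i), hτ] at this
        simp only [QuadraticMap.polarBilin_apply_apply, QuadraticMap.polar, ← Matrix.mulVec_add, hQh]
        ring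
      have e := hTB w (g.1.val *ᵥ w)
      rw [hT, hT, hGG] at e
      simp only [map_add, map_smul, LinearMap.add_apply, LinearMap.smul_apply, smul_eq_mul, hw.1,
        show BQ (g.1.val *ᵥ w) w = 0 from (hadj w w).trans hw.1,
        show BQ (g.1.val *ᵥ w) (g.1.val *ᵥ w) = μ * BQ w w by
          rw [hadj, hGG, map_smul, smul_eq_mul]] at e
      exact (mul_eq_zero.1 (show (2 * (μ * BQ w w)) * (a₁ * b₁) = 0 by linear_combination e)).resolve_left
        (mul_ne_zero E.two (mul_ne_zero hμ hw.2))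
    simp only [hT, Matrix.mulVec_add, Matrix.mulVec_smul, hGG]
    rcases mul_eq_zero.1 hab0 with e | e <;> simp [e, smul_smul, mul_comm, mul_left_comm]
  · have hc0 : c ≠ 0 := fun e => hμ (by rw [← hcc, e, mul_zero])
    set G : Module.End F (ι → F) := c⁻¹ • Matrix.toLin' g.1.val
    have hG : ∀ v, G v = c⁻¹ • (g.1.val *ᵥ v) := fun v => by simp [G]
    obtain ⟨hτ, α, β, hα, hβ⟩ := LocalBalance.rigid_square E.two BQ
      (ClassicalSimple.bil_nondegenerate Q E.nondeg) (fun x y => QuadraticMap.polar_comm _ _ _) G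
      (fun x y => by rw [hG, hG, map_smul, LinearMap.smul_apply, map_smul, hadj])
      (fun v => by
        rw [hG, hG, Matrix.mulVec_smul, hGG, smul_smul, smul_smul, ← hcc]
        rw [show c⁻¹ * c⁻¹ * (c * c) = 1 by field_simp, one_smul])
      hp5 (fun e => by rw [e] at hneg; exact absurd hneg (by decide)) hadd τ hsmul hinj
      (by
        intro v u hvv huv hev hu hvu
        have hv := hval v hvv
        have huQ := hval u (huv ▸ hvv)
        have hsymm : QuadraticMap.polar ⇑Q u v = 0 := (QuadraticMap.polar_comm _ _ _).trans hvu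
        have heig : ∃ ε : F, g.1.val *ᵥ v = ε • v := by
          rcases hev with e | e <;> rw [hG, inv_smul_eq_iff₀ hc0] at e
          exacts [⟨c, e⟩, ⟨-c, by rw [e, smul_neg, neg_smul]⟩]
        obtain ⟨ε, hε⟩ := heig
        rw [hG, inv_smul_eq_iff₀ hc0] at hu
        let l : List {v : ι → F // Q v ≠ 0} := [⟨v, hv⟩, ⟨u, huQ⟩]
        have hfv : ∀ x, act Q (l.map fun v => refl Q v.1 v.2).prod x =
            act Q (refl Q v hv) (act Q (refl Q u huQ) x) := fun x => by simp [l, act_mul]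
        have hQuv : Q u = Q v := by
          have := huv
          rw [polar_eq_two, polar_eq_two] at this
          exact mul_left_cancel₀ E.two this
        have hmem := mem_span_of_fix E g hp hfix l ⟨1, rfl⟩ ⟨Q v, by simp [l, hQuv]⟩
          (fun x => by rw [hfv, hfv, hcomm_refl u huQ c hu, hcomm_refl v hv ε hε])
          (show 2 * 2 < 2 * k by omega) (y := v) (by
            rw [hfv, act_refl, act_refl, hsymm, mul_zero, zero_smul, sub_zero, QuadraticMap.polar_self,
              two_nsmul, show (Q v)⁻¹ * (Q v + Q v) = 2 by field_simp; ring, two_smul]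
            abel)
        obtain ⟨cf, hcf⟩ := (Submodule.mem_span_range_iff_exists_fun F).1 hmem
        exact ⟨cf 0, cf 1, hcf.symm.trans (by
          rw [show (Finset.univ : Finset (Fin l.length)) = (Finset.univ : Finset (Fin 2)) from rfl]
          simp [Fin.sum_univ_two, l])⟩)
    obtain ⟨cτ, hcτ⟩ := hp
    have hQh : ∀ x, Q (h.val *ᵥ x) = (cτ : F) * Q x := fun x => by
      have := hcτ x
      rwa [funext fun i => hτ (x i), hτ] at this
    have hTh : ∀ v, T v = h.val *ᵥ v := fun v => congrArg (h.val *ᵥ ·) (funext fun i => hτ (v i))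
    have hI : ∀ v, G (G v) = v := fun v => by
      rw [hG, hG, Matrix.mulVec_smul, hGG, smul_smul, smul_smul, ← hcc,
        show c⁻¹ * c⁻¹ * (c * c) = 1 by field_simp, one_smul]
    obtain ⟨hcompl, hUn, hWn, -, -⟩ := LocalBalance.eigen_facts E.two BQ
      (ClassicalSimple.bil_nondegenerate Q E.nondeg) (fun x y => QuadraticMap.polar_comm _ _ _) G
      (fun x y => by rw [hG, hG, map_smul, LinearMap.smul_apply, map_smul, hadj]) hI
    have hsq : ∀ {S : Submodule F (ι → F)} {γ : F}, Odd (finrank F S) →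
        (LinearMap.BilinForm.restrict BQ S).Nondegenerate → (∀ x ∈ S, h.val *ᵥ x = γ • x) → γ * γ = (cτ : F) := by
      intro S γ hS hSn hγ
      obtain ⟨u, hu⟩ : ∃ u : S, Q u.1 ≠ 0 := by
        by_contra! h0
        have hne : Nontrivial S := Module.nontrivial_of_finrank_pos (R := F) hS.pos
        obtain ⟨x, hx⟩ := exists_ne (0 : S)
        refine hx (hSn.1 x fun y => ?_)
        show QuadraticMap.polar ⇑Q x.1 y.1 = 0
        rw [QuadraticMap.polar, show x.1 + y.1 = (x + y).1 from rfl, h0, h0, h0, sub_zero, sub_zero]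
      have e := hQh u.1
      rw [hγ _ u.2, QuadraticMap.map_smul, smul_eq_mul] at e
      exact mul_right_cancel₀ hu e
    have hU : ∀ x ∈ LinearMap.ker (G - 1), h.val *ᵥ x = α • x := fun x hx => by
      rw [← hTh]; exact hα x (by simpa [sub_eq_zero] using hx)
    have hW : ∀ x ∈ LinearMap.ker (G + 1), h.val *ᵥ x = β • x := fun x hx => by
      rw [← hTh]; exact hβ x (by simpa [add_eq_zero_iff_eq_neg] using hx)
    have e1 := hsq hpos hUn hU
    have e2 := hsq hneg hWn hW
    refine ⟨(cτ : F), fun v => ⟨?_, RingEquiv.ext hτ⟩⟩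
    obtain ⟨x, hx, y, hy, rfl⟩ := Submodule.mem_sup.1
      (show v ∈ LinearMap.ker (G - 1) ⊔ LinearMap.ker (G + 1) by rw [hcompl.sup_eq_top]; exact Submodule.mem_top)
    rw [Matrix.mulVec_add, hU x hx, hW y hy, Matrix.mulVec_add, Matrix.mulVec_smul, Matrix.mulVec_smul, hU x hx,
      hW y hy, smul_smul, smul_smul, e1, e2, smul_add]

omit D

/-- The core of the fixed points of a graph involution. -/
theorem core_fixK_graph (hk : 4 ≤ k) (hgg : g * g ∈ scalarSub Q) (hd : dsign k g = -1) :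
    Cfsg.pPrimeCore 2 (fixK (simAut Q g)) = ⊥ := by
  classical
  have h5 := five_le E
  have hne : Nonempty ι := Fintype.card_pos_iff.1 (by omega)
  obtain ⟨μ, hμ, hGG, hQM, hadj, hcase⟩ := invol_structure E hk g hgg hd
  let S' : Subgroup (GO Q) := (Subgroup.centralizer {simAut Q g}).comap (simAut Q)
  let S : Subgroup (GL ι F) := S'.map (GO Q).subtype
  let I : Subgroup (GL ι F) :=
    { carrier := {w | w ∈ isometryGroup F ⇑Q ∧ Commute w g.1}
      one_mem' := ⟨one_mem _, Commute.one_left _⟩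
      mul_mem' := fun ha hb => ⟨mul_mem ha.1 hb.1, ha.2.mul_left hb.2⟩
      inv_mem' := fun ha => ⟨inv_mem ha.1, ha.2.inv_left⟩ }
  have hIS : I ≤ S := fun w hw => ⟨⟨w, isometry_le_GO Q hw.1⟩,
    Subgroup.mem_centralizer_singleton_iff.2 (Commute.map (show Commute (⟨w, isometry_le_GO Q hw.1⟩ : GO Q) g from
      Subtype.ext hw.2.eq) (simAut Q)).eq, rfl⟩
  have hmemS : ∀ d : S, d.1 ∈ GO Q ∧ ∀ h' : d.1 ∈ GO Q, Commute (simAut Q ⟨d.1, h'⟩) (simAut Q g) := by
    rintro ⟨_, ⟨d, hd', rfl⟩⟩
    exact ⟨d.2, fun _ => Subgroup.mem_centralizer_singleton_iff.1 hd'⟩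
  let Φ : S →* MulAut (POmega F ⇑Q) :=
    (simAut Q).comp (Subgroup.inclusion (show S ≤ GO Q by rintro _ ⟨d, -, rfl⟩; exact d.2))
  refine LocalBalance.core_fix_of_hom (conj_injective_of_center (AutPOmega.center_POmega E.nondeg h5)) _ S I hIS Φ
    ?_ ?_ ?_ ?_
  · ext d
    rw [MonoidHom.mem_ker, Subgroup.mem_subgroupOf]
    show simAut Q _ = 1 ↔ _
    rw [← MonoidHom.mem_ker, ker_simAut Q E.nondeg h5]
    rfl
  · exact fun d => (hmemS d).2 _
  · intro x hx
    have hi : MulAut.conj x ∈ Inn (POmega F ⇑Q) := ⟨_, rfl⟩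
    rw [inn_eq] at hi
    obtain ⟨d, -, hd'⟩ := hi
    refine ⟨⟨d.1, d, ?_, rfl⟩, hd'⟩
    show simAut Q d ∈ Subgroup.centralizer {simAut Q g}
    rw [hd']
    exact Subgroup.mem_centralizer_singleton_iff.2 (LocalBalance.commute_conj hx).eq
  intro N hNS hnorm hodd d hdN
  let L : GL ι F →* ((ι → F) ≃ₗ[F] (ι → F)) :=
    (LinearMap.GeneralLinearGroup.generalLinearEquiv F (ι → F)).toMonoidHom.comp
      Matrix.GeneralLinearGroup.toLin.toMonoidHom
  have hL : ∀ (w : GL ι F) v, L w v = w.val *ᵥ v := fun w v => rfl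
  have hcommN : ∀ d ∈ N, ∀ v, g.1.val *ᵥ (d.val *ᵥ v) = d.val *ᵥ (g.1.val *ᵥ v) := by
    intro d hdN
    obtain ⟨hdGO, hdc⟩ := hmemS ⟨d, hNS hdN⟩
    have e := (hdc hdGO).eq
    rw [← map_mul, ← map_mul, simAut_eq_iff E.nondeg h5] at e
    obtain ⟨z, hz⟩ := e
    simp only [Subgroup.coe_mul] at hz
    obtain ⟨t, ht, e', he'⟩ := hodd d hdN
    rw [Nat.coprime_two_right] at ht
    have hcon : ∀ n : ℕ, (d ^ n).val * g.1.val = (z : F) ^ n • (g.1.val * (d ^ n).val) := by
      intro n
      induction n with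
      | zero => simp
      | succ n ih =>
        rw [pow_succ, Units.val_mul, Matrix.mul_assoc, ← Units.val_mul, hz, Units.val_mul, Units.val_mul,
          scl_val, Matrix.mul_smul, Matrix.mul_one, Matrix.mul_smul, ← Matrix.mul_assoc, ih, Matrix.smul_mul,
          smul_smul, pow_succ', Matrix.mul_assoc]
    have hzt : (z : F) ^ t = 1 := by
      have h1 := hcon t
      rw [he', Matrix.smul_mul, Matrix.mul_smul, Matrix.one_mul, Matrix.mul_one, smul_smul] at h1
      obtain ⟨i, j, hij⟩ : ∃ i j, g.1.val i j ≠ 0 := by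
        by_contra! h0
        have : g.1.val = 0 := Matrix.ext h0
        obtain ⟨w, hw⟩ := E.exists_value (one_ne_zero (α := F))
        have h2 := hQM w
        rw [this, Matrix.zero_mulVec, QuadraticMap.map_zero, hw, mul_one] at h2
        exact hμ h2.symm
      have h3 := congrFun (congrFun h1 i) j
      simp only [Matrix.smul_apply, smul_eq_mul] at h3
      have he0 : e' ≠ 0 := fun h0 => by
        have h4 := congrFun (congrFun ((d ^ t).mul_inv) i) i
        rw [he', h0, zero_smul, Matrix.zero_mul] at h4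
        simpa using h4
      exact mul_right_cancel₀ (mul_ne_zero he0 hij) (by linear_combination -h3)
    have hz2 : (z : F) * z = 1 := by
      set d' : GO Q := ⟨d, hdGO⟩
      have hm : mult (d' * g) = mult (g * d') := by
        rw [show mult (d' * g) = _ from map_mul (ClassicalSimple.multHom E) d' g,
          show mult (g * d') = _ from map_mul (ClassicalSimple.multHom E) g d']
        exact mul_comm _ _
      obtain ⟨w, hw⟩ := E.exists_value (one_ne_zero (α := F))
      have h1 := mult_spec (d' * g) w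
      rw [hm, show (d' * g).1 = g.1 * d * scl z from hz, Units.val_mul, ← Matrix.mulVec_mulVec, scl_mulVec,
        Matrix.mulVec_smul, QuadraticMap.map_smul, smul_eq_mul,
        show Q ((g.1 * d).val *ᵥ w) = (mult (g * d') : F) * Q w from mult_spec (g * d') w, hw, mul_one] at h1
      exact mul_right_cancel₀ (mult (g * d')).ne_zero (by rw [h1, one_mul])
    have hz1 : (z : F) = 1 := by
      obtain ⟨j, rfl⟩ := ht
      rwa [pow_succ, pow_mul, pow_two, hz2, one_pow, one_mul] at hzt
    intro v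
    have h1 := congrArg (fun A : Matrix ι ι F => A *ᵥ v) (hcon 1)
    simp only [pow_one, hz1, one_smul, ← Matrix.mulVec_mulVec] at h1
    exact h1.symm
  have hsym : ∀ x y, BQ x y = BQ y x := fun x y => QuadraticMap.polar_comm _ _ _
  have hBn := ClassicalSimple.bil_nondegenerate Q E.nondeg
  have hback : ∀ w : (ι → F) ≃ₗ[F] (ι → F), ∃ w₀ : GL ι F, L w₀ = w := fun w =>
    ⟨Matrix.GeneralLinearGroup.toLin.symm (LinearMap.GeneralLinearGroup.ofLinearEquiv w), by
      refine LinearEquiv.ext fun v => ?_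
      show LinearMap.GeneralLinearGroup.generalLinearEquiv F (ι → F) _ v = w v
      simp⟩
  have hsimN : ∀ d' ∈ N.map L, ∃ c : F, c ≠ 0 ∧ ∀ x y, BQ (d' x) (d' y) = c * BQ x y := by
    rintro _ ⟨d, hdN, rfl⟩
    obtain ⟨hdGO, -⟩ := hmemS ⟨d, hNS hdN⟩
    exact ⟨(mult (⟨d, hdGO⟩ : GO Q) : F), (mult (⟨d, hdGO⟩ : GO Q)).ne_zero, fun x y => by
      rw [hL, hL]; exact polar_sim (⟨d, hdGO⟩ : GO Q) x y⟩
  have hoddN : ∀ d' ∈ N.map L, ∃ k : ℕ, Odd k ∧ ∃ c : F, ∀ x, (d' ^ k) x = c • x := by
    rintro _ ⟨d, hdN, rfl⟩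
    obtain ⟨t, ht, e', he'⟩ := hodd d hdN
    refine ⟨t, Nat.coprime_two_right.1 ht, e', fun x => ?_⟩
    rw [← map_pow, hL, he', Matrix.smul_mulVec, Matrix.one_mulVec]
  have hnormN : ∀ (G : (ι → F) →ₗ[F] (ι → F)), (∀ w : GL ι F,
      (∀ v, w.val *ᵥ G v = G (w.val *ᵥ v)) → ∀ v, w.val *ᵥ (g.1.val *ᵥ v) = g.1.val *ᵥ (w.val *ᵥ v)) →
      ∀ w : (ι → F) ≃ₗ[F] (ι → F), (∀ x y, BQ (w x) (w y) = BQ x y) → (∀ v, w (G v) = G (w v)) →
        ∀ d' ∈ N.map L, w * d' * w⁻¹ ∈ N.map L := by
    intro G hG w hw hwG _ hd'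
    obtain ⟨d, hdN, rfl⟩ := hd'
    obtain ⟨w₀, rfl⟩ := hback w
    refine ⟨w₀ * d * w₀⁻¹, hnorm w₀ ⟨?_, ?_⟩ d hdN, by rw [map_mul, map_mul, map_inv]⟩
    · refine (mem_isometry_iff Q).2 fun x => ?_
      have := hw x x
      rw [hL, polar_eq_two, polar_eq_two] at this
      exact mul_left_cancel₀ E.two this
    · refine Units.ext (Matrix.ext_iff_mulVec.2 fun v => ?_)
      simp only [Units.val_mul, ← Matrix.mulVec_mulVec]
      exact hG w₀ (fun v => by simpa only [hL] using hwG v) v
  obtain ⟨c', hc'⟩ : ∃ c : F, ∀ x, L d x = c • x := by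
    rcases hcase with ⟨hns, hk5⟩ | ⟨c, hcc, hpos, hneg, -⟩
    · refine LocalBalance.odd_nonsquare E.two BQ hBn hsym (Matrix.toLin' g.1.val) (μ := μ)
        (fun v => by simp only [Matrix.toLin'_apply]; exact hGG v)
        (fun x y => by simp only [Matrix.toLin'_apply]; exact hadj x y) hns (k := k) (by omega)
        (by rw [Module.finrank_fintype_fun_eq_card, E.card]) (N.map L) ?_ hsimN
        (hnormN _ fun w hw v => by simpa only [Matrix.toLin'_apply] using hw v) hoddN _ ⟨d, hdN, rfl⟩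
      rintro _ ⟨d, hdN, rfl⟩ v
      simp only [hL, Matrix.toLin'_apply]
      exact (hcommN d hdN v).symm
    · have hc0 : c ≠ 0 := fun e => hμ (by rw [← hcc, e, mul_zero])
      set G : Module.End F (ι → F) := c⁻¹ • Matrix.toLin' g.1.val
      have hG : ∀ v, G v = c⁻¹ • (g.1.val *ᵥ v) := fun v => by simp [G]
      refine LocalBalance.odd_square E.two BQ hBn hsym G
        (fun x y => by rw [hG, hG, map_smul, LinearMap.smul_apply, map_smul, hadj])
        (fun v => by
          rw [hG, hG, Matrix.mulVec_smul, hGG, smul_smul, smul_smul, ← hcc]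
          rw [show c⁻¹ * c⁻¹ * (c * c) = 1 by field_simp, one_smul])
        hpos hneg (N.map L) ?_ hsimN
        (hnormN _ fun w hw v => by
          have := hw v
          rw [hG, hG, Matrix.mulVec_smul] at this
          exact (smul_right_injective _ (inv_ne_zero hc0)) this) hoddN _ ⟨d, hdN, rfl⟩
      rintro _ ⟨d, hdN, rfl⟩ v
      simp only [hL, hG, Matrix.mulVec_smul]
      rw [hcommN d hdN v]
  exact ⟨c', Matrix.ext_iff_mulVec.2 fun v => by
    rw [← hL, hc', Matrix.smul_mulVec, Matrix.one_mulVec]⟩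

include D

/-- The criterion at a graph involution. -/
theorem core_eq_bot_graph (hk : 4 ≤ k) (hgg : g * g ∈ scalarSub Q) (hd : dsign k g = -1)
    (A : Subgroup (MulAut (POmega F ⇑Q))) (hinn : ∀ x, MulAut.conj x ∈ A) :
    Cfsg.pPrimeCore 2 ↥(A ⊓ Subgroup.centralizer {simAut Q g}) = ⊥ :=
  LocalBalance.core_eq_bot (conj_injective_of_center (AutPOmega.center_POmega E.nondeg (five_le E))) _ A hinn
    (core_fixK_graph E g hk hgg hd) (eq_one_of_fix_graph E D g hk hgg hd)

end Fix

end Cfsg.Agent.AutPO
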