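import Cfsg.Agent.Lib.AutPO.Twisted
import Cfsg.Agent.Lib.QForm.Classify

/-!
The hyperbolic form over a finite field as the twisted form of an elliptic form over the fixed field of an
automorphism of order two.
-/

set_option autoImplicit false

namespace Cfsg.Agent.AutPO

open scoped Matrix MatrixGroups
open ClassicalSimple (GO)
open QForm (plusForm minusForm TotallySingular)
open Module (finrank)

/-- An invertible linear map as an element of the general linear group. -/
def toGL {ι : Type} [Fintype ι] [DecidableEq ι] {F : Type*} [Field F] (e : (ι → F) ≃ₗ[F] (ι → F)) : GL ι F :=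
  ⟨LinearMap.toMatrix' e.toLinearMap, LinearMap.toMatrix' e.symm.toLinearMap,
    by rw [← LinearMap.toMatrix'_comp, e.comp_symm, LinearMap.toMatrix'_id],
    by rw [← LinearMap.toMatrix'_comp, e.symm_comp, LinearMap.toMatrix'_id]⟩

theorem toGL_mulVec {ι : Type} [Fintype ι] [DecidableEq ι] {F : Type*} [Field F] (e : (ι → F) ≃ₗ[F] (ι → F))
    (v : ι → F) : (toGL e).val *ᵥ v = e v := LinearMap.toMatrix'_mulVec _ v

variable {F : Type*} [Field F]

/-- A totally singular subspace of an elliptic form has dimension at most the Witt index. -/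
theorem finrank_le_minus [Finite F] {n : ℕ} {a b : F}
    (hab : ∀ z₁ z₂ : F, z₁ ^ 2 + a * z₁ * z₂ + b * z₂ ^ 2 = 0 → z₁ = 0 ∧ z₂ = 0)
    {U : Submodule F ((Fin n ⊕ Fin n) ⊕ Fin 2 → F)} (hU : TotallySingular (minusForm F n a b) U) :
    finrank F U ≤ n := by
  haveI := Fintype.ofFinite F
  have hN : (QuadraticMap.polarBilin (minusForm F n a b)).Nondegenerate := nondeg_minus hab
  let π : ((Fin n ⊕ Fin n) ⊕ Fin 2 → F) →ₗ[F] (Fin n → F) :=
    LinearMap.pi fun i => LinearMap.proj (Sum.inl (Sum.inr i))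
  set P := LinearMap.ker π
  have hP : ∀ x ∈ P, ∀ i, x (Sum.inl (Sum.inr i)) = 0 := fun x hx i => congrFun hx i
  have hd : finrank F ((Fin n ⊕ Fin n) ⊕ Fin 2 → F) = 2 * n + 2 := by
    rw [Module.finrank_fintype_fun_eq_card]; simp; omega
  have hP5 : finrank F ((Fin n ⊕ Fin n) ⊕ Fin 2 → F) ≤ finrank F P + n := by
    have h1 := LinearMap.finrank_range_add_finrank_ker π
    have h2 := Submodule.finrank_le (LinearMap.range π)
    rw [Module.finrank_fin_fun] at h2
    show _ ≤ finrank F (LinearMap.ker π) + n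
    omega
  have hle : U ⊓ P ≤ LinearMap.BilinForm.orthogonal (QuadraticMap.polarBilin (minusForm F n a b)) (U ⊔ P) := by
    rintro k ⟨hkU, hkP⟩ w hw
    obtain ⟨u, hu, p, hp, rfl⟩ := Submodule.mem_sup.1 hw
    have hk := hU k hkU
    rw [QForm.minusForm_apply, quadFormMinus] at hk
    simp only [hP k hkP, mul_zero, Finset.sum_const_zero, zero_add] at hk
    obtain ⟨z0, z1⟩ := hab _ _ hk
    show QuadraticMap.polarBilin (minusForm F n a b) (u + p) k = 0
    rw [map_add, LinearMap.add_apply, show QuadraticMap.polarBilin (minusForm F n a b) u k = 0 from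
      hU.le_orthogonal hkU u hu, zero_add, QuadraticMap.polarBilin_apply_apply,
      QuadraticMap.polar, QForm.minusForm_apply, QForm.minusForm_apply, QForm.minusForm_apply]
    simp [quadFormMinus, hP k hkP, hP p hp, z0, z1]
  have h1 := Submodule.finrank_mono hle
  rw [LinearMap.BilinForm.finrank_orthogonal hN] at h1
  have h2 := Submodule.finrank_sup_add_finrank_inf_eq U P
  have h3 := Submodule.finrank_le (U ⊔ P)
  omega

/-- An elliptic and a hyperbolic form of the same dimension are not similar. -/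
theorem not_similar_plus_minus [Finite F] {n : ℕ} {a b : F}
    (hab : ∀ z₁ z₂ : F, z₁ ^ 2 + a * z₁ * z₂ + b * z₂ ^ 2 = 0 → z₁ = 0 ∧ z₂ = 0)
    (L : (Fin (n + 1) ⊕ Fin (n + 1) → F) →ₗ[F] ((Fin n ⊕ Fin n) ⊕ Fin 2 → F)) (hL : Function.Injective L) (u : F)
    (h : ∀ v, minusForm F n a b (L v) = u * plusForm F (n + 1) v) : False := by
  haveI := Fintype.ofFinite F
  obtain ⟨U0, h0, h0k, -⟩ := ClassicalSimple.exists_plus_fixed (F := F) (n + 1)
  have hT : TotallySingular (minusForm F n a b) (U0.map L) := by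
    rintro _ ⟨x, hx, rfl⟩
    rw [h, h0 x hx, mul_zero]
  have := finrank_le_minus hab hT
  rw [← (Submodule.equivMapOfInjective L hL U0).finrank_eq, h0k] at this
  omega

section Twist

variable (n : ℕ) (a b θ : F)

/-- The elliptic coordinates in hyperbolic ones. -/
def tmapFun (v : (Fin n ⊕ Fin n) ⊕ Fin 2 → F) : Fin (n + 1) ⊕ Fin (n + 1) → F :=
  Sum.elim
    (Fin.snoc (fun i => v (.inl (.inl i))) (v (.inr 0) - θ * v (.inr 1)))
    (Fin.snoc (fun i => v (.inl (.inr i))) (v (.inr 0) - (-a - θ) * v (.inr 1)))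

/-- The linear map of `tmapFun`. -/
def tmap : ((Fin n ⊕ Fin n) ⊕ Fin 2 → F) →ₗ[F] (Fin (n + 1) ⊕ Fin (n + 1) → F) where
  toFun := tmapFun n a θ
  map_add' u v := by
    funext j
    rcases j with i | i <;> induction i using Fin.lastCases <;> simp [tmapFun] <;> ring
  map_smul' c v := by
    funext j
    rcases j with i | i <;> induction i using Fin.lastCases <;> simp [tmapFun] <;> ring

variable {n a b θ}

theorem plus_tmap (hθ : θ ^ 2 + a * θ + b = 0) (v : (Fin n ⊕ Fin n) ⊕ Fin 2 → F) :
    plusForm F (n + 1) (tmap n a θ v) = minusForm F n a b v := by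
  rw [QForm.plusForm_apply, QForm.minusForm_apply, quadFormPlus, Fin.sum_univ_castSucc]
  simp [tmap, tmapFun, quadFormMinus]
  linear_combination (-v (.inr 1) ^ 2) * hθ

theorem tmap_bijective (hne : -a - θ ≠ θ) : Function.Bijective (tmap n a θ) := by
  have hinj : Function.Injective (tmap n a θ) := by
    rw [injective_iff_map_eq_zero]
    intro v hv
    have h1 := fun i => congrFun hv (.inl i)
    have h2 := fun i => congrFun hv (.inr i)
    have e0 := h1 (Fin.last n)
    have e1 := h2 (Fin.last n)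
    simp [tmap, tmapFun] at e0 e1
    have hv1 : v (.inr 1) = 0 :=
      (mul_eq_zero.1 (show (-a - θ - θ) * v (.inr 1) = 0 by linear_combination e0 - e1)).resolve_left
        (sub_ne_zero.2 hne)
    funext j
    rcases j with (i | i) | i
    · simpa [tmap, tmapFun] using h1 i.castSucc
    · simpa [tmap, tmapFun] using h2 i.castSucc
    · fin_cases i
      · simpa [hv1] using e0
      · exact hv1
  exact ⟨hinj, (LinearMap.injective_iff_surjective_of_finrank_eq_finrank (by
    rw [Module.finrank_fintype_fun_eq_card, Module.finrank_fintype_fun_eq_card]; simp; omega)).1 hinj⟩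

/-- The index identification. -/
noncomputable def idxEquiv (n : ℕ) : (Fin n ⊕ Fin n) ⊕ Fin 2 ≃ Fin (n + 1) ⊕ Fin (n + 1) :=
  Fintype.equivOfCardEq (by simp; omega)

/-- The elliptic form in the coordinates of the hyperbolic one. -/
noncomputable def minusP (n : ℕ) {K : Type*} [Field K] (a b : K) :
    QuadraticForm K (Fin (n + 1) ⊕ Fin (n + 1) → K) :=
  (minusForm K n a b).comp (LinearEquiv.funCongrLeft K K (idxEquiv n)).toLinearMap

theorem minusP_apply {K : Type*} [Field K] (a b : K) (w : Fin (n + 1) ⊕ Fin (n + 1) → K) :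
    minusP n a b w = minusForm K n a b (w ∘ idxEquiv n) := rfl

theorem nondeg_minusP [Finite F] (hab : ∀ z₁ z₂ : F, z₁ ^ 2 + a * z₁ * z₂ + b * z₂ ^ 2 = 0 → z₁ = 0 ∧ z₂ = 0) :
    (QuadraticMap.polarBilin (minusP n a b)).Nondegenerate := by
  haveI := Fintype.ofFinite F
  exact Forms.polar_nondegenerate_of_equiv (LinearEquiv.funCongrLeft F F (idxEquiv n)) (fun v => rfl)
    (nondeg_minus hab)

variable (hne : -a - θ ≠ θ)

/-- The twisting matrix. -/
noncomputable def twistJ : GL (Fin (n + 1) ⊕ Fin (n + 1)) F :=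
  toGL ((LinearEquiv.funCongrLeft F F (idxEquiv n)).trans (LinearEquiv.ofBijective _ (tmap_bijective hne)))

theorem twistJ_mulVec (v : Fin (n + 1) ⊕ Fin (n + 1) → F) :
    (twistJ hne).val *ᵥ v = tmap n a θ (v ∘ idxEquiv n) := toGL_mulVec _ v

theorem plus_twistJ (hθ : θ ^ 2 + a * θ + b = 0) {F₀ : Type*} [Field F₀] (f : F₀ →+* F) {a₀ b₀ : F₀}
    (ha : f a₀ = a) (hb : f b₀ = b) (w : Fin (n + 1) ⊕ Fin (n + 1) → F₀) :
    plusForm F (n + 1) ((twistJ hne).val *ᵥ (f ∘ w)) = ((1 : Fˣ) : F) * f (minusP n a₀ b₀ w) := by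
  subst ha hb
  rw [twistJ_mulVec, plus_tmap hθ, minusP_apply, Units.val_one, one_mul, ← minusForm_map, Function.comp_assoc]

end Twist

section Swap

variable {n : ℕ}

/-- The vector of the standard graph reflection. -/
def swapVec (n : ℕ) : Fin (n + 1) ⊕ Fin (n + 1) → F :=
  Pi.single (.inl (Fin.last n)) 1 - Pi.single (.inr (Fin.last n)) 1

theorem plus_swapVec : plusForm F (n + 1) (swapVec n) = -1 := by
  rw [QForm.plusForm_apply, quadFormPlus, Fin.sum_univ_castSucc]
  simp [swapVec, Fin.castSucc_ne_last]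

theorem swapVec_ne : plusForm F (n + 1) (swapVec (F := F) n) ≠ 0 := by
  rw [plus_swapVec]; exact neg_ne_zero.2 one_ne_zero

/-- The standard graph reflection: it interchanges the last pair of coordinates. -/
noncomputable def swapP (n : ℕ) : GO (plusForm F (n + 1)) := reflG (swapVec n) swapVec_ne

theorem swapP_mulVec (x : Fin (n + 1) ⊕ Fin (n + 1) → F) :
    (swapP (F := F) n).1.val *ᵥ x = Sum.elim
      (Fin.snoc (fun i => x (.inl i.castSucc)) (x (.inr (Fin.last n))))
      (Fin.snoc (fun i => x (.inr i.castSucc)) (x (.inl (Fin.last n)))) := by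
  rw [swapP, reflG_coe, QForm.reflectionMatrix_mulVec, plus_swapVec, QForm.coe_plusForm, QForm.polar_plus,
    Fin.sum_univ_castSucc]
  funext j
  rcases j with i | i <;> induction i using Fin.lastCases <;> simp [swapVec, Fin.castSucc_ne_last]

theorem swapP_twist {σ : F ≃+* F} {a θ : F} (hσa : σ a = a) (hσθ : σ θ = -a - θ) (hne : -a - θ ≠ θ) :
    (swapP (F := F) n).1 * gmap σ (twistJ hne) = twistJ hne := by
  refine Units.ext (Matrix.ext_of_mulVec_single fun i => ?_)
  have hs : (Pi.single i 1 : Fin (n + 1) ⊕ Fin (n + 1) → F) = σ ∘ Pi.single i 1 := single_eq_comp σ.toRingHom i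
  rw [Units.val_mul, ← Matrix.mulVec_mulVec, hs, gmap_mulVec, ← hs, twistJ_mulVec, swapP_mulVec]
  funext j
  rcases j with j | j <;> induction j using Fin.lastCases <;>
    simp [tmap, tmapFun, hσa, hσθ, Pi.single_apply, apply_ite σ]

end Swap

end Cfsg.Agent.AutPO
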