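import Cfsg.Agent.Lib.AutPO.Twisted

/-!
Renaming the coordinates of a quadratic form.
-/

set_option autoImplicit false

namespace Cfsg.Agent.AutPO

open scoped Matrix MatrixGroups
open ClassicalSimple (GO simAut scalarSub omegaSub mem_isometry_iff map_commutator_top ker_simAut)

variable {ι κ : Type} [Fintype ι] [DecidableEq ι] [Fintype κ] [DecidableEq κ] {F : Type*} [Field F]

/-- The form in renamed coordinates. -/
def reQ (Q : QuadraticForm F (ι → F)) (e : ι ≃ κ) : QuadraticForm F (κ → F) :=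
  Q.comp (LinearEquiv.funCongrLeft F F e).toLinearMap

omit [Fintype ι] [DecidableEq ι] [Fintype κ] [DecidableEq κ] in
theorem reQ_apply (Q : QuadraticForm F (ι → F)) (e : ι ≃ κ) (w : κ → F) : reQ Q e w = Q (w ∘ e) := rfl

variable (e : ι ≃ κ)

/-- Renaming on matrices. -/
noncomputable def reGL : GL ι F ≃* GL κ F := Units.mapEquiv (Matrix.reindexAlgEquiv F F e).toMulEquiv

theorem reGL_val (g : GL ι F) : (reGL e g).val = g.val.submatrix e.symm e.symm := rfl

theorem reGL_mulVec (g : GL ι F) (w : κ → F) : (reGL e g).val *ᵥ w = (g.val *ᵥ (w ∘ e)) ∘ e.symm := by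
  rw [reGL_val, Matrix.submatrix_mulVec_equiv, Equiv.symm_symm]

theorem det_reGL (g : GL ι F) : (reGL e g).val.det = g.val.det := by
  rw [reGL_val, Matrix.det_submatrix_equiv_self]

theorem reGL_scl (c : Fˣ) : reGL e (scl c : GL ι F) = scl c := by
  refine Units.ext (Matrix.ext fun i j => ?_)
  rw [reGL_val, Matrix.submatrix_apply, scl_val, scl_val]
  rcases eq_or_ne i j with rfl | h <;> simp [*]

variable (Q : QuadraticForm F (ι → F))

theorem re_mult_iff (g : GL ι F) (c : F) :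
    (∀ w, reQ Q e ((reGL e g).val *ᵥ w) = c * reQ Q e w) ↔ ∀ v, Q (g.val *ᵥ v) = c * Q v := by
  simp only [reQ_apply, reGL_mulVec, Function.comp_assoc, Equiv.symm_comp_self, Function.comp_id]
  exact ⟨fun h v => by simpa [Function.comp_assoc] using h (v ∘ e.symm), fun h w => h _⟩

theorem re_mem_iso_iff (g : GL ι F) :
    reGL e g ∈ isometryGroup F ⇑(reQ Q e) ↔ g ∈ isometryGroup F ⇑Q := by
  rw [mem_isometry_iff, mem_isometry_iff]
  simpa using re_mult_iff e Q g 1

theorem re_mem_GO_iff (g : GL ι F) : reGL e g ∈ GO (reQ Q e) ↔ g ∈ GO Q :=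
  ⟨fun ⟨c, hc⟩ => ⟨c, (re_mult_iff e Q g c).1 hc⟩, fun ⟨c, hc⟩ => ⟨c, (re_mult_iff e Q g c).2 hc⟩⟩

/-- Renaming on similarities. -/
noncomputable def reGO : GO Q ≃* GO (reQ Q e) where
  toFun g := ⟨reGL e g.1, (re_mem_GO_iff e Q g.1).2 g.2⟩
  invFun g := ⟨(reGL e).symm g.1, (re_mem_GO_iff e Q _).1 (by rw [MulEquiv.apply_symm_apply]; exact g.2)⟩
  left_inv g := Subtype.ext (MulEquiv.symm_apply_apply _ _)
  right_inv g := Subtype.ext (MulEquiv.apply_symm_apply _ _)
  map_mul' a b := Subtype.ext (map_mul _ _ _)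

/-- Renaming on isometries. -/
noncomputable def reIso : isometryGroup F ⇑Q ≃* isometryGroup F ⇑(reQ Q e) where
  toFun g := ⟨reGL e g.1, (re_mem_iso_iff e Q g.1).2 g.2⟩
  invFun g := ⟨(reGL e).symm g.1, (re_mem_iso_iff e Q _).1 (by rw [MulEquiv.apply_symm_apply]; exact g.2)⟩
  left_inv g := Subtype.ext (MulEquiv.symm_apply_apply _ _)
  right_inv g := Subtype.ext (MulEquiv.apply_symm_apply _ _)
  map_mul' a b := Subtype.ext (map_mul _ _ _)

theorem map_reGO_omega : (omegaSub Q).map (reGO e Q).toMonoidHom = omegaSub (reQ Q e) := by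
  have h := map_commutator_top (reIso e Q)
  ext g
  constructor
  · rintro ⟨g, ⟨t, ht, htg⟩, rfl⟩
    refine ⟨reIso e Q t, by rw [SetLike.mem_coe, Omega, ← h]; exact ⟨t, ht, rfl⟩, ?_⟩
    show reGL e t.1 = reGL e g.1
    exact congrArg (reGL e) htg
  · rintro ⟨t', ht', htg⟩
    rw [SetLike.mem_coe, Omega, ← h] at ht'
    obtain ⟨t, ht, rfl⟩ := ht'
    exact ⟨⟨t.1, ClassicalSimple.isometry_le_GO Q t.2⟩, ⟨t, ht, rfl⟩, Subtype.ext htg⟩

theorem map_reGO_scalar : (scalarSub Q).map (reGO e Q).toMonoidHom = scalarSub (reQ Q e) := by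
  ext g
  constructor
  · rintro ⟨g, ⟨c, hc⟩, rfl⟩
    refine ⟨c, ?_⟩
    show scl c = reGL e g.1
    rw [show g.1 = scl c from hc.symm, reGL_scl]
  · rintro ⟨c, hc⟩
    refine ⟨ClassicalSimple.scalarGO Q c, ClassicalSimple.scalarGO_mem c, Subtype.ext ?_⟩
    show reGL e (scl c) = g.1
    rw [reGL_scl]
    exact hc

variable {k : ℕ}

theorem map_reGO_Dg : (Dg Q k).map (reGO e Q).toMonoidHom = Dg (reQ Q e) k := by
  by_cases h2 : (2 : F) = 0
  · rw [Dg_two Q k h2, Dg_two _ k h2, Subgroup.map_sup, map_reGO_omega, map_reGO_scalar]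
  · rw [Dg_odd Q k h2, Dg_odd _ k h2]
    ext g
    obtain ⟨g, rfl⟩ := (reGO e Q).surjective g
    rw [Subgroup.mem_map_equiv, MulEquiv.symm_apply_apply]
    show (∃ c : Fˣ, _ ∧ _) ↔ ∃ c : Fˣ, _ ∧ _
    refine exists_congr fun c => and_congr (re_mult_iff e Q g.1 c).symm ?_
    rw [show (reGO e Q g).1 = reGL e g.1 from rfl, det_reGL]

variable [Finite F] (hQ : (QuadraticMap.polarBilin Q).Nondegenerate)
  (hQ' : (QuadraticMap.polarBilin (reQ Q e)).Nondegenerate) (h5 : 5 ≤ Fintype.card ι)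
include hQ hQ' h5

/-- Renaming does not change the inner-diagonal group. -/
theorem nonempty_map_reQ : Nonempty (↥((Dg (reQ Q e) k).map (simAut _)) ≃* ↥((Dg Q k).map (simAut Q))) := by
  have hker : ((simAut (reQ Q e)).comp (reGO e Q).toMonoidHom).ker = (simAut Q).ker := by
    rw [← MonoidHom.comap_ker, ker_simAut Q hQ h5,
      ker_simAut _ hQ' (h5.trans_eq (Fintype.card_congr e)), ← map_reGO_scalar]
    exact Subgroup.comap_map_eq_self_of_injective (reGO e Q).injective _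
  obtain ⟨E⟩ := nonempty_map_equiv ((simAut (reQ Q e)).comp (reGO e Q).toMonoidHom) (simAut Q) hker (Dg Q k)
  rw [← Subgroup.map_map, map_reGO_Dg] at E
  exact ⟨E⟩

end Cfsg.Agent.AutPO
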