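import Cfsg.Agent.Lib.AutPO.OddSplit
import Cfsg.Agent.Lib.AutPO.PlusModel
import Cfsg.Agent.Lib.AutPO.Reindex
import Cfsg.Agent.Lib.ClassicalSimple.PGOOmega
import Cfsg.Agent.Lib.QForm.Levi

/-!
The inner-diagonal similarities of the hyperbolic form against the elliptic ones over the subfield of index two.
-/

set_option autoImplicit false

namespace Cfsg.Agent.AutPO

open scoped Matrix MatrixGroups
open ClassicalSimple (GO simAut scalarSub omegaSub scalarGO scalarGO_mem EvenForm Twist mem_isometry_iff)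
open QForm (plusForm minusForm)

section Generic

variable {ι : Type} [Fintype ι] [DecidableEq ι] {F : Type*} [Field F] {F₀ : Type*} [Field F₀]
variable {Q : QuadraticForm F (ι → F)} {Q₀ : QuadraticForm F₀ (ι → F₀)}
variable (f : F₀ →+* F) (J : GL ι F) (hJ : ∀ w, Q (J.val *ᵥ (f ∘ w)) = ((1 : Fˣ) : F) * f (Q₀ w))
include hJ

theorem emb_reflection (v : ι → F₀) (hv : Q₀ v ≠ 0) :
    J.val * (reflectionMatrix ⇑Q₀ v).map f * (J⁻¹).val = reflectionMatrix ⇑Q (J.val *ᵥ (f ∘ v)) := by
  obtain ⟨_, e⟩ := emb_reflG f J 1 hJ v hv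
  exact congrArg (fun g : GO Q => g.1.val) e

theorem emb_prod_reflection : ∀ vs : List (ι → F₀), (∀ v ∈ vs, Q₀ v ≠ 0) →
    J.val * ((vs.map fun v => reflectionMatrix ⇑Q₀ v).prod).map f * (J⁻¹).val =
      ((vs.map fun v => J.val *ᵥ (f ∘ v)).map fun v => reflectionMatrix ⇑Q v).prod
  | [], _ => by
    rw [List.map_nil, List.prod_nil, Matrix.map_one _ (map_zero f) (map_one f), mul_one, ← Units.val_mul,
      mul_inv_cancel, Units.val_one, List.map_nil, List.map_nil, List.prod_nil]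
  | v :: vs, h => by
    rw [List.map_cons, List.prod_cons, Matrix.map_mul, List.map_cons, List.map_cons, List.prod_cons,
      ← emb_prod_reflection vs fun w hw => h w (List.mem_cons_of_mem _ hw),
      ← emb_reflection f J hJ v (h v List.mem_cons_self)]
    simp only [mul_assoc]
    rw [← mul_assoc (J⁻¹).val J.val, ← Units.val_mul, inv_mul_cancel, Units.val_one, one_mul]

variable [Fintype F] [DecidableEq F] [Fintype F₀] [DecidableEq F₀] {k r : ℕ}

/-- A rational similarity of square multiplier becomes trivial modulo `Omega` and scalars in even degree. -/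
theorem emb_square_mem (E : EvenForm Q k) (E₀ : EvenForm Q₀ k)
    (hr : Fintype.card F = Fintype.card F₀ ^ r) (hev : Even r) {g : GO Q₀} (hg : g ∈ Dg Q₀ k) {c : F₀ˣ}
    (hc : ∀ w, Q₀ (g.1.val *ᵥ w) = (c : F₀) * Q₀ w) (hsq : IsSquare (c : F₀)) :
    embGO f J 1 hJ g ∈ omegaSub Q ⊔ scalarSub Q := by
  classical
  have : Nonempty ι := Fintype.card_pos_iff.1 (by have := E.card; have := E.three; omega)
  have hd : g.1.val.det = (c : F₀) ^ k := by
    rw [Dg_odd Q₀ k E₀.two] at hg
    obtain ⟨c₁, hc₁, hd₁⟩ := hg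
    rw [hd₁, show (c₁ : F₀) = c from mult_unique E₀.nondeg fun w => (hc₁ w).symm.trans (hc w)]
  obtain ⟨s, hs⟩ := hsq
  have hs0 : s ≠ 0 := fun e => c.ne_zero (by rw [hs, e, mul_zero])
  set u := Units.mk0 s hs0
  have hiso : (scalarGO Q₀ u⁻¹ * g).1 ∈ isometryGroup F₀ ⇑Q₀ := by
    refine (mem_isometry_iff Q₀).2 fun x => ?_
    rw [Subgroup.coe_mul, scalarGO_coe, Units.val_mul, ← Matrix.mulVec_mulVec, scl_mulVec, QuadraticMap.map_smul,
      hc, smul_eq_mul, Units.val_inv_eq_inv_val, Units.val_mk0, hs]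
    field_simp
  set y : isometryGroup F₀ ⇑Q₀ := ⟨_, hiso⟩
  have hg' : g = scalarGO Q₀ u * isoGO Q₀ y := by
    refine Subtype.ext ?_
    show g.1 = (scalarGO Q₀ u).1 * ((scalarGO Q₀ u⁻¹).1 * g.1)
    rw [scalarGO_coe, scalarGO_coe, ← mul_assoc, ← map_mul, mul_inv_cancel, map_one, one_mul]
  have hyd : y.1.val.det = 1 := by
    show (scalarGO Q₀ u⁻¹ * g).1.val.det = 1
    rw [Subgroup.coe_mul, scalarGO_coe, Units.val_mul, Matrix.det_mul, scl_val, Matrix.det_smul, Matrix.det_one,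
      mul_one, hd, E₀.card, Units.val_inv_eq_inv_val, Units.val_mk0, pow_mul, inv_pow, ← mul_pow, hs]
    field_simp
    simp
  obtain ⟨vs, hvs, hy⟩ := QForm.exists_list E₀.nondeg (Or.inr (by have := E.card; have := E.three; omega)) y
  obtain ⟨-, hlen⟩ := QForm.invariants_of_prod E₀.two vs hvs y hy
  rw [hyd] at hlen
  have heven : Even vs.length := (neg_one_pow_eq_one_iff_even (fun e => E₀.two (by linear_combination -e))).1 hlen.symm
  set t : isometryGroup F ⇑Q := ⟨(embGO f J 1 hJ (isoGO Q₀ y)).1, (mem_isometry_iff Q).2 fun v => by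
    rw [emb_mult f J 1 hJ (isoGO Q₀ y) (c := 1) (fun w => by
      rw [one_mul]; exact (mem_isometry_iff Q₀).1 y.2 w) v, map_one, one_mul]⟩
  have hvs' : ∀ v ∈ vs.map (fun v => J.val *ᵥ (f ∘ v)), Q v ≠ 0 := by
    intro v hv
    obtain ⟨w, hw, rfl⟩ := List.mem_map.1 hv
    rw [hJ, Units.val_one, one_mul]
    exact (map_ne_zero f).2 (hvs w hw)
  have ht : t ∈ Omega F ⇑Q := by
    refine (QForm.mem_omega_iff_of_prod E.nondeg E.two t _ hvs' ?_).2 ⟨by rw [List.length_map]; exact heven, ?_⟩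
    · rw [← emb_prod_reflection f J hJ vs hvs, ← hy]
      rfl
    · have hP : (vs.map fun v => Q₀ v).prod ≠ 0 := List.prod_ne_zero fun h0 => by
        obtain ⟨v, hv, hv0⟩ := List.mem_map.1 h0
        exact hvs v hv hv0
      rw [show ((vs.map fun v => J.val *ᵥ (f ∘ v)).map fun v => Q v).prod = f (vs.map fun v => Q₀ v).prod by
        rw [map_list_prod, List.map_map, List.map_map]
        exact congrArg List.prod (List.map_congr_left fun v _ => by
          show Q (J.val *ᵥ (f ∘ v)) = f (Q₀ v)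
          rw [hJ, Units.val_one, one_mul]),
        ← quadraticChar_one_iff_isSquare ((map_ne_zero f).2 hP), quadraticChar_map f hr E.two hP]
      rcases quadraticChar_dichotomy hP with e | e <;> rw [e]
      · exact one_pow _
      · exact hev.neg_one_pow
  rw [hg', map_mul, emb_scalar]
  exact mul_mem (Subgroup.mem_sup_right (scalarGO_mem _)) (Subgroup.mem_sup_left ⟨t, ht, rfl⟩)

end Generic

section Plus

variable {F : Type*} [Field F] [Fintype F] {F₀ : Type*} [Field F₀] [Fintype F₀] {n : ℕ}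

local notation "QP" => plusForm F (n + 1)

/-- Square classes of square roots of elements of the subfield of index two. -/
theorem isSquare_sqrt_iff (f : F₀ →+* F) (hcard : Fintype.card F = Fintype.card F₀ ^ 2) (h2 : (2 : F) ≠ 0)
    {c : F₀} (hc : ¬ IsSquare c) {s : F} (hs : s * s = f c) : IsSquare s ↔ Fintype.card F₀ % 4 = 3 := by
  have hF : ringChar F ≠ 2 := fun h => h2 (by
    have : CharP F 2 := ringChar.of_eq h
    exact CharTwo.two_eq_zero)
  have hF0 : ringChar F₀ ≠ 2 := fun h => h2 (by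
    have : CharP F₀ 2 := ringChar.of_eq h
    rw [← map_ofNat f 2, CharTwo.two_eq_zero, map_zero])
  have hc0 : c ≠ 0 := fun e => hc (e ▸ IsSquare.zero)
  have hs0 : s ≠ 0 := fun e => (map_ne_zero f).2 hc0 (by rw [← hs, e, zero_mul])
  obtain ⟨k, hk⟩ : ∃ k, Fintype.card F₀ = 2 * k + 1 :=
    ⟨Fintype.card F₀ / 2, by have := FiniteField.odd_card_of_char_ne_two hF0; omega⟩
  have hck : c ^ k = -1 := by
    rcases FiniteField.pow_dichotomy hF0 hc0 with e | e
    · exact absurd ((FiniteField.isSquare_iff hF0 hc0).2 e) hc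
    · rwa [hk, show (2 * k + 1) / 2 = k by omega] at e
  have hexp : Fintype.card F / 2 = 2 * (k * (k + 1)) := by
    rw [hcard, hk, show (2 * k + 1) ^ 2 = 2 * (2 * (k * (k + 1))) + 1 by ring]
    omega
  rw [FiniteField.isSquare_iff hF hs0, hexp, pow_mul, pow_two, hs, pow_mul, ← map_pow, hck, map_neg, map_one,
    neg_one_pow_eq_one_iff_even (Ring.neg_one_ne_one_of_char_ne_two hF), hk]
  rcases Nat.even_or_odd k with ⟨j, rfl⟩ | ⟨j, rfl⟩
  · exact iff_of_false (by simp) (by omega)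
  · exact iff_of_true ⟨j + 1, by ring⟩ (by omega)

variable {a₀ b₀ : F₀} {θ : F} (f : F₀ →+* F)

set_option maxHeartbeats 1000000 in
-- defeq checks on sum-indexed matrices are slow
/-- A rational similarity of nonsquare multiplier, as a scalar times a Levi element. -/
theorem exists_levi_form {σ : F ≃+* F} (hf : ∀ x : F, σ x = x ↔ x ∈ Set.range f)
    (hcard : Fintype.card F = Fintype.card F₀ ^ 2) (h2 : (2 : F) ≠ 0) (hσ2 : ∀ x, σ (σ x) = x)
    (hab : ∀ z₁ z₂ : F₀, z₁ ^ 2 + a₀ * z₁ * z₂ + b₀ * z₂ ^ 2 = 0 → z₁ = 0 ∧ z₂ = 0)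
    (hθ : θ ^ 2 + f a₀ * θ + f b₀ = 0) (hσθ : σ θ = -f a₀ - θ) (hne : -f a₀ - θ ≠ θ) :
    ∃ (d : GO (reQ (minusForm F₀ n a₀ b₀) (idxEquiv n))) (c : F₀ˣ) (u : Fˣ) (A : GL (Fin (n + 1)) F),
      d ∈ Dg (reQ (minusForm F₀ n a₀ b₀) (idxEquiv n)) (n + 1) ∧
      (∀ w, reQ (minusForm F₀ n a₀ b₀) (idxEquiv n) (d.1.val *ᵥ w) =
        (c : F₀) * reQ (minusForm F₀ n a₀ b₀) (idxEquiv n) w) ∧
      ¬ IsSquare (c : F₀) ∧
      embGO f (twistJ hne) 1 (fun w => plus_twistJ hne hθ f rfl rfl w) d =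
        scalarGO QP u * isoGO QP (QForm.levi A) ∧
      (IsSquare A.val.det ↔ Odd (n + 1) ∧ Fintype.card F₀ % 4 = 1) := by
  classical
  have hF : ringChar F ≠ 2 := fun h => h2 (by
    have : CharP F 2 := ringChar.of_eq h
    exact CharTwo.two_eq_zero)
  have h20 : (2 : F₀) ≠ 0 := fun e => h2 (by rw [← map_ofNat f 2, e, map_zero])
  have hF0 : ringChar F₀ ≠ 2 := fun h => h20 (by
    have : CharP F₀ 2 := ringChar.of_eq h
    exact CharTwo.two_eq_zero)
  obtain ⟨c, hns⟩ := FiniteField.exists_nonsquare hF0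
  have hc0 : c ≠ 0 := fun e => hns (e ▸ IsSquare.zero)
  obtain ⟨x, y, hxy⟩ := ClassicalSimple.exists_norm_eq h20 (disc_ne_zero hab) hc0
  have hfc : f c ≠ 0 := (map_ne_zero f).2 hc0
  obtain ⟨s, hs⟩ : IsSquare (f c) := by
    rw [← quadraticChar_one_iff_isSquare hfc, quadraticChar_map f hcard h2 hc0,
      quadraticChar_neg_one_iff_not_isSquare.2 hns]
    norm_num
  have hs0 : s ≠ 0 := fun e => hfc (by rw [hs, e, mul_zero])
  set w : F := f x - θ * f y
  set w' : F := f x - (-f a₀ - θ) * f y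
  have hww : w * w' = f c := by
    rw [← hxy]; simp only [w, w', map_add, map_mul, map_pow]
    linear_combination (-f y ^ 2) * hθ
  have hw0 : w ≠ 0 := fun e => hfc (by rw [← hww, e, zero_mul])
  have hσw : σ w = w' := by
    simp only [w, w', map_sub, map_mul, hσθ, (hf _).2 ⟨x, rfl⟩, (hf _).2 ⟨y, rfl⟩]
  have hwns : ¬ IsSquare w := by
    rintro ⟨t, ht⟩
    obtain ⟨t₀, ht₀⟩ := (hf (t * σ t)).1 (by rw [map_mul, hσ2, mul_comm])
    refine hns ⟨t₀, f.injective ?_⟩
    rw [← hww, ← hσw, ht, map_mul, map_mul f, ht₀]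
    ring
  -- the rational similarity
  set Qm := minusForm F₀ n a₀ b₀
  obtain ⟨g, hg⟩ := ClassicalSimple.exists_GO_of_matrix Qm (ClassicalSimple.minusDiag a₀ b₀ n x y)
    (by rw [ClassicalSimple.det_minusDiag, hxy, one_mul]; exact pow_ne_zero _ hc0) c hc0
    (fun v => by rw [QForm.minusForm_apply, QForm.minusForm_apply, ClassicalSimple.quad_minusDiag, hxy])
  have hgc : ∀ v, Qm (g.1.val *ᵥ v) = c * Qm v := fun v => by
    rw [hg, QForm.minusForm_apply, QForm.minusForm_apply, ClassicalSimple.quad_minusDiag, hxy]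
  -- the Levi element
  let v : Fin (n + 1) → Fˣ := Fin.snoc (fun _ => Units.mk0 s hs0) (Units.mk0 w hw0 * (Units.mk0 s hs0)⁻¹)
  let A : GL (Fin (n + 1)) F := GL.diagHom v
  have hd : reGO (idxEquiv n) Qm g ∈ Dg (reQ Qm (idxEquiv n)) (n + 1) := by
    rw [Dg_odd _ _ h20]
    refine ⟨Units.mk0 c hc0, (re_mult_iff (idxEquiv n) Qm g.1 c).2 hgc, ?_⟩
    show (reGL (idxEquiv n) g.1).val.det = c ^ (n + 1)
    rw [det_reGL, hg, ClassicalSimple.det_minusDiag, hxy, one_mul]
  refine ⟨reGO (idxEquiv n) Qm g, Units.mk0 c hc0, Units.mk0 s hs0, A, hd,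
    (re_mult_iff (idxEquiv n) Qm g.1 c).2 hgc, hns, ?_, ?_⟩
  · refine Subtype.ext ?_
    show twistJ hne * Matrix.GeneralLinearGroup.map f (reGO (idxEquiv n) Qm g).1 * (twistJ hne)⁻¹ = _
    rw [mul_inv_eq_iff_eq_mul, Subgroup.coe_mul, scalarGO_coe, isoGO_coe]
    refine Units.ext (Matrix.ext_of_mulVec_single fun i => ?_)
    rw [single_eq_comp f i]
    simp only [Units.val_mul, ← Matrix.mulVec_mulVec, scl_mulVec]
    rw [show (Matrix.GeneralLinearGroup.map f (reGO (idxEquiv n) Qm g).1).val *ᵥ (f ∘ Pi.single i 1) =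
        f ∘ ((reGL (idxEquiv n) g.1).val *ᵥ Pi.single i 1) from
      funext fun j => (RingHom.map_mulVec f _ _ j).symm, twistJ_mulVec, twistJ_mulVec, reGL_mulVec,
      Function.comp_assoc f, Function.comp_assoc, Equiv.symm_comp_self, Function.comp_id,
      Function.comp_assoc f, hg]
    set z : (Fin n ⊕ Fin n) ⊕ Fin 2 → F₀ := Pi.single i 1 ∘ idxEquiv n
    have hAinv : (A.val)⁻¹ = Matrix.diagonal fun j => (((v j)⁻¹ : Fˣ) : F) := by
      rw [← Matrix.coe_units_inv]
      show ((GL.diagHom v)⁻¹ : GL (Fin (n + 1)) F).val = _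
      rw [← map_inv, GL.coe_diagHom]
      rfl
    have hlev : ∀ p : Fin (n + 1) ⊕ Fin (n + 1) → F, (QForm.levi A).1.val *ᵥ p =
        Sum.elim (fun j => (v j : F) * p (.inl j)) (fun j => (((v j)⁻¹ : Fˣ) : F) * p (.inr j)) := fun p => by
      rw [QForm.coe_levi, Matrix.fromBlocks_mulVec, hAinv, Matrix.diagonal_transpose,
        show A.val = Matrix.diagonal fun j => (v j : F) from GL.coe_diagHom v]
      funext j
      rcases j with j | j <;> simp [Matrix.mulVec_diagonal]
    rw [hlev]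
    funext j
    have hs2 : s ^ 2 = f x ^ 2 + f a₀ * f x * f y + f b₀ * f y ^ 2 := by
      rw [pow_two, ← hs, ← hxy]; simp only [map_add, map_mul, map_pow]
    rcases j with j | j <;> induction j using Fin.lastCases
    · simp [v, tmap, tmapFun, ClassicalSimple.minusDiag, ClassicalSimple.normMul, Matrix.fromBlocks_mulVec,
        Matrix.mulVec, dotProduct, Fin.sum_univ_two]
      field_simp
      first
        | linear_combination (f y * f (z (.inr 1))) * hθ
        | linear_combination (-(f y * f (z (.inr 1)))) * hθ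
    · simp [v, tmap, tmapFun, ClassicalSimple.minusDiag, ClassicalSimple.diagBlock, Matrix.fromBlocks_mulVec,
        Matrix.smul_mulVec, hxy]
      rw [hs]; ring
    · simp [v, tmap, tmapFun, ClassicalSimple.minusDiag, ClassicalSimple.normMul, Matrix.fromBlocks_mulVec,
        Matrix.mulVec, dotProduct, Fin.sum_univ_two]
      field_simp
      linear_combination (-(f y ^ 2 * f (z (.inr 0)) + f x * f y * f (z (.inr 1)) +
          f a₀ * f y ^ 2 * f (z (.inr 1)))) * hθ -
        (f (z (.inr 0)) + (f a₀ + θ) * f (z (.inr 1))) * hs2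
    · simp [v, tmap, tmapFun, ClassicalSimple.minusDiag, ClassicalSimple.diagBlock, Matrix.fromBlocks_mulVec, hxy]
      field_simp
  · have hdet : A.val.det = s ^ n * (w * s⁻¹) := by
      rw [show A.val = Matrix.diagonal fun j => (v j : F) from GL.coe_diagHom v, Matrix.det_diagonal,
        Fin.prod_univ_castSucc]
      simp [v]
    have h1 : IsSquare A.val.det ↔ IsSquare (s ^ (n + 1) * w) := by
      rw [hdet]
      constructor
      · rintro ⟨t, ht⟩
        refine ⟨t * s, ?_⟩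
        calc s ^ (n + 1) * w = s ^ n * (w * s⁻¹) * (s * s) := by rw [pow_succ]; field_simp
          _ = _ := by rw [ht]; ring
      · rintro ⟨t, ht⟩
        refine ⟨t * s⁻¹, ?_⟩
        calc s ^ n * (w * s⁻¹) = s ^ (n + 1) * w * (s⁻¹ * s⁻¹) := by rw [pow_succ]; field_simp
          _ = _ := by rw [ht]; ring
    rw [h1, QForm.isSquare_mul_nonsquare_iff (pow_ne_zero _ hs0) hwns]
    have hsq := isSquare_sqrt_iff f hcard h2 hns hs.symm
    have hodd : Fintype.card F₀ % 2 = 1 := FiniteField.odd_card_of_char_ne_two hF0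
    rcases Nat.even_or_odd (n + 1) with he | ho
    · exact iff_of_false (not_not.2 (he.isSquare_pow s)) fun h => (Nat.not_odd_iff_even.2 he) h.1
    · have hpow : IsSquare (s ^ (n + 1)) ↔ IsSquare s := by
        obtain ⟨j, hj⟩ := ho
        rw [hj, pow_succ, pow_mul']
        constructor
        · rintro ⟨t, ht⟩
          refine ⟨t * (s ^ j)⁻¹, ?_⟩
          field_simp
          linear_combination ht
        · rintro ⟨t, ht⟩
          exact ⟨s ^ j * t, by rw [ht]; ring⟩
      rw [hpow, hsq]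
      constructor
      · exact fun h => ⟨ho, by omega⟩
      · rintro ⟨-, h⟩; omega

end Plus

end Cfsg.Agent.AutPO
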