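import Cfsg.Agent.Lib.AutPO.Twisted
import Cfsg.Prelude.Def_KGroupFacts

/-!
Transport of automorphism groups of `POmega` along identifications of the carriers.
-/

set_option autoImplicit false

namespace Cfsg.Agent.AutPO

open scoped Matrix MatrixGroups
open ClassicalSimple (GO simAut simAut_mk mem_isometry_iff map_commutator_top centerQuotientCongr)

section Group

variable {G H : Type*} [Group G] [Group H]

theorem congr_apply_map (ψ : G ≃* H) (e : MulAut G) (z : G) : MulAut.congr ψ e (ψ z) = ψ (e z) := by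
  show ψ (e (ψ.symm (ψ z))) = _
  rw [MulEquiv.symm_apply_apply]

/-- Identifications map inner automorphisms to inner automorphisms. -/
theorem map_congr_inn (ψ : G ≃* H) : (Cfsg.Inn G).map (MulAut.congr ψ).toMonoidHom = Cfsg.Inn H := by
  ext e
  constructor
  · rintro ⟨_, ⟨g, rfl⟩, rfl⟩
    exact ⟨ψ g, MulEquiv.ext fun y => by
      show ψ g * y * (ψ g)⁻¹ = ψ (g * ψ.symm y * g⁻¹)
      rw [map_mul, map_mul, map_inv, MulEquiv.apply_symm_apply]⟩
  · rintro ⟨h, rfl⟩
    exact ⟨MulAut.conj (ψ.symm h), ⟨_, rfl⟩, MulEquiv.ext fun y => by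
      show ψ (ψ.symm h * ψ.symm y * (ψ.symm h)⁻¹) = h * y * h⁻¹
      rw [map_mul, map_mul, map_inv, MulEquiv.apply_symm_apply, MulEquiv.apply_symm_apply]⟩

/-- The image of a subgroup with normal image does not depend on the identification. -/
theorem map_congr_eq (ψ ψ₀ : G ≃* H) {A : Subgroup (MulAut G)} {B : Subgroup (MulAut H)} [B.Normal]
    (h : A.map (MulAut.congr ψ₀).toMonoidHom = B) : A.map (MulAut.congr ψ).toMonoidHom = B := by
  let γ : MulAut H := ψ₀.symm.trans ψ
  have e : (MulAut.congr ψ).toMonoidHom = (MulAut.conj γ).toMonoidHom.comp (MulAut.congr ψ₀).toMonoidHom := by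
    refine MonoidHom.ext fun f => MulEquiv.ext fun y => ?_
    show ψ (f (ψ.symm y)) = ψ (ψ₀.symm (ψ₀ (f (ψ₀.symm (ψ₀ (ψ.symm y))))))
    simp only [MulEquiv.symm_apply_apply]
  rw [e, ← Subgroup.map_map, h, AutPSL.map_conj_of_normal]

end Group

section Map

variable {X Y : Type*} [Group X] [Group Y] (E : X ≃* Y)

theorem isConjUnder_map_iff (A : Subgroup X) (x y : X) :
    Cfsg.IsConjUnder (A.map E.toMonoidHom) (E x) (E y) ↔ Cfsg.IsConjUnder A x y := by
  constructor
  · rintro ⟨_, ⟨h, hh, rfl⟩, e⟩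
    refine ⟨h, hh, E.injective ?_⟩
    rw [e, map_mul, map_mul, map_inv]
    rfl
  · rintro ⟨h, hh, rfl⟩
    exact ⟨E h, ⟨h, hh, rfl⟩, by rw [map_mul, map_mul, map_inv]⟩

theorem map_centralizer_singleton (x : X) :
    (Subgroup.centralizer {x}).map E.toMonoidHom = Subgroup.centralizer {E x} := by
  ext y
  rw [Subgroup.mem_map_equiv, Subgroup.mem_centralizer_singleton_iff, Subgroup.mem_centralizer_singleton_iff,
    ← E.injective.eq_iff, map_mul, map_mul, MulEquiv.apply_symm_apply]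

theorem map_inf_centralizer_equiv (A : Subgroup X) (x : X) :
    (A ⊓ Subgroup.centralizer {x}).map E.toMonoidHom =
      A.map E.toMonoidHom ⊓ Subgroup.centralizer {E x} := by
  rw [Subgroup.map_inf _ _ E.toMonoidHom E.injective, map_centralizer_singleton]

theorem splitClassCount_map (A K : Subgroup X) [K.Normal] (hKA : K ≤ A) (x : X) :
    Cfsg.splitClassCount (A.map E.toMonoidHom) (K.map E.toMonoidHom) (E x) = Cfsg.splitClassCount A K x := by
  have : (K.map E.toMonoidHom).Normal := Subgroup.Normal.map inferInstance _ E.surjective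
  rw [AutPSL.splitClassCount_eq _ _ (Subgroup.map_mono hKA), AutPSL.splitClassCount_eq _ _ hKA,
    ← map_inf_centralizer_equiv, ← Subgroup.map_sup]
  exact Subgroup.relIndex_map_map_of_injective _ _ E.injective

end Map

section Forms

variable {ι : Type} [Fintype ι] [DecidableEq ι] {F : Type*} [Field F]
variable {Q Q' : QuadraticForm F (ι → F)} (J : GL ι F) (u : Fˣ)
  (hJ : ∀ v, Q' (J.val *ᵥ v) = (u : F) * Q v)
include hJ

theorem inv_similarity (v : ι → F) : Q ((J⁻¹).val *ᵥ v) = ((u⁻¹ : Fˣ) : F) * Q' v := by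
  conv_rhs => rw [← ClassicalSimple.mulVec_inv_cancel J v, hJ]
  rw [← mul_assoc, ← Units.val_mul, inv_mul_cancel, Units.val_one, one_mul]

theorem conj_mem_isometry' {s : GL ι F} (hs : s ∈ isometryGroup F ⇑Q) : J * s * J⁻¹ ∈ isometryGroup F ⇑Q' := by
  refine (mem_isometry_iff Q').2 fun v => ?_
  rw [Units.val_mul, Units.val_mul, ← Matrix.mulVec_mulVec, ← Matrix.mulVec_mulVec, hJ,
    (mem_isometry_iff Q).1 hs, ← hJ, ClassicalSimple.mulVec_inv_cancel]

/-- Similar forms have isomorphic isometry groups. -/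
def isometryConj : isometryGroup F ⇑Q ≃* isometryGroup F ⇑Q' where
  toFun s := ⟨J * s.1 * J⁻¹, conj_mem_isometry' J u hJ s.2⟩
  invFun s := ⟨J⁻¹ * s.1 * J⁻¹⁻¹, conj_mem_isometry' J⁻¹ u⁻¹ (inv_similarity J u hJ) s.2⟩
  left_inv s := Subtype.ext (by simp [mul_assoc])
  right_inv s := Subtype.ext (by simp [mul_assoc])
  map_mul' s t := Subtype.ext (by simp [mul_assoc])

/-- The same on `Omega`. -/
noncomputable def omegaConj : Omega F ⇑Q ≃* Omega F ⇑Q' :=
  ((isometryConj J u hJ).subgroupMap _).trans (MulEquiv.subgroupCongr (map_commutator_top _))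

theorem omegaConj_coe (s : Omega F ⇑Q) : ((omegaConj J u hJ s).1 : GL ι F) = J * s.1.1 * J⁻¹ := rfl

/-- The same on `POmega`. -/
noncomputable def pomegaConj : POmega F ⇑Q ≃* POmega F ⇑Q' := centerQuotientCongr (omegaConj J u hJ)

theorem pomegaConj_mk (s : Omega F ⇑Q) :
    pomegaConj J u hJ (QuotientGroup.mk s) = QuotientGroup.mk (omegaConj J u hJ s) := rfl

theorem simJ_hJ (w : ι → F) : Q' (J.val *ᵥ (RingHom.id F ∘ w)) = (u : F) * RingHom.id F (Q w) := hJ w

/-- Similarities of similar forms. -/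
def simJ : GO Q →* GO Q' := embGO (RingHom.id F) J u (simJ_hJ J u hJ)

theorem simJ_coe (g : GO Q) : (simJ J u hJ g).1 = J * g.1 * J⁻¹ := by
  show J * Matrix.GeneralLinearGroup.map (RingHom.id F) g.1 * J⁻¹ = _
  rw [show Matrix.GeneralLinearGroup.map (RingHom.id F) g.1 = g.1 from Units.ext (Matrix.ext fun _ _ => rfl)]

theorem congr_simAut (g : GO Q) :
    MulAut.congr (pomegaConj J u hJ) (simAut Q g) = simAut Q' (simJ J u hJ g) := by
  refine MulEquiv.ext fun y => ?_
  obtain ⟨z, rfl⟩ := (pomegaConj J u hJ).surjective y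
  refine QuotientGroup.induction_on z fun s => ?_
  rw [congr_apply_map, simAut_mk, pomegaConj_mk, pomegaConj_mk, simAut_mk]
  refine congrArg _ (Subtype.ext (Subtype.ext ?_))
  rw [omegaConj_coe, ClassicalSimple.commutatorAut_coe, ClassicalSimple.commutatorAut_coe, omegaConj_coe, simJ_coe]
  group

variable [Fintype F] (hQ : (QuadraticMap.polarBilin Q).Nondegenerate)
  (hQ' : (QuadraticMap.polarBilin Q').Nondegenerate) {k : ℕ} (hn : Fintype.card ι = 2 * k) (hk : 3 ≤ k)
include hQ hQ' hn hk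

theorem map_simJ_Dg : (Dg Q k).map (simJ J u hJ) = Dg Q' k := by
  ext g
  constructor
  · rintro ⟨g, hg, rfl⟩
    exact (emb_mem_Dg_iff _ J u (simJ_hJ J u hJ) hQ' hQ hn hk g).2 hg
  · intro hg
    set h := simJ J⁻¹ u⁻¹ (inv_similarity J u hJ) g
    have e : simJ J u hJ h = g := Subtype.ext (by rw [simJ_coe, simJ_coe]; group)
    exact ⟨h, (emb_mem_Dg_iff _ J u (simJ_hJ J u hJ) hQ' hQ hn hk h).1 (by
      show simJ J u hJ h ∈ Dg Q' k
      rw [e]; exact hg), e⟩

theorem map_congr_Dg : ((Dg Q k).map (simAut Q)).map (MulAut.congr (pomegaConj J u hJ)).toMonoidHom =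
    (Dg Q' k).map (simAut Q') := by
  rw [Subgroup.map_map, ← map_simJ_Dg J u hJ hQ hQ' hn hk, Subgroup.map_map]
  congr 1
  exact MonoidHom.ext fun g => congr_simAut J u hJ g

end Forms

end Cfsg.Agent.AutPO
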