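import Cfsg.Agent.Lib.AutPO.GraphFieldUnique
import Cfsg.Agent.Lib.AutPO.GraphFieldSplit
import Cfsg.Agent.Lib.AutPO.Transport
import Cfsg.Agent.Lib.Field.QuadraticExt

/-!
Centralisers and classes of involutory graph-field automorphisms of the hyperbolic orthogonal groups.
-/

set_option autoImplicit false

namespace Cfsg.Agent.AutPO

open scoped Matrix MatrixGroups
open ClassicalSimple (GO simAut scalarSub omegaSub scalarGO scalarGO_mem EvenForm mem_isometry_iff)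
open QForm (plusForm minusForm)

variable {F : Type*} [Field F] [Fintype F] {n : ℕ}

local notation "QP" => plusForm F (n + 1)

section Index

variable [DecidableEq F]

omit [DecidableEq F] in
theorem dsub_eq_Dg (E : EvenForm (plusForm F (n + 1)) (n + 1)) :
    ClassicalSimple.dsub E = Dg (plusForm F (n + 1)) (n + 1) :=
  Subgroup.ext fun g => (mem_Dg_iff_dsign E g).symm

/-- The inner-diagonal similarities modulo `Omega` and scalars. -/
theorem relIndex_omega_scalar (E : EvenForm (plusForm F (n + 1)) (n + 1))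
    (hneg : ClassicalSimple.NegOneOmega (plusForm F (n + 1))) :
    (omegaSub (plusForm F (n + 1)) ⊔ scalarSub (plusForm F (n + 1))).relIndex (Dg (plusForm F (n + 1)) (n + 1)) = 4 := by
  obtain ⟨T⟩ := ClassicalSimple.twist_plus E
  have h := ClassicalSimple.inn_relIndex_innDiag E T hneg
  rw [ClassicalSimple.innDiag, ClassicalSimple.inn_eq, ← Subgroup.relIndex_comap, Subgroup.comap_map_eq,
    ClassicalSimple.ker_simAut QP E.nondeg E.five, dsub_eq_Dg E] at h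
  exact h

theorem levi_mem_omega_of_mem (hm : 3 ≤ n + 1) (E : EvenForm (plusForm F (n + 1)) (n + 1))
    (hneg : ClassicalSimple.NegOneOmega (plusForm F (n + 1))) {A : GL (Fin (n + 1)) F}
    (h : isoGO (plusForm F (n + 1)) (QForm.levi A) ∈ omegaSub (plusForm F (n + 1)) ⊔ scalarSub (plusForm F (n + 1))) :
    IsSquare A.val.det := by
  have hdet : (QForm.levi A).1.val.det = 1 := by
    rw [QForm.coe_levi, Matrix.det_fromBlocks_zero₁₂, Matrix.det_transpose, ← Matrix.det_mul,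
      Matrix.mul_nonsing_inv _ ((Matrix.isUnit_iff_isUnit_det _).1 A.isUnit), Matrix.det_one]
  have hm1 : (ClassicalSimple.mult (isoGO QP (QForm.levi A)) : F) = 1 :=
    (ClassicalSimple.mult_isometry E _).1 (QForm.levi A).2
  have hso : isoGO QP (QForm.levi A) ∈ ClassicalSimple.soSub QP :=
    (ClassicalSimple.mem_soSub E _).2 ⟨hm1, by
      rw [ClassicalSimple.dsign_isometry E _ hm1]; exact hdet⟩
  have hinn : simAut QP (isoGO QP (QForm.levi A)) ∈ Cfsg.Inn (POmega F ⇑QP) := by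
    rw [ClassicalSimple.inn_eq, ← Subgroup.mem_comap, Subgroup.comap_map_eq,
      ClassicalSimple.ker_simAut QP E.nondeg E.five]
    exact h
  obtain ⟨t, ht, hte⟩ :=
    (ClassicalSimple.mem_omegaSub E ⟨_, hso⟩).2 ((ClassicalSimple.inn_mem_iff E hneg ⟨_, hso⟩).1 hinn)
  refine (QForm.levi_mem_omega_iff (by omega) (Or.inr (by omega)) A).1 ?_
  rwa [show QForm.levi A = t from Subtype.ext hte.symm]

end Index

variable {F₀ : Type*} [Field F₀] [Fintype F₀] {a₀ b₀ : F₀} {θ : F} (f : F₀ →+* F)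

local notation "Q0" => reQ (minusForm F₀ n a₀ b₀) (idxEquiv n)

omit [Fintype F] [Fintype F₀] in
theorem graph_hJ (hθ : θ ^ 2 + f a₀ * θ + f b₀ = 0) (hne : -f a₀ - θ ≠ θ)
    (w : Fin (n + 1) ⊕ Fin (n + 1) → F₀) :
    plusForm F (n + 1) ((twistJ hne).val *ᵥ (f ∘ w)) =
      ((1 : Fˣ) : F) * f (reQ (minusForm F₀ n a₀ b₀) (idxEquiv n) w) :=
  plus_twistJ hne hθ f rfl rfl w

theorem nondeg_Q0 (hab : ∀ z₁ z₂ : F₀, z₁ ^ 2 + a₀ * z₁ * z₂ + b₀ * z₂ ^ 2 = 0 → z₁ = 0 ∧ z₂ = 0) :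
    (QuadraticMap.polarBilin (reQ (minusForm F₀ n a₀ b₀) (idxEquiv n))).Nondegenerate :=
  nondeg_minusP hab

set_option maxHeartbeats 2000000 in
-- defeq checks on sum-indexed matrices are slow
/-- The number of classes in odd characteristic, from one rational similarity of nonsquare multiplier. -/
theorem relIndex_quadratic (hm : 3 ≤ n + 1) (hcard : Fintype.card F = Fintype.card F₀ ^ 2) (h2 : (2 : F) ≠ 0)
    {Q₀ : QuadraticForm F₀ (Fin (n + 1) ⊕ Fin (n + 1) → F₀)} (hQ₀ : (QuadraticMap.polarBilin Q₀).Nondegenerate)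
    (J : GL (Fin (n + 1) ⊕ Fin (n + 1)) F)
    (hJ : ∀ w, plusForm F (n + 1) (J.val *ᵥ (f ∘ w)) = ((1 : Fˣ) : F) * f (Q₀ w))
    (d : GO Q₀) (c : F₀ˣ) (u : Fˣ) (A : GL (Fin (n + 1)) F) (hdD : d ∈ Dg Q₀ (n + 1))
    (hdc : ∀ w, Q₀ (d.1.val *ᵥ w) = (c : F₀) * Q₀ w) (hcns : ¬ IsSquare (c : F₀))
    (hdA : embGO f J 1 hJ d = scalarGO (plusForm F (n + 1)) u * isoGO (plusForm F (n + 1)) (QForm.levi A)) :
    (IsSquare A.val.det →
      (omegaSub (plusForm F (n + 1)) ⊔ scalarSub (plusForm F (n + 1)) ⊔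
        (Dg Q₀ (n + 1)).map (embGO f J 1 hJ)).relIndex (Dg (plusForm F (n + 1)) (n + 1)) = 4) ∧
    (¬ IsSquare A.val.det →
      (omegaSub (plusForm F (n + 1)) ⊔ scalarSub (plusForm F (n + 1)) ⊔
        (Dg Q₀ (n + 1)).map (embGO f J 1 hJ)).relIndex (Dg (plusForm F (n + 1)) (n + 1)) = 2) := by
  classical
  have h20 : (2 : F₀) ≠ 0 := fun e => h2 (by rw [← map_ofNat f 2, e, map_zero])
  have hF : ringChar F ≠ 2 := fun h => h2 (by
    have : CharP F 2 := ringChar.of_eq h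
    exact CharTwo.two_eq_zero)
  have hF0 : ringChar F₀ ≠ 2 := fun h => h20 (by
    have : CharP F₀ 2 := ringChar.of_eq h
    exact CharTwo.two_eq_zero)
  have hn : Fintype.card (Fin (n + 1) ⊕ Fin (n + 1)) = 2 * (n + 1) := card_plus
  have E : EvenForm QP (n + 1) := ⟨h2, nondeg_plus, hn, hm⟩
  have E₀ : EvenForm Q₀ (n + 1) := ⟨h20, hQ₀, hn, hm⟩
  have hmod : Fintype.card F % 4 = 1 := by
    have h1 := FiniteField.odd_card_of_char_ne_two hF0
    obtain ⟨k, hk⟩ : ∃ k, Fintype.card F₀ = 2 * k + 1 := ⟨Fintype.card F₀ / 2, by omega⟩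
    rw [hcard, hk, show (2 * k + 1) ^ 2 = 4 * (k * k + k) + 1 by ring]
    omega
  have hneg : ClassicalSimple.NegOneOmega QP :=
    (ClassicalSimple.negOne_plus (Nat.odd_iff.2 (FiniteField.odd_card_of_char_ne_two hF))).2 (by omega)
  set emb := embGO f J 1 hJ
  set D := Dg QP (n + 1)
  set D₀ := Dg Q₀ (n + 1)
  set Z := omegaSub QP ⊔ scalarSub QP
  have hZ : Z.relIndex D = 4 := relIndex_omega_scalar E hneg
  have hd1 : emb d = scalarGO QP u * isoGO QP (QForm.levi A) := hdA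
  have hiff : emb d ∈ Z ↔ IsSquare A.val.det := by
    rw [hd1]
    constructor
    · intro h
      refine levi_mem_omega_of_mem hm E hneg ?_
      have h' := Z.mul_mem (Z.inv_mem (Subgroup.mem_sup_right (scalarGO_mem u) : scalarGO QP u ∈ Z)) h
      rwa [inv_mul_cancel_left] at h'
    · intro h
      exact Z.mul_mem (Subgroup.mem_sup_right (scalarGO_mem u)) (Subgroup.mem_sup_left
        ⟨QForm.levi A, (QForm.levi_mem_omega_iff (by omega) (Or.inr (by omega)) A).2 h, rfl⟩)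
  refine ⟨fun h => ?_, fun h => ?_⟩
  · suffices hle : D₀.map emb ≤ Z by rw [sup_eq_left.2 hle, hZ]
    rintro _ ⟨g, hg, rfl⟩
    rw [SetLike.mem_coe] at hg
    have hg' := hg
    simp only [D₀, Dg_odd _ _ h20] at hg'
    obtain ⟨e, he, -⟩ := hg'
    by_cases hsq : IsSquare (e : F₀)
    · exact emb_square_mem f J hJ E E₀ hcard even_two hg he hsq
    · have hgd : emb (g * d) ∈ Z := emb_square_mem f J hJ E E₀ hcard even_two
        (c := e * c) (mul_mem hg hdD) (fun w => by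
          rw [Subgroup.coe_mul, Units.val_mul, ← Matrix.mulVec_mulVec, he, hdc, Units.val_mul, mul_assoc])
        (by rw [Units.val_mul]; exact (QForm.isSquare_mul_nonsquare_iff e.ne_zero hcns).2 hsq)
      rw [map_mul] at hgd
      have h' := Z.mul_mem hgd (Z.inv_mem (hiff.2 h))
      rwa [mul_inv_cancel_right] at h'
  · set S := Z ⊔ D₀.map emb
    have hemD : D₀.map emb ≤ D := by
      rintro _ ⟨g, hg, rfl⟩
      exact (emb_mem_Dg_iff f J 1 hJ nondeg_plus hQ₀ hn hm g).2 hg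
    have hZD : Z ≤ D := sup_le omega_le_Dg (scalar_le_Dg hn)
    have hSD : S ≤ D := sup_le hZD hemD
    have hZS : Z ≤ S := le_sup_left
    have h1 : Z.relIndex S ≠ 1 := fun e => by
      rw [Subgroup.relIndex_eq_one] at e
      exact h (hiff.1 (e (Subgroup.mem_sup_right ⟨d, hdD, rfl⟩)))
    have h2' : S.relIndex D ≠ 1 := fun e => by
      rw [Subgroup.relIndex_eq_one] at e
      have hle : S ≤ (ClassicalSimple.multClass E).ker := by
        refine sup_le (sup_le ?_ ?_) ?_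
        · intro g hg
          rw [MonoidHom.mem_ker, ClassicalSimple.multClass_eq_one]
          have := (ClassicalSimple.mem_soSub E g).1 (ClassicalSimple.omegaSub_le_soSub E hg)
          rw [this.1]; exact IsSquare.one
        · intro g hg
          rw [MonoidHom.mem_ker, ClassicalSimple.multClass_eq_one]
          obtain ⟨s, -, hs, -⟩ := ClassicalSimple.scalar_classes E hg
          exact ⟨s, hs⟩
        · rintro _ ⟨g, -, rfl⟩
          rw [MonoidHom.mem_ker, ClassicalSimple.multClass_eq_one]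
          obtain ⟨e', he'⟩ := g.2
          rw [ClassicalSimple.mult_eq E (emb g) (f e') (emb_mult f J 1 hJ g he'),
            ← quadraticChar_one_iff_isSquare ((map_ne_zero f).2 e'.ne_zero), quadraticChar_map f hcard h2 e'.ne_zero]
          rcases quadraticChar_dichotomy e'.ne_zero with h | h <;> simp [h]
      obtain ⟨T⟩ := ClassicalSimple.twist_plus E
      obtain ⟨v, hv, -, hd, hmv⟩ := ClassicalSimple.exists_refl E
      have hT : ∀ g : GO QP, g ∈ D → IsSquare (ClassicalSimple.mult g : F) := fun g hg => by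
        have := hle (e hg)
        rwa [MonoidHom.mem_ker, ClassicalSimple.multClass_eq_one] at this
      refine T.nonsquare ?_
      rcases mem_or_refl_mul nondeg_plus hn hm T.g v hv with h3 | h3
      · exact hT _ h3
      · have h4 := hT _ h3
        rw [ClassicalSimple.mult_eq E (reflG v hv * T.g) (ClassicalSimple.mult T.g : F) (fun w => by
          rw [Subgroup.coe_mul, Units.val_mul, ← Matrix.mulVec_mulVec]
          exact ((mem_isometry_iff QP).1 (QForm.refl QP v hv).2 _).trans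
            (ClassicalSimple.mult_spec T.g w))] at h4
        exact h4
    have hmul := Subgroup.relIndex_mul_relIndex Z S D hZS hSD
    rw [hZ] at hmul
    have hdvd : S.relIndex D ∣ 2 ^ 2 := ⟨Z.relIndex S, by linarith⟩
    obtain ⟨i, hi, hSi⟩ := (Nat.dvd_prime_pow Nat.prime_two).1 hdvd
    rw [hSi] at hmul h2' ⊢
    interval_cases i <;> omega

set_option maxHeartbeats 2000000 in
-- defeq checks on sum-indexed matrices are slow
/-- The number of classes in odd characteristic. -/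
theorem relIndex_graph (hm : 3 ≤ n + 1) {σ : F ≃+* F} (hf : ∀ x : F, σ x = x ↔ x ∈ Set.range f)
    (hcard : Fintype.card F = Fintype.card F₀ ^ 2) (h2 : (2 : F) ≠ 0) (hσ2 : ∀ x, σ (σ x) = x)
    (hab : ∀ z₁ z₂ : F₀, z₁ ^ 2 + a₀ * z₁ * z₂ + b₀ * z₂ ^ 2 = 0 → z₁ = 0 ∧ z₂ = 0)
    (hθ : θ ^ 2 + f a₀ * θ + f b₀ = 0) (hσθ : σ θ = -f a₀ - θ) (hne : -f a₀ - θ ≠ θ) :
    ((Odd (n + 1) ∧ Fintype.card F₀ % 4 = 1) →
      (omegaSub (plusForm F (n + 1)) ⊔ scalarSub (plusForm F (n + 1)) ⊔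
        (Dg (reQ (minusForm F₀ n a₀ b₀) (idxEquiv n)) (n + 1)).map
          (embGO f (twistJ hne) 1 (graph_hJ f hθ hne))).relIndex (Dg (plusForm F (n + 1)) (n + 1)) = 4) ∧
    (¬ (Odd (n + 1) ∧ Fintype.card F₀ % 4 = 1) →
      (omegaSub (plusForm F (n + 1)) ⊔ scalarSub (plusForm F (n + 1)) ⊔
        (Dg (reQ (minusForm F₀ n a₀ b₀) (idxEquiv n)) (n + 1)).map
          (embGO f (twistJ hne) 1 (graph_hJ f hθ hne))).relIndex (Dg (plusForm F (n + 1)) (n + 1)) = 2) := by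
  obtain ⟨d, c, u, A, hdD, hdc, hcns, hdA, hA⟩ :=
    exists_levi_form (n := n) f hf hcard h2 hσ2 hab hθ hσθ hne
  rw [← hA]
  exact relIndex_quadratic f hm hcard h2 (nondeg_Q0 hab) _ (graph_hJ f hθ hne) d c u A hdD hdc hcns hdA

set_option maxHeartbeats 2000000 in
-- defeq checks on sum-indexed matrices are slow
theorem graphField_fun {p e : ℕ} [Fact p.Prime] (hF : Fintype.card F = p ^ e) (hm : 3 ≤ n + 1)
    (hΓ : gammaPOmega F ⇑(plusForm F (n + 1)) = ⊤) (Qf : (Fin (n + 1) ⊕ Fin (n + 1) → F) → F)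
    (hQf : ⇑QP = Qf) (F₀ : Type*) [Field F₀] [Fintype F₀]
    (Qf₀ : F₀ → F₀ → ((Fin n ⊕ Fin n) ⊕ Fin 2 → F₀) → F₀) (hQf₀ : (fun a b => ⇑(minusForm F₀ n a b)) = Qf₀) :
    let G := autSubgroupOf (fun β : MulAut (POmega F Qf) =>
        ∃ g : GL (Fin (n + 1) ⊕ Fin (n + 1)) F, g ∈ Geo.quadSimilarityGroup (F := F) Qf ∧
          PreservesSingularClasses Qf g.val ∧ IsInducedBySemilinearPOmega Qf g (RingEquiv.refl F) β)
    let P := fun x : MulAut (POmega F Qf) => ∃ (α γ φ : MulAut (POmega F Qf)) (σ : F ≃+* F)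
        (v : Fin (n + 1) ⊕ Fin (n + 1) → F) (rr : GL (Fin (n + 1) ⊕ Fin (n + 1)) F),
        σ ≠ RingEquiv.refl F ∧ Qf v ≠ 0 ∧ (∀ i, σ (v i) = v i) ∧
        rr.val = reflectionMatrix Qf v ∧
        IsInducedBySemilinearPOmega Qf rr (RingEquiv.refl F) γ ∧
        IsFieldAutPOmegaOf Qf σ φ ∧ α * x * α⁻¹ = γ * φ
    ∀ x : MulAut (POmega F Qf), P x → orderOf x = 2 → Fintype.card F₀ = p ^ (e / 2) →
      Even e ∧ (∀ y, P y → orderOf y = 2 → Cfsg.IsConjUnder G x y) ∧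
      (∃ a₀ b₀ : F₀, (∀ z₁ z₂ : F₀, z₁ ^ 2 + a₀ * z₁ * z₂ + b₀ * z₂ ^ 2 = 0 → z₁ = 0 ∧ z₂ = 0) ∧
        Nonempty (↥(G ⊓ Subgroup.centralizer {x}) ≃*
          ↥(autSubgroupOf (fun β : MulAut (POmega F₀ (Qf₀ a₀ b₀)) =>
          ∃ g : GL ((Fin n ⊕ Fin n) ⊕ Fin 2) F₀, g ∈ Geo.quadSimilarityGroup (F := F₀) (Qf₀ a₀ b₀) ∧
            PreservesSingularClassesMinus n a₀ b₀ g.val ∧
            IsInducedBySemilinearPOmega (Qf₀ a₀ b₀) g (RingEquiv.refl F₀) β)))) ∧
      (p = 2 → Cfsg.splitClassCount G (Cfsg.Inn (POmega F Qf)) x = 1) ∧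
      ((p ≠ 2 ∧ Odd (n + 1) ∧ p ^ (e / 2) % 4 = 1) → Cfsg.splitClassCount G (Cfsg.Inn (POmega F Qf)) x = 4) ∧
      ((p ≠ 2 ∧ ¬ (Odd (n + 1) ∧ p ^ (e / 2) % 4 = 1)) →
        Cfsg.splitClassCount G (Cfsg.Inn (POmega F Qf)) x = 2) := by
  subst hQf hQf₀
  classical
  intro G P x hx hxr hF₀
  have hG : G = (Dg QP (n + 1)).map (simAut QP) := inndiagPlus_eq hm
  clear_value G
  subst hG
  obtain ⟨α, γ, φ, σ, v, rr, hσ1, hv, hfix, hrr, hγ, hφ, he⟩ := hx
  obtain ⟨-, hσ, he⟩ := (exists_std_plus hm Nat.prime_two hxr).2 α γ φ σ v rr hσ1 hv hfix hrr hγ hφ he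
  have hQ : (QuadraticMap.polarBilin QP).Nondegenerate := nondeg_plus
  have hn : Fintype.card (Fin (n + 1) ⊕ Fin (n + 1)) = 2 * (n + 1) := card_plus
  set R := reflG (Q := QP) v hv
  have hR : R ∉ Dg QP (n + 1) := reflG_notMem hQ hn hm v hv
  obtain ⟨hdvd, hcard⟩ := FieldExt.orderOf_dvd_and_card hF σ
  rw [hσ] at hdvd hcard
  obtain ⟨f, hf⟩ := FieldExt.exists_ringHom_range (F₀ := F₀) σ (by rw [hF₀, hcard])
  have hcardF : Fintype.card F = Fintype.card F₀ ^ 2 := by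
    rw [hF, hF₀, ← pow_mul, Nat.div_mul_cancel hdvd]
  obtain ⟨a₀, b₀, hab⟩ := Semisimple.exists_binary_anisotropic (F := F₀)
  obtain ⟨θ, hθ⟩ : ∃ θ : F, θ ^ 2 + f a₀ * θ + f b₀ = 0 := by
    let := f.toAlgebra
    exact FieldExt.exists_root (FieldExt.finrank_eq_two hcardF) a₀ b₀
  obtain ⟨hσθ, hne⟩ := root_moved f hf hab hθ
  have hσσ : ∀ t, σ (σ t) = t := fun t => by
    have h := congrArg (fun g : F ≃+* F => g t) (pow_orderOf_eq_one σ)
    simpa [hσ, pow_two] using h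
  have hN := normal_Dg hQ hn hm hΓ
  have := inn_normal (X := POmega F ⇑QP)
  -- move to the standard element
  set z := simAut QP R * fieldA (fixes_plus σ)
  have hz : z ^ orderOf σ = 1 := by
    rw [hσ, ← he, conj_pow, ← hxr, pow_orderOf_eq_one, mul_one, mul_inv_cancel]
  have hconj := lang_plus hm σ R hz
  rw [stdS, if_neg hR] at hconj
  obtain ⟨h, -, hh⟩ := hconj
  set std := simAut QP (swapP n) * fieldA (fixes_plus σ)
  have hstd : std = (h⁻¹ * α) * x * (h⁻¹ * α)⁻¹ := by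
    rw [show (h⁻¹ * α) * x * (h⁻¹ * α)⁻¹ = h⁻¹ * (α * x * α⁻¹) * h by group, he]
    have hz' : z = h * std * h⁻¹ := hh
    show std = h⁻¹ * z * h
    rw [hz']
    group
  have hS : (swapP (F := F) n).1 * gmap σ (twistJ hne) = twistJ hne :=
    swapP_twist ((hf _).2 ⟨a₀, rfl⟩) hσθ hne
  have hQ₀ := nondeg_Q0 (n := n) hab
  have hcomap : (Dg QP (n + 1)).comap (embGO f (twistJ hne) 1 (graph_hJ f hθ hne)) =
      Dg (reQ (minusForm F₀ n a₀ b₀) (idxEquiv n)) (n + 1) :=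
    Subgroup.ext fun g => emb_mem_Dg_iff f _ 1 (graph_hJ f hθ hne) hQ hQ₀ hn hm g
  have hsplit : Cfsg.splitClassCount ((Dg QP (n + 1)).map (simAut QP)) (Cfsg.Inn (POmega F ⇑QP)) x =
      (omegaSub QP ⊔ scalarSub QP ⊔ (Dg (reQ (minusForm F₀ n a₀ b₀) (idxEquiv n)) (n + 1)).map
        (embGO f (twistJ hne) 1 (graph_hJ f hθ hne))).relIndex (Dg QP (n + 1)) := by
    rw [← AutPSL.splitClassCount_conj _ _ (by rw [ClassicalSimple.inn_eq]; exact Subgroup.map_mono omega_le_Dg)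
      (h⁻¹ * α) x, ← hstd,
      split_eq_relIndex (fixes_plus σ) hQ (by omega) f (twistJ hne) 1 (graph_hJ f hθ hne) hf (swapP n) hS _
        (scalar_le_Dg hn) omega_le_Dg, hcomap]
  refine ⟨even_iff_two_dvd.2 hdvd, ?_, ⟨a₀, b₀, hab, ?_⟩, ?_, ?_, ?_⟩
  · rintro y ⟨β, γ', φ', σ', v', rr', hσ1', hv', hfix', hrr', hγ', hφ', he'⟩ hyr
    obtain ⟨-, hσ', he'⟩ := (exists_std_plus hm Nat.prime_two hyr).2 β γ' φ' σ' v' rr' hσ1' hv' hfix' hrr' hγ' hφ' he'
    exact graphField_isConjUnder hm hΓ hσ hσ' hR (reflG_notMem hQ hn hm v' hv') he he' hxr hyr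
  · rw [inndiagMinus_eq (by omega) hab]
    obtain ⟨E⟩ := nonempty_centralizer_equiv (fixes_plus σ) hQ (by omega) f (twistJ hne) 1 (graph_hJ f hθ hne) hf
      (swapP n) hS hQ₀ (Dg QP (n + 1)) (scalar_le_Dg hn)
    rw [show simAut QP (swapP n) * fieldA (fixes_plus σ) = _ from hstd, hcomap] at E
    obtain ⟨E'⟩ := nonempty_map_reQ (idxEquiv n) (minusForm F₀ n a₀ b₀) (k := n + 1) (nondeg_minus hab) hQ₀
      (by rw [card_minus]; omega)
    exact ⟨(AutPSL.centralizerEquiv _ (h⁻¹ * α) x).trans (E.trans E')⟩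
  · intro hp
    have h2 : (2 : F) = 0 := by
      have := FiniteField.cast_card_eq_zero F
      rw [hF, hp, Nat.cast_pow] at this
      simpa using eq_zero_of_pow_eq_zero this
    rw [hsplit, Subgroup.relIndex_eq_one, Dg_two _ _ h2]
    exact le_sup_left
  all_goals
    rintro ⟨hp, hc⟩
    have h2 : (2 : F) ≠ 0 := fun h2 => hp (by
      have := charTwo_of h2
      obtain ⟨k, hk, hk'⟩ := FiniteField.card F 2
      rw [hF] at hk'
      have he0 : e ≠ 0 := fun h0 => by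
        have := Fintype.one_lt_card (α := F)
        rw [hF, h0, pow_zero] at this
        exact lt_irrefl _ this
      exact (Nat.prime_dvd_prime_iff_eq Fact.out Nat.prime_two).1 ((Fact.out : p.Prime).dvd_of_dvd_pow
        (hk' ▸ dvd_pow_self p he0)))
    rw [hsplit]
    rw [← hF₀] at hc
  · exact (relIndex_graph f hm hf hcardF h2 hσσ hab hθ hσθ hne).1 hc
  · exact (relIndex_graph f hm hf hcardF h2 hσσ hab hθ hσθ hne).2 hc

/-- The statement for involutory graph-field automorphisms. -/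
theorem graphField_omega_plus {p e : ℕ} [Fact p.Prime] (hF : Fintype.card F = p ^ e) {m : ℕ} (hm : 5 ≤ m)
    (x : MulAut (POmega F (quadFormPlus m F))) (hx : IsGraphFieldAutClassPOmegaPlus m x) (hx2 : orderOf x = 2)
    (F₀ : Type*) [Field F₀] [Fintype F₀] (hF₀ : Fintype.card F₀ = p ^ (e / 2)) :
    Even e ∧
    (∀ y : MulAut (POmega F (quadFormPlus m F)), IsGraphFieldAutClassPOmegaPlus m y → orderOf y = 2 →
      Cfsg.IsConjUnder (inndiagPOmegaPlus m F) x y) ∧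
    (∃ a₀ b₀ : F₀, (∀ z₁ z₂ : F₀, z₁ ^ 2 + a₀ * z₁ * z₂ + b₀ * z₂ ^ 2 = 0 → z₁ = 0 ∧ z₂ = 0) ∧
      Nonempty (↥(inndiagPOmegaPlus m F ⊓ Subgroup.centralizer {x}) ≃*
        ↥(inndiagPOmegaMinus (m - 1) F₀ a₀ b₀))) ∧
    (p = 2 → Cfsg.splitClassCount (inndiagPOmegaPlus m F) (Cfsg.Inn (POmega F (quadFormPlus m F))) x = 1) ∧
    ((p ≠ 2 ∧ Odd m ∧ p ^ (e / 2) % 4 = 1) →
      Cfsg.splitClassCount (inndiagPOmegaPlus m F) (Cfsg.Inn (POmega F (quadFormPlus m F))) x = 4) ∧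
    ((p ≠ 2 ∧ ¬ (Odd m ∧ p ^ (e / 2) % 4 = 1)) →
      Cfsg.splitClassCount (inndiagPOmegaPlus m F) (Cfsg.Inn (POmega F (quadFormPlus m F))) x = 2) := by
  obtain ⟨n, rfl⟩ : ∃ n, m = n + 1 := ⟨m - 1, by omega⟩
  have hΓ : gammaPOmega F ⇑(plusForm F (n + 1)) = ⊤ := by
    rw [QForm.coe_plusForm]; exact AutPOmega.gammaPOmega_plus hm
  exact graphField_fun hF (by omega) hΓ _ (QForm.coe_plusForm F (n + 1)) F₀ (fun a b => quadFormMinus n F₀ a b)
    (funext fun a => funext fun b => QForm.coe_minusForm F₀ n a b) x hx hx2 hF₀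

end Cfsg.Agent.AutPO
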