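import Cfsg.Agent.Lib.AutPO.Plus
import Cfsg.Agent.Lib.AutPSLOuter.Outer

/-!
Graph-field automorphisms of the hyperbolic orthogonal groups are central modulo the inner-diagonal group; the
involutory ones form one class.
-/

set_option autoImplicit false

namespace Cfsg.Agent.AutPO

open scoped Matrix MatrixGroups
open ClassicalSimple (GO simAut)
open QForm (plusForm)

variable {F : Type*} [Field F] [Fintype F]

theorem exists_ringAut_iso : ∃ f : ℕ, NeZero f ∧ Nonempty ((F ≃+* F) ≃* Multiplicative (ZMod f)) := by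
  obtain ⟨p, hp⟩ := CharP.exists F
  obtain ⟨f, hpp, hF⟩ := FiniteField.card F p
  have : Fact p.Prime := ⟨hpp⟩
  exact ⟨f, ⟨f.ne_zero⟩, AutPSLOuter.exists_fieldAut_iso f.pos hF⟩

/-- Automorphisms of a finite field commute. -/
theorem ringAut_comm (σ τ : F ≃+* F) : σ * τ = τ * σ := by
  obtain ⟨f, _, ⟨e⟩⟩ := exists_ringAut_iso (F := F)
  exact e.injective (by rw [map_mul, map_mul, mul_comm])

/-- A finite field has at most one automorphism of order two. -/
theorem ringAut_invol_unique {σ τ : F ≃+* F} (hσ : orderOf σ = 2) (hτ : orderOf τ = 2) : σ = τ := by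
  obtain ⟨f, hf, ⟨e⟩⟩ := exists_ringAut_iso (F := F)
  have key : ∀ ρ : F ≃+* F, orderOf ρ = 2 → 2 * (Multiplicative.toAdd (e ρ)).val = f := fun ρ hρ => by
    have h2 : (e ρ) * (e ρ) = 1 := by rw [← map_mul, ← pow_two, ← hρ, pow_orderOf_eq_one, map_one]
    have h1 : Multiplicative.toAdd (e ρ) ≠ 0 := fun h => by
      have : e ρ = 1 := Multiplicative.toAdd.injective h
      rw [map_eq_one_iff e e.injective] at this
      rw [this, orderOf_one] at hρ
      exact absurd hρ (by norm_num)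
    refine ((ZMod.neg_eq_self_iff _).1 ?_).resolve_left h1
    have h3 := congrArg Multiplicative.toAdd h2
    rw [toAdd_mul, toAdd_one] at h3
    exact neg_eq_of_add_eq_zero_left h3
  refine e.injective (Multiplicative.toAdd.injective (ZMod.val_injective f ?_))
  have := key σ hσ
  have := key τ hτ
  omega

variable {n : ℕ}

local notation "QP" => plusForm F (n + 1)

theorem fieldA_comm (σ τ : F ≃+* F) :
    fieldA (fixes_plus (m := n + 1) σ) * fieldA (fixes_plus τ) =
      fieldA (fixes_plus τ) * fieldA (fixes_plus σ) := by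
  refine MulEquiv.ext fun x => QuotientGroup.induction_on x fun s => ?_
  rw [MulAut.mul_apply, MulAut.mul_apply]
  simp only [fieldA, semiA_mk]
  refine congrArg _ (Subtype.ext (Subtype.ext ?_))
  show 1 * gmap σ (1 * gmap τ s.1.1 * 1⁻¹) * 1⁻¹ = 1 * gmap τ (1 * gmap σ s.1.1 * 1⁻¹) * 1⁻¹
  simp only [one_mul, inv_one, mul_one]
  rw [← gmap_mul, ← gmap_mul, ringAut_comm]

set_option maxHeartbeats 1000000 in
-- defeq checks on sum-indexed matrices are slow
/-- Twisted field automorphisms are central modulo the inner-diagonal group. -/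
theorem conj_std_mem (hm : 3 ≤ n + 1) (hΓ : gammaPOmega F ⇑(plusForm F (n + 1)) = ⊤)
    (γ : MulAut (POmega F ⇑(plusForm F (n + 1)))) (S : GO (plusForm F (n + 1))) (σ : F ≃+* F) :
    γ * (simAut _ S * fieldA (fixes_plus σ)) * γ⁻¹ * (simAut _ S * fieldA (fixes_plus σ))⁻¹ ∈
      (Dg (plusForm F (n + 1)) (n + 1)).map (simAut _) := by
  have hQ : (QuadraticMap.polarBilin QP).Nondegenerate := nondeg_plus
  have hn : Fintype.card (Fin (n + 1) ⊕ Fin (n + 1)) = 2 * (n + 1) := card_plus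
  have hN := normal_Dg hQ hn hm hΓ
  set N := (Dg QP (n + 1)).map (simAut QP)
  set z := simAut QP S * fieldA (fixes_plus σ)
  have hγ : γ ∈ gammaPOmega F ⇑QP := hΓ ▸ Subgroup.mem_top γ
  rw [gammaPOmega, autSubgroupOf] at hγ
  refine Subgroup.closure_induction (p := fun β _ => β * z * β⁻¹ * z⁻¹ ∈ N) ?_ ?_ ?_ ?_ hγ
  · rintro β ⟨g, τ, hp, hi⟩
    have hg : g ∈ GO QP := by
      obtain ⟨c, hc⟩ := id hp
      refine ⟨c, fun v => ?_⟩
      have h := hc (τ.symm ∘ v)
      rw [show (fun i => τ ((τ.symm ∘ v) i)) = v from funext fun i => τ.apply_symm_apply _,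
        ← fixes_plus (m := n + 1) τ,
        show ⇑τ ∘ (⇑τ.symm ∘ v) = v from funext fun i => τ.apply_symm_apply _] at h
      exact h
    set g' : GO QP := ⟨g, hg⟩
    have hβ : β = simAut QP g' * fieldA (fixes_plus τ) := by
      rw [eq_semiA hp hi, simAut_mul_fieldA]
    have e1 : β * z = simAut QP (g' * mapGO (fixes_plus τ) S) *
        (fieldA (fixes_plus τ) * fieldA (fixes_plus σ)) := by
      rw [hβ, map_mul]
      simp only [z, mul_assoc]
      rw [← mul_assoc (fieldA _) (simAut QP S), fieldA_mul_simAut, mul_assoc]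
    have e2 : z * β = simAut QP (S * mapGO (fixes_plus σ) g') *
        (fieldA (fixes_plus τ) * fieldA (fixes_plus σ)) := by
      rw [hβ, map_mul, fieldA_comm τ σ]
      simp only [z, mul_assoc]
      rw [← mul_assoc (fieldA _) (simAut QP g'), fieldA_mul_simAut, mul_assoc]
    have e3 : β * z * β⁻¹ * z⁻¹ =
        simAut QP (g' * mapGO (fixes_plus τ) S * (S * mapGO (fixes_plus σ) g')⁻¹) := by
      rw [show β * z * β⁻¹ * z⁻¹ = β * z * (z * β)⁻¹ by group, e1, e2, mul_inv_rev, map_mul _ (g' * _),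
        map_inv]
      group
    rw [e3]
    refine ⟨_, ?_, rfl⟩
    show g' * mapGO (fixes_plus τ) S * (S * mapGO (fixes_plus σ) g')⁻¹ ∈ Dg QP (n + 1)
    rw [mul_mem_Dg_iff hQ hn hm, inv_mem_iff, mul_mem_Dg_iff hQ hn hm, mul_mem_Dg_iff hQ hn hm,
      mapGO_mem_Dg_iff hQ hn hm, mapGO_mem_Dg_iff hQ hn hm]
    exact iff_comm
  · simp
  · intro a b _ _ ha hb
    rw [show a * b * z * (a * b)⁻¹ * z⁻¹ = a * (b * z * b⁻¹ * z⁻¹) * a⁻¹ * (a * z * a⁻¹ * z⁻¹) by group]
    exact N.mul_mem (hN.conj_mem _ hb a) ha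
  · intro a _ ha
    rw [show a⁻¹ * z * a⁻¹⁻¹ * z⁻¹ = (a⁻¹ * (a * z * a⁻¹ * z⁻¹) * a⁻¹⁻¹)⁻¹ by group]
    exact N.inv_mem (hN.conj_mem _ ha _)

set_option maxHeartbeats 1000000 in
-- defeq checks on sum-indexed matrices are slow
/-- Involutory graph-field automorphisms form one class under the inner-diagonal group. -/
theorem graphField_isConjUnder (hm : 3 ≤ n + 1) (hΓ : gammaPOmega F ⇑(plusForm F (n + 1)) = ⊤)
    {x y α β : MulAut (POmega F ⇑(plusForm F (n + 1)))} {σ σ' : F ≃+* F} {R R' : GO (plusForm F (n + 1))}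
    (hσ : orderOf σ = 2) (hσ' : orderOf σ' = 2) (hR : R ∉ Dg (plusForm F (n + 1)) (n + 1))
    (hR' : R' ∉ Dg (plusForm F (n + 1)) (n + 1)) (he : α * x * α⁻¹ = simAut _ R * fieldA (fixes_plus σ))
    (he' : β * y * β⁻¹ = simAut _ R' * fieldA (fixes_plus σ')) (hx : orderOf x = 2) (hy : orderOf y = 2) :
    Cfsg.IsConjUnder ((Dg (plusForm F (n + 1)) (n + 1)).map (simAut _)) x y := by
  obtain rfl := ringAut_invol_unique hσ hσ'
  have hQ : (QuadraticMap.polarBilin QP).Nondegenerate := nondeg_plus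
  have hn : Fintype.card (Fin (n + 1) ⊕ Fin (n + 1)) = 2 * (n + 1) := card_plus
  have hN := normal_Dg hQ hn hm hΓ
  set N := (Dg QP (n + 1)).map (simAut QP)
  set z := simAut QP R * fieldA (fixes_plus σ)
  have hs : simAut QP (R' * R⁻¹) ∈ N :=
    ⟨_, (mul_mem_Dg_iff hQ hn hm _ _).2 (iff_of_false hR' fun h => hR (inv_mem_iff.1 h)), rfl⟩
  have ey : y = β⁻¹ * (simAut QP (R' * R⁻¹) * z) * β := by
    rw [show y = β⁻¹ * (β * y * β⁻¹) * β by group, he', map_mul, map_inv]
    simp only [z]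
    group
  have ex : x = α⁻¹ * z * α := by
    rw [show x = α⁻¹ * (α * x * α⁻¹) * α by group, he]
  have hδ : y * x⁻¹ ∈ N := by
    have e : y * x⁻¹ = β⁻¹ * simAut QP (R' * R⁻¹) * β⁻¹⁻¹ * (β⁻¹ * z * β⁻¹⁻¹ * z⁻¹) *
        (α⁻¹ * z * α⁻¹⁻¹ * z⁻¹)⁻¹ := by
      rw [ey, ex]; group
    rw [e]
    exact N.mul_mem (N.mul_mem (hN.conj_mem _ hs _) (conj_std_mem hm hΓ β⁻¹ R σ))
      (N.inv_mem (conj_std_mem hm hΓ α⁻¹ R σ))
  have := orderOf_iff_std hm hΓ he hσ hx hδ
  rw [inv_mul_cancel_right] at this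
  exact this.1 hy

end Cfsg.Agent.AutPO
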