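import Cfsg.Agent.Lib.AutPO.Descent
import Cfsg.Agent.Lib.ClassicalSimple.PGOQuot

/-!
Lang's theorem for similarities: an element of order `r` in the coset of a field automorphism of order `r`
comes from a form over the fixed field.
-/

set_option autoImplicit false

namespace Cfsg.Agent.AutPO

open scoped Matrix MatrixGroups
open ClassicalSimple (GO simAut scalarSub scalarGO ker_simAut)

variable {ι : Type} [Fintype ι] [DecidableEq ι] {F : Type*} [Field F] [Fintype F]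
variable {Q : QuadraticForm F (ι → F)} {σ : F ≃+* F} (hσ : Fixes Q σ)

omit [Fintype F] in
theorem scalarGO_coe (c : Fˣ) : (scalarGO Q c).1 = scl c := rfl

omit [Fintype F] [Fintype ι] [DecidableEq ι] in
include hσ in
theorem Fixes.pow : ∀ k : ℕ, Fixes Q (σ ^ k)
  | 0 => fun v => rfl
  | k + 1 => fun v => by
    rw [pow_succ', RingAut.mul_apply, ← Fixes.pow k v, ← hσ]
    rfl

/-- The twisted norm inside the similarities. -/
def twGO (g : GO Q) : ℕ → GO Q
  | 0 => 1
  | k + 1 => g * mapGO hσ (twGO g k)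

omit [Fintype F] in
theorem twGO_coe (g : GO Q) : ∀ k, (twGO hσ g k).1 = twist σ g.1 k
  | 0 => rfl
  | k + 1 => by rw [twGO, Subgroup.coe_mul, mapGO_coe, twGO_coe g k, twist]

theorem simAut_mul_fieldA_pow (g : GO Q) : ∀ k,
    (simAut Q g * fieldA hσ) ^ k = simAut Q (twGO hσ g k) * fieldA hσ ^ k
  | 0 => by rw [pow_zero, pow_zero, twGO, map_one, one_mul]
  | k + 1 => by
    rw [pow_succ', simAut_mul_fieldA_pow g k, mul_assoc, ← mul_assoc (fieldA hσ), fieldA_mul_simAut,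
      mul_assoc, ← mul_assoc (simAut Q g), ← map_mul, ← pow_succ', twGO]

variable (hQ : (QuadraticMap.polarBilin Q).Nondegenerate) (h5 : 5 ≤ Fintype.card ι)

include hQ h5 in
theorem simAut_eq_iff {g h : GO Q} : simAut Q g = simAut Q h ↔ ∃ c : Fˣ, g.1 = h.1 * scl c := by
  rw [MonoidHom.eq_iff, ker_simAut Q hQ h5]
  constructor
  · rintro ⟨c, hc⟩
    have hc' : scl c = h.1⁻¹ * g.1 := hc
    exact ⟨c, by rw [hc', mul_inv_cancel_left]⟩
  · rintro ⟨c, hc⟩
    refine ⟨c, ?_⟩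
    show scl c = h.1⁻¹ * g.1
    rw [hc, inv_mul_cancel_left]

include hQ h5 in
theorem simAut_eq_of_scl {g h : GO Q} {c : Fˣ} (hc : g.1 = h.1 * scl c) : simAut Q g = simAut Q h :=
  (simAut_eq_iff hQ h5).2 ⟨c, hc⟩

include hQ h5 in
/-- An element of order dividing `r` in the coset of `fieldA` comes from a form over the fixed field. -/
theorem exists_twisted {r : ℕ} (hr : orderOf σ = r) (g : GO Q)
    (hg : (simAut Q g * fieldA hσ) ^ r = 1) {F₀ : Type*} [Field F₀] (f : F₀ →+* F)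
    (hf : ∀ x : F, σ x = x ↔ x ∈ Set.range f) :
    ∃ (z ν : Fˣ) (a : GL ι F) (Q₁ : QuadraticForm F₀ (ι → F₀)),
      g.1 * scl z * gmap σ a = a ∧ (QuadraticMap.polarBilin Q₁).Nondegenerate ∧
      ∀ w, Q (a.val *ᵥ (f ∘ w)) = (ν : F) * f (Q₁ w) := by
  have hne : Nonempty ι := Fintype.card_pos_iff.1 (by omega)
  have hr0 : 0 < r := hr ▸ FieldExt.orderOf_pos' σ
  have hσr : σ ^ r = 1 := hr ▸ pow_orderOf_eq_one σ
  rw [simAut_mul_fieldA_pow, fieldA_pow_eq_one hσ hσr, mul_one, ← map_one (simAut Q)] at hg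
  obtain ⟨c, hc⟩ := (simAut_eq_iff hQ h5).1 hg
  rw [twGO_coe, Subgroup.coe_one, one_mul] at hc
  obtain ⟨z, hz⟩ := FieldExt.exists_prod_eq σ hr0 hr c (twist_fixed σ hr g.1 c hc)
  set g1 : GO Q := g * scalarGO Q z⁻¹ with hg1
  have hg1c : g1.1 = g.1 * scl z⁻¹ := rfl
  have htw : twist σ g1.1 r = 1 := by
    rw [hg1c, twist_mul_scl, hc, ← map_mul, ← map_one (scl (ι := ι) (F := F))]
    congr 1
    simp only [map_inv, Finset.prod_inv_distrib, hz, mul_inv_cancel]
  obtain ⟨a, ha⟩ := exists_descent σ hr0 hr g1.1 htw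
  obtain ⟨μ, hμ⟩ := g1.2
  -- the multiplier on fixed vectors
  have hfix : ∀ v, σ ∘ v = v → Q (a.val *ᵥ v) = (μ : F) * σ (Q (a.val *ᵥ v)) := by
    intro v hv
    have e : g1.1.val *ᵥ (σ ∘ (a.val *ᵥ v)) = a.val *ᵥ v := by
      conv_lhs => rw [← gmap_mulVec, hv, Matrix.mulVec_mulVec, ← Units.val_mul, ha]
    conv_lhs => rw [← e, hμ, hσ]
  have hite : ∀ v, σ ∘ v = v → ∀ k, Q (a.val *ᵥ v) =
      (∏ i ∈ Finset.range k, (σ ^ i : F ≃+* F) (μ : F)) * (σ ^ k : F ≃+* F) (Q (a.val *ᵥ v)) := by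
    intro v hv k
    induction k with
    | zero => simp [RingAut.one_apply]
    | succ k ih =>
      conv_lhs => rw [ih, hfix v hv, map_mul]
      rw [Finset.prod_range_succ, pow_succ, RingAut.mul_apply, mul_assoc]
  have hrat : ∀ w : ι → F₀, σ ∘ (f ∘ w) = f ∘ w := fun w => funext fun i => (hf _).2 ⟨w i, rfl⟩
  let L := Matrix.toLin' a.val
  have hL : Function.Bijective L := by
    refine ⟨fun x y h => ?_, fun y => ⟨(a⁻¹).val *ᵥ y, ?_⟩⟩
    · have := congrArg (fun u => (a⁻¹).val *ᵥ u) h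
      simpa [L, Matrix.mulVec_mulVec, ← Units.val_mul] using this
    · simp [L, Matrix.mulVec_mulVec]
  have hnd : ∀ u : F, u ≠ 0 → (QuadraticMap.polarBilin (u • Q.comp L)).Nondegenerate := by
    intro u hu
    have hsep : ∀ x, (∀ y, QuadraticMap.polarBilin (u • Q.comp L) x y = 0) → x = 0 := fun x hx => by
      refine hL.1 ((hQ.1 (L x) fun y => ?_).trans (map_zero L).symm)
      obtain ⟨y, rfl⟩ := hL.2 y
      have := hx y
      simp only [QuadraticMap.polarBilin_apply_apply, QuadraticMap.polar, smul_apply,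
        QuadraticMap.comp_apply, map_add, smul_eq_mul] at this ⊢
      exact (mul_eq_zero.1 (by linear_combination this)).resolve_left hu
    exact ⟨hsep, fun y hy => hsep y fun x => by
      have := hy x
      rw [QuadraticMap.polarBilin_apply_apply, QuadraticMap.polar_comm] at this
      exact this⟩
  obtain ⟨w0, hw0⟩ := exists_value_rational f (hnd 1 one_ne_zero)
  have hw0' : Q (a.val *ᵥ (f ∘ w0)) ≠ 0 := by simpa [L] using hw0
  have hprod : ∏ i ∈ Finset.range r, Units.map ((σ ^ i : F ≃+* F) : F →* F) μ = 1 := by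
    refine Units.ext ?_
    rw [Units.coe_prod, Units.val_one]
    have := hite _ (hrat w0) r
    rw [hσr, RingAut.one_apply, eq_comm, mul_left_eq_self₀] at this
    simpa using this.resolve_right hw0'
  obtain ⟨ν, hν⟩ := FieldExt.exists_div_eq σ hr0 hr μ hprod
  have hν' : (μ : F) * σ (ν : F) = ν := congrArg Units.val hν
  obtain ⟨Q₁, hQ₁, hQ₁n⟩ := exists_restrict f ((ν⁻¹ : Fˣ).val • Q.comp L) (fun w => by
    refine (hf _).1 ?_
    have hsν : σ (ν : F) ≠ 0 := (map_ne_zero σ).2 ν.ne_zero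
    simp only [smul_apply, QuadraticMap.comp_apply, smul_eq_mul, L, Matrix.toLin'_apply,
      Units.val_inv_eq_inv_val, map_mul, map_inv₀]
    conv_rhs => rw [hfix _ (hrat w), ← hν', mul_inv, mul_mul_mul_comm, inv_mul_cancel₀ μ.ne_zero, one_mul]) (hnd _ (Units.ne_zero _))
  refine ⟨z⁻¹, ν, a, Q₁, ha, hQ₁n, fun w => ?_⟩
  rw [hQ₁]
  simp [L]

omit [Fintype F] in
/-- A similarity over the fixed field turns the twisted form into a standard one. -/
theorem exists_similar {F₀ : Type*} [Field F₀] (f : F₀ →+* F) {a : GL ι F} {ν : Fˣ}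
    {Q₁ : QuadraticForm F₀ (ι → F₀)} (ha : ∀ w, Q (a.val *ᵥ (f ∘ w)) = (ν : F) * f (Q₁ w))
    {Q₂ : QuadraticForm F (ι → F)} {Q₀ : QuadraticForm F₀ (ι → F₀)} (h₂ : ∀ w, Q₂ (f ∘ w) = f (Q₀ w))
    (e : (ι → F₀) ≃ₗ[F₀] (ι → F₀)) (c : F₀) (hc : c ≠ 0) (he : ∀ w, c * Q₀ (e w) = Q₁ w) :
    ∃ (b : GL ι F₀) (u : Fˣ), ∀ v, Q ((a * Matrix.GeneralLinearGroup.map f b).val *ᵥ v) = (u : F) * Q₂ v := by
  let b : GL ι F₀ := ⟨LinearMap.toMatrix' e.symm.toLinearMap, LinearMap.toMatrix' e.toLinearMap,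
    by rw [← LinearMap.toMatrix'_comp, e.symm_comp, LinearMap.toMatrix'_id],
    by rw [← LinearMap.toMatrix'_comp, e.comp_symm, LinearMap.toMatrix'_id]⟩
  set B := Matrix.GeneralLinearGroup.map f b
  refine ⟨b, ν * Units.mk0 (f c) ((map_ne_zero f).2 hc), ?_⟩
  have key : Q.comp (Matrix.toLin' (a * B).val) = ((ν : F) * f c) • Q₂ := by
    refine form_ext f fun w => ?_
    rw [smul_apply, QuadraticMap.comp_apply, Matrix.toLin'_apply, smul_eq_mul, h₂, Units.val_mul,
      ← Matrix.mulVec_mulVec]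
    have hb : B.val *ᵥ (f ∘ w) = f ∘ (e.symm w) := by
      funext i
      refine (RingHom.map_mulVec f _ w i).symm.trans ?_
      rw [Function.comp_apply]
      exact congrArg f (congrFun (LinearMap.toMatrix'_mulVec e.symm.toLinearMap w) i)
    rw [hb, ha, ← he, e.apply_symm_apply, map_mul, mul_assoc]
  intro v
  simpa [B] using congrArg (fun D : QuadraticForm F (ι → F) => D v) key

omit [Fintype F] in
theorem gmap_map {F₀ : Type*} [Field F₀] (f : F₀ →+* F) (hf : ∀ x, σ x = x ↔ x ∈ Set.range f) (b : GL ι F₀) :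
    gmap σ (Matrix.GeneralLinearGroup.map f b) = Matrix.GeneralLinearGroup.map f b :=
  Units.ext (Matrix.ext fun i j => (hf _).2 ⟨b.val i j, rfl⟩)

include hQ h5 in
/-- Conjugation to the standard element. -/
theorem conj_of_descended (g s k : GO Q) {z : Fˣ} (h : g.1 * scl z * gmap σ k.1 = k.1 * s.1) :
    simAut Q g * fieldA hσ = simAut Q k * (simAut Q s * fieldA hσ) * (simAut Q k)⁻¹ := by
  rw [← map_inv, ← mul_assoc, ← map_mul, mul_assoc, fieldA_mul_simAut, ← mul_assoc, ← map_mul]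
  congr 1
  refine simAut_eq_of_scl hQ h5 (c := z⁻¹) ?_
  rw [Subgroup.coe_mul, Subgroup.coe_mul, ← h, map_inv, InvMemClass.coe_inv, mapGO_coe, mul_inv_cancel_right,
    mul_assoc, ← map_mul, mul_inv_cancel, map_one, mul_one]

end Cfsg.Agent.AutPO
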