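import Cfsg.Agent.Lib.AutPO.Faithful
import Cfsg.Agent.Lib.AutPO.Singular
import Cfsg.Agent.Lib.QForm.Levi

/-!
Orders of field and graph-field automorphisms of the hyperbolic orthogonal groups.
-/

set_option autoImplicit false

namespace Cfsg.Agent.AutPO

open scoped Matrix MatrixGroups
open ClassicalSimple (GO simAut isometry_le_GO)
open QForm (plusForm)

variable {F : Type*} [Field F] {m : ℕ}

theorem fixes_plus (σ : F ≃+* F) : Fixes (plusForm F m) σ := fun v => plusForm_map σ.toRingHom v

/-- A transvection as an element of the general linear group. -/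
def tvGL {i j : Fin m} (hij : i ≠ j) (c : F) : GL (Fin m) F :=
  ⟨Matrix.transvection i j c, Matrix.transvection i j (-c),
    by rw [Matrix.transvection_mul_transvection_same _ _ hij, add_neg_cancel, Matrix.transvection_zero],
    by rw [Matrix.transvection_mul_transvection_same _ _ hij, neg_add_cancel, Matrix.transvection_zero]⟩

theorem tvGL_val {i j : Fin m} (hij : i ≠ j) (c : F) : (tvGL hij c).val = 1 + Matrix.single i j c := rfl

/-- A Levi transvection as a similarity. -/
noncomputable def leviT {i j : Fin m} (hij : i ≠ j) (c : F) : GO (plusForm F m) :=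
  Subgroup.inclusion (isometry_le_GO (plusForm F m)) (QForm.levi (tvGL hij c))

theorem leviT_val {i j : Fin m} (hij : i ≠ j) (c : F) :
    (leviT hij c).1.val =
      Matrix.fromBlocks (1 + Matrix.single i j c) 0 0 (1 + Matrix.single i j (-c))ᵀ := by
  show (QForm.levi (tvGL hij c)).1.val = _
  rw [QForm.coe_levi, ← Matrix.coe_units_inv]
  rfl

theorem leviT_mulVec {i j : Fin m} (hij : i ≠ j) (c : F) (u : Fin m ⊕ Fin m → F) :
    (leviT hij c).1.val *ᵥ u = Sum.elim (fun l => u (.inl l) + if l = i then c * u (.inl j) else 0)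
      (fun l => u (.inr l) - if l = j then c * u (.inr i) else 0) := by
  rw [leviT_val, Matrix.fromBlocks_mulVec]
  funext l
  rcases l with l | l
  · simp [Matrix.add_mulVec, Matrix.single_mulVec, Function.update_apply]
  · simp [Matrix.transpose_add, Matrix.transpose_single, Matrix.add_mulVec, Matrix.single_mulVec,
      Function.update_apply, sub_eq_add_neg]
    split <;> simp

theorem gmap_leviT (σ : F ≃+* F) {i j : Fin m} (hij : i ≠ j) : gmap σ (leviT hij (1 : F)).1 = (leviT hij 1).1 := by
  refine Units.ext ?_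
  rw [gmap_val, leviT_val, Matrix.fromBlocks_map, Matrix.transpose_map]
  congr 1 <;> ext a b <;> simp [Matrix.single_apply, Matrix.one_apply, apply_ite σ]

theorem leviT_comm {i j k : Fin m} (hij : i ≠ j) (hjk : j ≠ k) (hik : i ≠ k) :
    (leviT hij (1 : F)) * leviT hjk 1 = leviT hik 1 * (leviT hjk 1 * leviT hij 1) := by
  unfold leviT
  simp only [← map_mul]
  congr 2
  refine Units.ext ?_
  simp only [Units.val_mul, tvGL_val, mul_add, add_mul, one_mul, mul_one]
  have h1 : Matrix.single j k (1 : F) * Matrix.single i j (1 : F) = 0 :=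
    Matrix.single_mul_single_of_ne _ _ _ _ hik.symm _
  have h2 : Matrix.single i k (1 : F) * Matrix.single i j (1 : F) = 0 :=
    Matrix.single_mul_single_of_ne _ _ _ _ hik.symm _
  have h3 : Matrix.single i k (1 : F) * Matrix.single j k (1 : F) = 0 :=
    Matrix.single_mul_single_of_ne _ _ _ _ hjk.symm _
  simp only [h1, h2, h3, Matrix.single_mul_single_same, mul_zero, add_zero, mul_one]
  abel

variable [Fintype F]

omit [Fintype F] in
theorem rich_plus (hm : 3 ≤ m) (t : F) :
    ∃ (g : GO (plusForm F m)) (i₀ j₀ i j : Fin m ⊕ Fin m), g.1.val i₀ j₀ = 1 ∧ g.1.val i j = t := by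
  let i : Fin m := ⟨0, by omega⟩
  let j : Fin m := ⟨1, by omega⟩
  have hij : i ≠ j := by simp [i, j, Fin.ext_iff]
  refine ⟨leviT hij t, .inl i, .inl i, .inl i, .inl j, ?_, ?_⟩ <;> rw [leviT_val]
  · simp [hij.symm]
  · simp [hij]

theorem orderOf_fieldA_plus (hm : 3 ≤ m) (σ : F ≃+* F) :
    orderOf (fieldA (fixes_plus (m := m) σ)) = orderOf σ :=
  orderOf_fieldA _ nondeg_plus (by simp; omega) (rich_plus hm)

/-- No power of a standard field automorphism is a reflection. -/
theorem fieldA_pow_ne_refl (hm : 3 ≤ m) (σ : F ≃+* F) (k : ℕ) (v : Fin m ⊕ Fin m → F)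
    (hv : plusForm F m v ≠ 0) : fieldA (fixes_plus σ) ^ k ≠ simAut (plusForm F m) (reflG v hv) := by
  intro he
  set Q := plusForm F m
  have h5 : 5 ≤ Fintype.card (Fin m ⊕ Fin m) := by simp; omega
  set R : GO Q := reflG v hv
  -- the reflection commutes with rational transvections up to scalars
  have hc : ∀ {i j : Fin m} (hij : i ≠ j), ∃ c : Fˣ, R.1 * (leviT hij (1 : F)).1 = (leviT hij 1).1 * R.1 * scl c := by
    intro i j hij
    obtain ⟨h, hh, e⟩ := fieldA_pow_mul_simAut (fixes_plus σ) (leviT hij (1 : F)) k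
    rw [gmap_leviT] at hh
    rw [he, show h = leviT hij 1 from Subtype.ext hh, ← map_mul, ← map_mul] at e
    exact (simAut_eq_iff nondeg_plus h5).1 e
  have key : ∀ {i j l : Fin m}, i ≠ j → j ≠ l → ∀ (hil : i ≠ l),
      R.1 * (leviT hil (1 : F)).1 = (leviT hil 1).1 * R.1 := by
    intro i j l hij hjl hil
    obtain ⟨a, ha⟩ := hc hij
    obtain ⟨b, hb⟩ := hc hjl
    have e : (leviT hij (1 : F)).1 * (leviT hjl 1).1 * ((leviT hjl 1).1 * (leviT hij 1).1)⁻¹ = (leviT hil 1).1 := by
      rw [← Subgroup.coe_mul, ← Subgroup.coe_mul, ← InvMemClass.coe_inv, ← Subgroup.coe_mul,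
        leviT_comm hij hjl hil, mul_inv_cancel_right]
    have hX : ∀ (X : GL (Fin m ⊕ Fin m) F) (c : Fˣ), R.1 * X = X * R.1 * scl c →
        R.1 * X * R.1⁻¹ = X * scl c := fun X c h => by
      rw [h, mul_assoc X, ← scl_commute c R.1, ← mul_assoc, mul_inv_cancel_right]
    have e1 := hX _ a ha
    have e2 := hX _ b hb
    have : R.1 * (leviT hil (1 : F)).1 * R.1⁻¹ = (leviT hil 1).1 := by
      calc R.1 * (leviT hil (1 : F)).1 * R.1⁻¹
          = (R.1 * (leviT hij (1 : F)).1 * R.1⁻¹) * (R.1 * (leviT hjl 1).1 * R.1⁻¹) *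
              ((R.1 * (leviT hjl 1).1 * R.1⁻¹) * (R.1 * (leviT hij 1).1 * R.1⁻¹))⁻¹ := by rw [← e]; group
        _ = (leviT hij (1 : F)).1 * (leviT hjl 1).1 * ((leviT hjl 1).1 * (leviT hij 1).1)⁻¹ := by
          rw [e1, e2]
          have hab : ∀ (X Y : GL (Fin m ⊕ Fin m) F) (c d : Fˣ), X * scl c * (Y * scl d) = X * Y * scl (c * d) := by
            intro X Y c d
            rw [mul_assoc X, ← mul_assoc (scl c) Y, scl_commute c Y, mul_assoc Y, ← map_mul, mul_assoc]
          rw [hab, hab, mul_comm b a, mul_inv_rev ((leviT hjl (1 : F)).1 * _), ← mul_assoc, mul_inv_cancel_right]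
        _ = _ := e
    calc R.1 * (leviT hil (1 : F)).1 = R.1 * (leviT hil (1 : F)).1 * R.1⁻¹ * R.1 := by group
      _ = _ := by rw [this]
  -- every `y`-coordinate of the vector vanishes
  have hy : ∀ i : Fin m, v (.inr i) = 0 := by
    intro i
    obtain ⟨j, hji, l, hli, hlj⟩ : ∃ j, j ≠ i ∧ ∃ l, l ≠ i ∧ l ≠ j := by
      obtain ⟨j, hj⟩ := Finset.exists_mem_notMem_of_card_lt_card (s := ({i} : Finset (Fin m))) (t := Finset.univ)
        (by simp; omega)
      obtain ⟨l, hl⟩ := Finset.exists_mem_notMem_of_card_lt_card (s := ({i, j} : Finset (Fin m))) (t := Finset.univ)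
        (lt_of_le_of_lt (Finset.card_le_two) (by simp; omega))
      simp at hj hl
      exact ⟨j, hj, l, hl.1, hl.2⟩
    have h := congrArg (fun A : GL (Fin m ⊕ Fin m) F => A.val *ᵥ Pi.single (Sum.inl l) 1)
      (key (i := i) (j := j) (l := l) hji.symm hlj.symm hli.symm)
    simp only [Units.val_mul, ← Matrix.mulVec_mulVec] at h
    rw [show R.1.val = reflectionMatrix ⇑Q v from rfl, QForm.reflectionMatrix_mulVec] at h
    have hTe : (leviT hli.symm (1 : F)).1.val *ᵥ Pi.single (Sum.inl l) 1 =
        Pi.single (Sum.inl l) 1 + Pi.single (Sum.inl i) 1 := by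
      rw [leviT_mulVec]
      funext c
      rcases c with c | c <;> simp [Pi.single_apply]
    rw [hTe, QForm.reflectionMatrix_mulVec, ← QuadraticMap.polarBilin_apply_apply, map_add,
      QuadraticMap.polarBilin_apply_apply, QuadraticMap.polarBilin_apply_apply, Matrix.mulVec_sub, hTe,
      Matrix.mulVec_smul] at h
    have h2 := congrFun h (.inr i)
    simp only [Pi.sub_apply, Pi.add_apply, Pi.smul_apply, smul_eq_mul, leviT_mulVec, Sum.elim_inr, if_neg hli.symm,
      sub_zero] at h2
    have hp : ∀ a : Fin m, QuadraticMap.polar ⇑Q v (Pi.single (Sum.inl a) 1) = v (.inr a) := fun a => by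
      simp [Q, QForm.coe_plusForm, QForm.polar_plus, Pi.single_apply]
    rw [hp, hp] at h2
    have h0 : (Q v)⁻¹ * v (.inr i) * v (.inr i) = 0 := by linear_combination -h2
    rcases mul_eq_zero.1 h0 with h0 | h0
    · exact (mul_eq_zero.1 h0).resolve_left (inv_ne_zero hv)
    · exact h0
  apply hv
  show plusForm F m v = 0
  rw [QForm.plusForm_apply]
  exact Finset.sum_eq_zero fun i _ => by rw [hy i, mul_zero]

end Cfsg.Agent.AutPO
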