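import Cfsg.Agent.Lib.AutPO.Transport
import Cfsg.Agent.Lib.AutPO.PlusModel
import Cfsg.Agent.Lib.AutPO.PlusOrder
import Cfsg.Agent.Lib.Semisimple.OrthBlocks
import Cfsg.Agent.Lib.AutPOmega.Matrix

/-!
Field automorphisms of the elliptic orthogonal groups: classes in their cosets.
-/

set_option autoImplicit false

namespace Cfsg.Agent.AutPO

open scoped Matrix MatrixGroups
open ClassicalSimple (GO simAut scalarSub isometry_le_GO mem_isometry_iff)
open QForm (plusForm minusForm)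

variable {F : Type*} [Field F] {m : ℕ}

local notation "Im" => (Fin m ⊕ Fin m) ⊕ Fin 2

theorem fixes_minus {σ : F ≃+* F} {a b : F} (ha : σ a = a) (hb : σ b = b) : Fixes (minusForm F m a b) σ :=
  fun v => by
    have := minusForm_map σ.toRingHom (m := m) (a := a) (b := b) v
    rw [show σ.toRingHom a = a from ha, show σ.toRingHom b = b from hb] at this
    exact this

theorem minusBlock_mem {a b : F} {M : GL (Fin m ⊕ Fin m) F} (hM : ∀ w, plusForm F m (M.val *ᵥ w) = plusForm F m w)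
    (v : Im → F) : minusForm F m a b (Matrix.fromBlocks M.val 0 0 1 *ᵥ v) = minusForm F m a b v := by
  rw [Matrix.fromBlocks_mulVec, QForm.minusForm_apply, QForm.minusForm_apply]
  simp only [quadFormMinus, Sum.elim_inl, Sum.elim_inr, Matrix.zero_mulVec, add_zero, zero_add,
    Matrix.one_mulVec, Function.comp_apply]
  have h := hM (v ∘ Sum.inl)
  simp only [QForm.plusForm_apply, quadFormPlus] at h
  rw [h]
  rfl

theorem rich_minus (hm : 3 ≤ m) (a b : F) (t : F) :
    ∃ (g : GO (minusForm F m a b)) (i₀ j₀ i j : Im), g.1.val i₀ j₀ = 1 ∧ g.1.val i j = t := by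
  obtain ⟨x, i₀, j₀, i, j, h1, h2⟩ := rich_plus (F := F) hm t
  obtain ⟨l, l', hll⟩ : ∃ l l' : Fin m, l ≠ l' := ⟨⟨0, by omega⟩, ⟨1, by omega⟩, by simp [Fin.ext_iff]⟩
  let M : Matrix Im Im F := Matrix.fromBlocks (leviT hll t).1.val 0 0 1
  let M' : Matrix Im Im F := Matrix.fromBlocks (leviT hll t).1⁻¹.val 0 0 1
  have h12 : M * M' = 1 := by simp [M, M', Matrix.fromBlocks_multiply]
  have h21 : M' * M = 1 := by simp [M, M', Matrix.fromBlocks_multiply]
  have hiso : ∀ w, plusForm F m ((leviT hll t).1.val *ᵥ w) = plusForm F m w := fun w =>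
    (mem_isometry_iff (plusForm F m)).1 (QForm.levi (tvGL hll t)).2 w
  refine ⟨⟨⟨M, M', h12, h21⟩, 1, fun v => ?_⟩, .inr 0, .inr 0, .inl (.inl l), .inl (.inl l'), ?_, ?_⟩
  · rw [Units.val_one, one_mul]
    exact minusBlock_mem hiso v
  · show M _ _ = 1
    simp [M]
  · show M _ _ = t
    simp [M, leviT_val, hll]

section Iso

variable [Fintype F]

/-- Elliptic forms of the same dimension are isometric. -/
theorem exists_minus_iso {a b a' b' : F}
    (hab : ∀ z₁ z₂ : F, z₁ ^ 2 + a * z₁ * z₂ + b * z₂ ^ 2 = 0 → z₁ = 0 ∧ z₂ = 0)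
    (hab' : ∀ z₁ z₂ : F, z₁ ^ 2 + a' * z₁ * z₂ + b' * z₂ ^ 2 = 0 → z₁ = 0 ∧ z₂ = 0) :
    ∃ J : GL Im F, ∀ v, minusForm F m a' b' (J.val *ᵥ v) = ((1 : Fˣ) : F) * minusForm F m a b v := by
  obtain ⟨e, he⟩ := QForm.exists_binary_iso hab' hab
  let E := LinearEquiv.sumArrowLequivProdArrow (Fin m ⊕ Fin m) (Fin 2) F F
  let T := LinearEquiv.finTwoArrow F F
  refine ⟨toGL (E.trans (((LinearEquiv.refl F _).prodCongr (T.trans (e.trans T.symm))).trans E.symm)),
    fun v => ?_⟩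
  rw [toGL_mulVec, Units.val_one, one_mul, QForm.minusForm_apply, QForm.minusForm_apply]
  have h := he (v (.inr 0), v (.inr 1))
  simp only [Forms.binQ_apply] at h
  simp only [quadFormMinus, LinearEquiv.trans_apply, E, T]
  simp
  exact h

end Iso

variable [Fintype F]

/-- The automorphism has odd order. -/
theorem odd_of_fixed {σ : F ≃+* F} {a b : F}
    (hab : ∀ z₁ z₂ : F, z₁ ^ 2 + a * z₁ * z₂ + b * z₂ ^ 2 = 0 → z₁ = 0 ∧ z₂ = 0)
    (ha : σ a = a) (hb : σ b = b) {r : ℕ} (hr : r.Prime) (hσ : orderOf σ = r) : Odd r := by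
  refine hr.odd_of_ne_two fun h2 => ?_
  subst h2
  let : Fintype (FieldExt.fixedField σ) := Fintype.ofFinite _
  have hcard := FieldExt.card_fixedField_pow σ
  rw [hσ] at hcard
  have hfin : Module.finrank (FieldExt.fixedField σ) F = 2 := by
    have h := Module.card_eq_pow_finrank (K := FieldExt.fixedField σ) (V := F)
    rw [← hcard, Nat.card_eq_fintype_card] at h
    exact (Nat.pow_right_injective Fintype.one_lt_card h).symm
  obtain ⟨θ, hθ⟩ := FieldExt.exists_root hfin (⟨a, FieldExt.mem_fixedField.2 ha⟩)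
    (⟨b, FieldExt.mem_fixedField.2 hb⟩ : FieldExt.fixedField σ)
  have h0 := hab θ 1 (by
    change θ ^ 2 + a * θ + b = 0 at hθ
    linear_combination hθ)
  exact one_ne_zero h0.2

variable {a b : F}

local notation "QM" => minusForm F m a b

set_option maxHeartbeats 1000000 in
-- defeq checks on sum-indexed matrices are slow
/-- **Lang's theorem** for the elliptic orthogonal groups. -/
theorem lang_minus (hm : 3 ≤ m) (hab : ∀ z₁ z₂ : F, z₁ ^ 2 + a * z₁ * z₂ + b * z₂ ^ 2 = 0 → z₁ = 0 ∧ z₂ = 0)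
    {σ : F ≃+* F} (ha : σ a = a) (hb : σ b = b) (g : GO (minusForm F m a b))
    (hg : (simAut _ g * fieldA (fixes_minus ha hb)) ^ orderOf σ = 1) :
    Cfsg.IsConjUnder ((Dg (minusForm F m a b) (m + 1)).map (simAut _))
      (fieldA (fixes_minus ha hb)) (simAut _ g * fieldA (fixes_minus ha hb)) := by
  classical
  have hQ : (QuadraticMap.polarBilin QM).Nondegenerate := nondeg_minus hab
  have hcard : Fintype.card Im = 2 * (m + 1) := card_minus
  let : Fintype (FieldExt.fixedField σ) := Fintype.ofFinite _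
  set f := (FieldExt.fixedField σ).subtype
  have hf : ∀ x : F, σ x = x ↔ x ∈ Set.range f := fun x =>
    ⟨fun h => ⟨⟨x, FieldExt.mem_fixedField.2 h⟩, rfl⟩, fun ⟨y, hy⟩ => hy ▸ FieldExt.mem_fixedField.1 y.2⟩
  obtain ⟨a₀, ha₀⟩ := (hf a).1 ha
  obtain ⟨b₀, hb₀⟩ := (hf b).1 hb
  have hab₀ : ∀ z₁ z₂ : FieldExt.fixedField σ, z₁ ^ 2 + a₀ * z₁ * z₂ + b₀ * z₂ ^ 2 = 0 → z₁ = 0 ∧ z₂ = 0 := by
    intro z₁ z₂ hz
    have h := hab (f z₁) (f z₂) (by
      rw [← ha₀, ← hb₀]; simpa only [map_add, map_mul, map_pow, map_zero] using congrArg f hz)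
    exact ⟨f.injective (h.1.trans (map_zero f).symm), f.injective (h.2.trans (map_zero f).symm)⟩
  obtain ⟨z, ν, c, Q₁, hc, hQ₁n, hQ₁⟩ :=
    exists_twisted (fixes_minus ha hb) hQ (by omega) rfl g hg f hf
  subst ha₀ hb₀
  rcases QForm.exists_iso_plus_or_minus hab₀ (m + 1) Q₁ hQ₁n (by
      rw [Module.finrank_fintype_fun_eq_card, hcard]) with ⟨e, he⟩ | ⟨-, e, he⟩
  · exfalso
    let e' := e.trans (LinearEquiv.funCongrLeft _ _ (idxEquiv m))
    obtain ⟨B, u, hB⟩ := exists_similar f hQ₁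
      (Q₂ := (plusForm F (m + 1)).comp (LinearEquiv.funCongrLeft F F (idxEquiv m).symm).toLinearMap)
      (Q₀ := (plusForm (FieldExt.fixedField σ) (m + 1)).comp
        (LinearEquiv.funCongrLeft _ _ (idxEquiv m).symm).toLinearMap)
      (fun w => by
        simp only [QuadraticMap.comp_apply, LinearEquiv.coe_coe, LinearEquiv.funCongrLeft_apply]
        exact plusForm_map f (w ∘ (idxEquiv m).symm)) e' 1 one_ne_zero
      (fun w => by
        rw [one_mul, QuadraticMap.comp_apply, QForm.plusForm_apply, ← he]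
        congr 1
        funext i
        simp [e', LinearEquiv.funCongrLeft_apply, LinearMap.funLeft_apply])
    set A := c * Matrix.GeneralLinearGroup.map f B
    let L : (Fin (m + 1) ⊕ Fin (m + 1) → F) →ₗ[F] (Im → F) :=
      (Matrix.toLin' A.val).comp (LinearEquiv.funCongrLeft F F (idxEquiv m)).toLinearMap
    refine not_similar_plus_minus hab L (fun x y hxy => ?_) u fun v => ?_
    · refine (LinearEquiv.funCongrLeft F F (idxEquiv m)).injective ?_
      have h1 := congrArg (fun w => (A⁻¹).val *ᵥ w) hxy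
      simpa [L, Matrix.mulVec_mulVec] using h1
    · show minusForm F m _ _ (A.val *ᵥ _) = _
      rw [hB]
      congr 1
      simp only [QuadraticMap.comp_apply, LinearEquiv.coe_coe]
      congr 1
      funext i
      simp [LinearEquiv.funCongrLeft_apply, LinearMap.funLeft_apply]
  · obtain ⟨B, u, hB⟩ := exists_similar f hQ₁ (Q₂ := minusForm F m (f a₀) (f b₀))
      (Q₀ := minusForm (FieldExt.fixedField σ) m a₀ b₀)
      (fun w => minusForm_map f w) e 1 one_ne_zero
      (fun w => by rw [one_mul, QForm.minusForm_apply]; exact he w)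
    let h : GO (minusForm F m (f a₀) (f b₀)) := ⟨c * Matrix.GeneralLinearGroup.map f B, u, hB⟩
    have heq : g.1 * scl z * gmap σ h.1 = h.1 * (1 : GO (minusForm F m (f a₀) (f b₀))).1 := by
      rw [Subgroup.coe_one, mul_one, map_mul, gmap_map f hf, ← mul_assoc, hc]
    have key := isConjUnder_of_descended hQ hcard (by omega) (fixes_minus ha hb) f 1 1 (minusForm_map_one f)
      (nondeg_minus hab₀) hf 1 (by rw [map_one, Subgroup.coe_one, one_mul]) g h heq
    rwa [map_one, one_mul] at key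

/-- The data of a field automorphism of minus type, for the forms as quadratic forms. -/
theorem minus_std {a' b' : F} (hm : 3 ≤ m)
    (hab' : ∀ z₁ z₂ : F, z₁ ^ 2 + a' * z₁ * z₂ + b' * z₂ ^ 2 = 0 → z₁ = 0 ∧ z₂ = 0)
    {x : MulAut (POmega F ⇑(minusForm F m a b))}
    (ψ : POmega F ⇑(minusForm F m a b) ≃* POmega F ⇑(minusForm F m a' b')) {σ : F ≃+* F}
    (ha : σ a' = a') (hb : σ b' = b')
    (hφ : IsFieldAutPOmegaOf ⇑(minusForm F m a' b') σ ((ψ.symm.trans x).trans ψ)) :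
    MulAut.congr ψ x = fieldA (fixes_minus ha hb) ∧ orderOf x = orderOf σ := by
  have he : MulAut.congr ψ x = fieldA (fixes_minus ha hb) := by
    rw [← eq_fieldA (fixes_minus ha hb) hφ]
    rfl
  refine ⟨he, ?_⟩
  rw [← orderOf_fieldA (fixes_minus ha hb) (nondeg_minus hab') (by rw [card_minus]; omega)
    (rich_minus hm a' b'), ← he, MulEquiv.orderOf_eq]

set_option maxHeartbeats 1000000 in
-- defeq checks on sum-indexed matrices are slow
/-- Any identification of elliptic groups respects the inner-diagonal groups. -/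
theorem map_congr_inndiag {a' b' : F} (hm : 3 ≤ m)
    (hab : ∀ z₁ z₂ : F, z₁ ^ 2 + a * z₁ * z₂ + b * z₂ ^ 2 = 0 → z₁ = 0 ∧ z₂ = 0)
    (hab' : ∀ z₁ z₂ : F, z₁ ^ 2 + a' * z₁ * z₂ + b' * z₂ ^ 2 = 0 → z₁ = 0 ∧ z₂ = 0)
    (ψ : POmega F ⇑(minusForm F m a b) ≃* POmega F ⇑(minusForm F m a' b')) :
    ((Dg (minusForm F m a b) (m + 1)).map (simAut _)).map (MulAut.congr ψ).toMonoidHom =
      (Dg (minusForm F m a' b') (m + 1)).map (simAut _) := by
  have hΓ : gammaPOmega F ⇑(minusForm F m a' b') = ⊤ := by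
    rw [QForm.coe_minusForm]; exact AutPOmega.gammaPOmega_minus hm hab'
  have hk : 3 ≤ m + 1 := by omega
  have := normal_Dg (nondeg_minus hab') card_minus hk hΓ
  obtain ⟨J, hJ⟩ := exists_minus_iso (m := m) hab hab'
  exact map_congr_eq ψ (pomegaConj J 1 hJ)
    (map_congr_Dg J 1 hJ (nondeg_minus hab) (nondeg_minus hab') card_minus hk)

set_option maxHeartbeats 1000000 in
-- defeq checks on sum-indexed matrices are slow
theorem orderOf_iff_minus_fun (hm : 3 ≤ m)
    (Qf : F → F → ((Fin m ⊕ Fin m) ⊕ Fin 2 → F) → F) (hQf : (fun a b => ⇑(minusForm F m a b)) = Qf)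
    (hab : ∀ z₁ z₂ : F, z₁ ^ 2 + a * z₁ * z₂ + b * z₂ ^ 2 = 0 → z₁ = 0 ∧ z₂ = 0) :
    ∀ (x δ : MulAut (POmega F (Qf a b))),
      (∃ (a' b' : F) (ψ : POmega F (Qf a b) ≃* POmega F (Qf a' b')) (σ : F ≃+* F),
        (∀ z₁ z₂ : F, z₁ ^ 2 + a' * z₁ * z₂ + b' * z₂ ^ 2 = 0 → z₁ = 0 ∧ z₂ = 0) ∧
        σ ≠ RingEquiv.refl F ∧ σ a' = a' ∧ σ b' = b' ∧
        IsFieldAutPOmegaOf (Qf a' b') σ ((ψ.symm.trans x).trans ψ)) →
      ∀ r : ℕ, r.Prime → orderOf x = r →
      δ ∈ autSubgroupOf (fun β : MulAut (POmega F (Qf a b)) =>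
        ∃ g : GL ((Fin m ⊕ Fin m) ⊕ Fin 2) F, g ∈ Geo.quadSimilarityGroup (F := F) (Qf a b) ∧
          PreservesSingularClassesMinus m a b g.val ∧ IsInducedBySemilinearPOmega (Qf a b) g (RingEquiv.refl F) β) →
      (orderOf (δ * x) = r ↔ Cfsg.IsConjUnder (autSubgroupOf (fun β : MulAut (POmega F (Qf a b)) =>
        ∃ g : GL ((Fin m ⊕ Fin m) ⊕ Fin 2) F, g ∈ Geo.quadSimilarityGroup (F := F) (Qf a b) ∧
          PreservesSingularClassesMinus m a b g.val ∧ IsInducedBySemilinearPOmega (Qf a b) g (RingEquiv.refl F) β))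
        x (δ * x)) := by
  subst hQf
  intro x δ hx r hr hxr
  rw [inndiagMinus_eq (by omega) hab]
  intro hδ
  obtain ⟨a', b', ψ, σ, hab', -, ha, hb, hφ⟩ := hx
  obtain ⟨he, hord⟩ := minus_std hm hab' ψ ha hb hφ
  have hmap := map_congr_inndiag hm hab hab' ψ
  have hΓ : gammaPOmega F ⇑(minusForm F m a' b') = ⊤ := by
    rw [QForm.coe_minusForm]; exact AutPOmega.gammaPOmega_minus hm hab'
  have := normal_Dg (nondeg_minus hab') card_minus (by omega) hΓ
  rw [← isConjUnder_map_iff (MulAut.congr ψ), hmap, map_mul, ← (MulAut.congr ψ).orderOf_eq (δ * x), map_mul, he]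
  refine orderOf_iff_isConjUnder _ (α := 1) (by rw [one_mul, inv_one, mul_one])
    (by rw [← he, MulEquiv.orderOf_eq, hxr]) (hmap ▸ ⟨δ, hδ, rfl⟩) fun y hy hyr => ?_
  obtain ⟨g, -, rfl⟩ := hy
  exact lang_minus hm hab' ha hb g (by rwa [← hord, hxr])

/-- The class statement for field automorphisms of minus type. -/
theorem orderOf_iff_omega_minus (hm : 3 ≤ m)
    (hab : ∀ z₁ z₂ : F, z₁ ^ 2 + a * z₁ * z₂ + b * z₂ ^ 2 = 0 → z₁ = 0 ∧ z₂ = 0)
    (x δ : MulAut (POmega F (quadFormMinus m F a b))) (hx : IsFieldAutClassPOmegaMinus m x)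
    {r : ℕ} (hr : r.Prime) (hxr : orderOf x = r) (hδ : δ ∈ inndiagPOmegaMinus m F a b) :
    orderOf (δ * x) = r ↔ Cfsg.IsConjUnder (inndiagPOmegaMinus m F a b) x (δ * x) :=
  orderOf_iff_minus_fun hm (fun a b => quadFormMinus m F a b) (funext fun a => funext fun b => QForm.coe_minusForm F m a b)
    hab x δ hx r hr hxr hδ

end Cfsg.Agent.AutPO
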