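import Cfsg.Agent.Lib.AutPO.GraphBalance
import Cfsg.Agent.Lib.AutPO.Minus
import Cfsg.Agent.Lib.AutPO.Transport
import Cfsg.Agent.Lib.AutPOmega.OutMinus
import Cfsg.Agent.Lib.AutPOmega.SplitMinus

/-!
Local balance at the automorphisms outside `Inndiag` of the minus-type orthogonal groups.
-/

set_option autoImplicit false
set_option maxHeartbeats 1000000
set_option linter.unusedSectionVars false

namespace Cfsg.Agent.AutPO

open scoped Matrix MatrixGroups
open ClassicalSimple (GO simAut scalarSub omegaSub ker_simAut dsign)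
open QForm (minusForm)
open LocalBalance (fixK)
open AutPOmega (simAut_eq_semiA semi_GO)

section Transport

variable {G H : Type*} [Group G] [Group H] [Finite G]

/-- Both sides of the criterion are invariant under isomorphisms. -/
theorem balance_transport (ψ : G ≃* H) (A : Subgroup (MulAut G)) (hinn : ∀ k : G, MulAut.conj k ∈ A)
    (x : MulAut G) (p : ℕ) [Fact p.Prime] :
    (∀ k : H, MulAut.conj k ∈ A.map (MulAut.congr ψ).toMonoidHom) ∧
    (Cfsg.pPrimeCore p ↥(A ⊓ Subgroup.centralizer {x}) = ⊥ ↔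
      Cfsg.pPrimeCore p ↥(A.map (MulAut.congr ψ).toMonoidHom ⊓ Subgroup.centralizer {MulAut.congr ψ x}) = ⊥) ∧
    Nat.card (fixK (MulAut.congr ψ x)) = Nat.card (fixK x) := by
  haveI : Finite (MulAut G) := Finite.of_injective (fun e : MulAut G => (e : G → G)) DFunLike.coe_injective
  haveI : Finite H := Finite.of_equiv _ ψ.toEquiv
  haveI : Finite (MulAut H) := Finite.of_injective (fun e : MulAut H => (e : H → H)) DFunLike.coe_injective
  refine ⟨fun k => ⟨MulAut.conj (ψ.symm k), hinn _, MulEquiv.ext fun y => ?_⟩, ?_, ?_⟩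
  · obtain ⟨z, rfl⟩ := ψ.surjective y
    show MulAut.congr ψ (MulAut.conj (ψ.symm k)) (ψ z) = _
    rw [congr_apply_map, MulAut.conj_apply, MulAut.conj_apply, map_mul, map_mul, map_inv,
      MulEquiv.apply_symm_apply]
  · rw [← map_inf_centralizer_equiv, ← Subgroup.card_eq_one, ← Subgroup.card_eq_one,
      PCore.card_pPrimeCore_congr ((A ⊓ Subgroup.centralizer {x}).equivMapOfInjective
        (MulAut.congr ψ).toMonoidHom (MulAut.congr ψ).injective)]
  · refine (Nat.card_congr (Equiv.subtypeEquiv ψ.toEquiv fun y => ?_)).symm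
    show x y = y ↔ MulAut.congr ψ x (ψ y) = ψ y
    rw [congr_apply_map]
    exact ψ.injective.eq_iff.symm

end Transport

section Semi

variable {ι : Type} [Fintype ι] [DecidableEq ι] {F : Type*} [Field F] [Fintype F]
variable {Q Q' : QuadraticForm F (ι → F)} (J : GL ι F) (u : Fˣ) (hJ : ∀ v, Q' (J.val *ᵥ v) = (u : F) * Q v)
include hJ

theorem semi_congr {g : GL ι F} {σ : F ≃+* F} (hp : Semi Q g σ) : Semi Q' (J * g * gmap σ J⁻¹) σ := by
  obtain ⟨c, hc⟩ := hp
  refine ⟨u * c * Units.map (σ : F →* F) u⁻¹, fun v => ?_⟩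
  rw [show (fun i => σ (v i)) = σ ∘ v from rfl, Units.val_mul, ← Matrix.mulVec_mulVec, gmap_mulVec,
    Units.val_mul, ← Matrix.mulVec_mulVec, hJ,
    show Q (g.val *ᵥ (σ ∘ ((J⁻¹).val *ᵥ v))) = (c : F) * σ (Q ((J⁻¹).val *ᵥ v)) from hc _,
    inv_similarity J u hJ, map_mul]
  simp only [Units.val_mul, Units.coe_map, MonoidHom.coe_coe]
  ring

theorem congr_semiA {g : GL ι F} {σ : F ≃+* F} (hp : Semi Q g σ) :
    MulAut.congr (pomegaConj J u hJ) (semiA hp) = semiA (semi_congr J u hJ hp) := by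
  refine eq_semiA _ fun s s' e => ?_
  obtain ⟨t, rfl⟩ := (omegaConj J u hJ).surjective s
  rw [← pomegaConj_mk, congr_apply_map, semiA_mk, pomegaConj_mk]
  refine congrArg _ (Subtype.ext (Subtype.ext (Units.ext ?_)))
  rw [e, omegaConj_coe]
  show (J * (g * gmap σ t.1.1 * g⁻¹) * J⁻¹).val = _
  show _ = (J * g * gmap σ J⁻¹ * gmap σ (omegaConj J u hJ t).1.1 * (J * g * gmap σ J⁻¹)⁻¹).val
  rw [omegaConj_coe, map_mul, map_mul, map_inv]
  congr 1
  group

end Semi

variable {F : Type*} [Field F] [Fintype F] {m : ℕ}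

/-- An anisotropic plane with coefficients fixed by an automorphism of odd order. -/
theorem exists_fixed_plane (σ : F ≃+* F) {p : ℕ} (hp : Odd p) (hσ : σ ^ p = 1) :
    ∃ a b : F, σ a = a ∧ σ b = b ∧ ∀ z₁ z₂ : F, z₁ ^ 2 + a * z₁ * z₂ + b * z₂ ^ 2 = 0 → z₁ = 0 ∧ z₂ = 0 := by
  classical
  let : Fintype (FieldExt.fixedField σ) := Fintype.ofFinite _
  obtain ⟨b₀, hb₀⟩ : ∃ b₀ : FieldExt.fixedField σ, ∀ x : FieldExt.fixedField σ, x * x - x ≠ b₀ := by
    have hni : ¬ Function.Injective (fun x : FieldExt.fixedField σ => x * x - x) := fun hi =>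
      zero_ne_one (hi (a₁ := 0) (a₂ := 1) (by simp))
    have hns := mt Finite.surjective_iff_bijective.1 (fun h => hni h.1)
    simpa [Function.Surjective] using hns
  refine ⟨-1, -(b₀ : F), by rw [map_neg, map_one], by rw [map_neg, FieldExt.mem_fixedField.1 b₀.2],
    fun z₁ z₂ h => ?_⟩
  by_cases hz : z₂ = 0
  · subst hz
    exact ⟨pow_eq_zero_iff (two_ne_zero) |>.1 (by linear_combination h), rfl⟩
  exfalso
  set θ := z₁ / z₂
  have hθ : θ * θ - θ - (b₀ : F) = 0 := by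
    simp only [θ]; field_simp; linear_combination h
  have hσθ : (σ θ - θ) * (σ θ - (1 - θ)) = 0 := by
    have h' := congrArg σ hθ
    rw [map_sub, map_sub, map_mul, FieldExt.mem_fixedField.1 b₀.2, map_zero] at h'
    linear_combination h' - hθ
  have hfix : σ θ = θ := by
    rcases mul_eq_zero.1 hσθ with e | e
    · exact sub_eq_zero.1 e
    have e1 : σ θ = 1 - θ := sub_eq_zero.1 e
    obtain ⟨j, rfl⟩ := hp
    have e2 : ∀ n : ℕ, (σ ^ (2 * n) : F ≃+* F) θ = θ := by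
      intro n
      induction n with
      | zero => simp
      | succ n ih =>
        rw [show 2 * (n + 1) = 2 + 2 * n by ring, pow_add, RingAut.mul_apply, ih, pow_two, RingAut.mul_apply, e1,
          map_sub, map_one, e1, sub_sub_cancel]
    have e3 : (σ ^ (2 * j + 1) : F ≃+* F) θ = θ := by rw [hσ, RingAut.one_apply]
    rwa [pow_succ', RingAut.mul_apply, e2] at e3
  exact hb₀ ⟨θ, FieldExt.mem_fixedField.2 hfix⟩ (Subtype.ext (sub_eq_zero.1 hθ))

/-- The criterion at a standard field automorphism of minus type. -/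
theorem core_iff_minus_std (hm : 3 ≤ m) {a b : F}
    (hab : ∀ z₁ z₂ : F, z₁ ^ 2 + a * z₁ * z₂ + b * z₂ ^ 2 = 0 → z₁ = 0 ∧ z₂ = 0) {σ : F ≃+* F}
    (ha : σ a = a) (hb : σ b = b) {p : ℕ} [Fact p.Prime] (hσ : orderOf σ = p) (h2 : p ≠ 2)
    (A : Subgroup (MulAut (POmega F ⇑(minusForm F m a b)))) (hinn : ∀ k, MulAut.conj k ∈ A) :
    ¬ Cfsg.pPrimeCore p ↥(A ⊓ Subgroup.centralizer {fieldA (fixes_minus (m := m) ha hb)}) = ⊥ ↔
      p.Coprime (Nat.card (fixK (fieldA (fixes_minus (m := m) ha hb)))) := by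
  let : Fintype (FieldExt.fixedField σ) := Fintype.ofFinite _
  let f := (FieldExt.fixedField σ).subtype
  have hf : ∀ y : F, σ y = y ↔ y ∈ Set.range f := fun y =>
    ⟨fun h => ⟨⟨y, FieldExt.mem_fixedField.2 h⟩, rfl⟩, fun ⟨z, hz⟩ => hz ▸ FieldExt.mem_fixedField.1 z.2⟩
  obtain ⟨a₀, rfl⟩ := (hf a).1 ha
  obtain ⟨b₀, rfl⟩ := (hf b).1 hb
  have hab₀ : ∀ z₁ z₂ : FieldExt.fixedField σ, z₁ ^ 2 + a₀ * z₁ * z₂ + b₀ * z₂ ^ 2 = 0 → z₁ = 0 ∧ z₂ = 0 := by
    intro z₁ z₂ hz
    have h := hab (f z₁) (f z₂) (by simpa only [map_add, map_mul, map_pow, map_zero] using congrArg f hz)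
    exact ⟨f.injective (h.1.trans (map_zero f).symm), f.injective (h.2.trans (map_zero f).symm)⟩
  have h5 : 5 ≤ Fintype.card ((Fin m ⊕ Fin m) ⊕ Fin 2) := by simp; omega
  have hS : (1 : GO (minusForm F m (f a₀) (f b₀))).1 *
      gmap σ (1 : GL ((Fin m ⊕ Fin m) ⊕ Fin 2) F) = 1 := by rw [Subgroup.coe_one, map_one, one_mul]
  have key := core_ne_bot_iff_field (fixes_minus (m := m) ha hb) (nondeg_minus hab) h5 f
    (Q₀ := minusForm (FieldExt.fixedField σ) m a₀ b₀) 1 1 (minusForm_map_one f) hf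
    (1 : GO (minusForm F m (f a₀) (f b₀))) hS (nondeg_minus hab₀) (AutPOmega.autData_minus hm hab)
    (AutPOmega.autData_minus hm hab₀).probe hσ (fun e => absurd e h2) 1 A hinn
  rw [show (1 : MulAut (POmega F ⇑(minusForm F m (f a₀) (f b₀)))) *
      (simAut _ (1 : GO (minusForm F m (f a₀) (f b₀))) * fieldA (fixes_minus (m := m) ha hb)) * 1⁻¹ =
        fieldA (fixes_minus (m := m) ha hb) by rw [map_one, one_mul, one_mul, inv_one, mul_one]] at key
  exact key

/-- The criterion for the minus type. -/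
theorem balance_minus_fun {r : ℕ} [Fact r.Prime] [CharP F r] (hm : 3 ≤ m) (a b : F)
    (hab : ∀ z₁ z₂ : F, z₁ ^ 2 + a * z₁ * z₂ + b * z₂ ^ 2 = 0 → z₁ = 0 ∧ z₂ = 0)
    (Qf : F → F → ((Fin m ⊕ Fin m) ⊕ Fin 2 → F) → F) (hQf : (fun a b => ⇑(minusForm F m a b)) = Qf) :
    ∀ (A : Subgroup (MulAut (POmega F (Qf a b)))), (∀ k, MulAut.conj k ∈ A) →
      ∀ (p : ℕ) [Fact p.Prime], p ≠ r → ∀ x : MulAut (POmega F (Qf a b)), orderOf x = p →
      (¬ ∃ g : GL ((Fin m ⊕ Fin m) ⊕ Fin 2) F, g ∈ Geo.quadSimilarityGroup (F := F) (Qf a b) ∧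
          PreservesSingularClassesMinus m a b g.val ∧
          IsInducedBySemilinearPOmega (Qf a b) g (RingEquiv.refl F) x) →
      (Cfsg.pPrimeCore p ↥(A ⊓ Subgroup.centralizer {x}) ≠ ⊥ ↔
        ((∃ (a' b' : F) (ψ : POmega F (Qf a b) ≃* POmega F (Qf a' b')) (σ : F ≃+* F),
            (∀ z₁ z₂ : F, z₁ ^ 2 + a' * z₁ * z₂ + b' * z₂ ^ 2 = 0 → z₁ = 0 ∧ z₂ = 0) ∧
            σ ≠ RingEquiv.refl F ∧ σ a' = a' ∧ σ b' = b' ∧
            IsFieldAutPOmegaOf (Qf a' b') σ ((ψ.symm.trans x).trans ψ)) ∧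
          p.Coprime (Nat.card (fixK x)))) := by
  subst hQf
  intro A hinn p hpf hpr x hord hnot
  classical
  have hp : p.Prime := Fact.out
  have hr : r.Prime := Fact.out
  have D := AutPOmega.autData_minus (F := F) hm hab
  have hcard : Fintype.card ((Fin m ⊕ Fin m) ⊕ Fin 2) = 2 * (m + 1) := card_minus
  have hQ := nondeg_minus (m := m) hab
  have h5 : 5 ≤ Fintype.card ((Fin m ⊕ Fin m) ⊕ Fin 2) := by omega
  have hout : ∀ g : GO (minusForm F m a b), simAut _ g = x → g ∉ Dg (minusForm F m a b) (m + 1) := fun g hg h =>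
    hnot ⟨g.1, g.2, (preserves_minus_iff (by omega) hab g).2 h, (ClassicalSimple.induced_iff _ g.2).2 hg.symm⟩
  by_cases h2 : p = 2
  · subst h2
    have hr2 : r ≠ 2 := fun e => hpr e.symm
    have hodd : Odd (Fintype.card F) := by
      obtain ⟨n, -, hn⟩ := FiniteField.card F r
      rw [hn]; exact (hr.odd_of_ne_two hr2).pow
    have E := ClassicalSimple.evenForm_minus (a := a) (b := b) (m := m) hodd (by omega) hab
    have hxx : x * x = 1 := (pow_two x).symm.trans (orderOf_dvd_iff_pow_eq_one.1 (dvd_of_eq hord))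
    have hpgo := AutPOmega.mem_pgo_of_sq_minus hm hab hodd x hxx
    rw [ClassicalSimple.pgoAut_eq] at hpgo
    obtain ⟨g, rfl⟩ := hpgo
    have hgg : g * g ∈ scalarSub (minusForm F m a b) := by
      rw [← ker_simAut _ E.nondeg E.five, MonoidHom.mem_ker, map_mul, hxx]
    have hd : dsign (m + 1) g = -1 :=
      (ClassicalSimple.dsign_pm E g).resolve_left fun e => hout g rfl ((mem_Dg_iff_dsign E g).2 e)
    refine iff_of_false (not_not.2 (core_eq_bot_graph E D g (by omega) hgg hd A hinn)) ?_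
    rintro ⟨⟨a', b', ψ, σ, hab', -, ha, hb, hφ⟩, -⟩
    obtain ⟨-, he⟩ := minus_std hm hab' ψ ha hb hφ
    rw [hord] at he
    exact absurd (odd_of_fixed hab' ha hb hp he.symm) (by decide)
  · have hpodd : Odd p := hp.odd_of_ne_two h2
    obtain ⟨Γ, -, hΓ⟩ := AutPOmega.exists_galPart D
    obtain ⟨g, σ, hgp, rfl⟩ := D.pair x
    have hσp : σ ^ p = 1 := by
      rw [← hΓ g σ hgp, ← map_pow, ← hord, pow_orderOf_eq_one, map_one]
    have hσ1 : σ ≠ 1 := by
      intro e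
      subst e
      obtain ⟨c, hc⟩ := hgp
      set g' : GO (minusForm F m a b) := ⟨g, c, fun v => hc v⟩
      have hx : simAut _ g' = semiA (⟨c, hc⟩ : Semi (minusForm F m a b) g 1) :=
        (simAut_eq_semiA g').trans (semiA_eq_of rfl rfl _ _)
      have hpow : g' ^ p ∈ scalarSub (minusForm F m a b) := by
        rw [← ker_simAut _ hQ h5, MonoidHom.mem_ker, map_pow, hx, ← hord, pow_orderOf_eq_one]
      have hD : ∀ n : ℕ, Odd n → (g' ^ n ∈ Dg (minusForm F m a b) (m + 1) ↔ g' ∈ Dg (minusForm F m a b) (m + 1)) := by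
        rintro n ⟨j, rfl⟩
        have hsq : g' * g' ∈ Dg (minusForm F m a b) (m + 1) := (mul_mem_Dg_iff hQ hcard (by omega) _ _).2 Iff.rfl
        rw [pow_succ, pow_mul, pow_two]
        exact ⟨fun h => ((mul_mem_Dg_iff hQ hcard (by omega) _ _).1 h).1 (pow_mem hsq j),
          fun h => mul_mem (pow_mem hsq j) h⟩
      exact hout g' hx ((hD p hpodd).1 (scalar_le_Dg hcard hpow))
    have hσ : orderOf σ = p := orderOf_eq_prime hσp hσ1
    obtain ⟨a', b', ha, hb, hab'⟩ := exists_fixed_plane σ hpodd hσp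
    obtain ⟨J, hJ⟩ := exists_minus_iso (m := m) hab hab'
    set Q' := minusForm F m a' b' with hQ'def
    set ψ := pomegaConj (Q' := Q') J 1 hJ with hψ
    have hQ' := nondeg_minus (m := m) hab'
    have hfx : Fixes Q' σ := fixes_minus ha hb
    have hp' := semi_congr J 1 hJ hgp
    set g₁ := J * g * gmap σ J⁻¹
    have hg₁ : g₁ ∈ GO Q' := by
      obtain ⟨c, hc⟩ := hp'
      refine ⟨c, fun v => ?_⟩
      obtain ⟨w, rfl⟩ : ∃ w, σ ∘ w = v := ⟨σ.symm ∘ v, funext fun i => σ.apply_symm_apply _⟩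
      rw [hfx]
      exact hc w
    have hx' : MulAut.congr ψ (semiA hgp) = simAut Q' ⟨g₁, hg₁⟩ * fieldA hfx := by
      rw [hψ]
      exact (congr_semiA J 1 hJ hgp).trans (simAut_mul_fieldA hfx ⟨g₁, hg₁⟩).symm
    obtain ⟨h, -, hconj⟩ := lang_minus hm hab' ha hb ⟨g₁, hg₁⟩ (by
      rw [← hx', hσ, ← map_pow, ← hord, pow_orderOf_eq_one, map_one])
    rw [← hx'] at hconj
    set ψ₂ : POmega F ⇑(minusForm F m a b) ≃* POmega F ⇑Q' := ψ.trans h⁻¹
    have hx₂ : MulAut.congr ψ₂ (semiA hgp) = fieldA hfx := by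
      have e : MulAut.congr ψ₂ (semiA hgp) = h⁻¹ * MulAut.congr ψ (semiA hgp) * h := rfl
      rw [e, hconj]; group
    have hfield : ∃ (a' b' : F) (ψ : POmega F ⇑(minusForm F m a b) ≃* POmega F ⇑(minusForm F m a' b'))
        (σ : F ≃+* F), (∀ z₁ z₂ : F, z₁ ^ 2 + a' * z₁ * z₂ + b' * z₂ ^ 2 = 0 → z₁ = 0 ∧ z₂ = 0) ∧
          σ ≠ RingEquiv.refl F ∧ σ a' = a' ∧ σ b' = b' ∧
          IsFieldAutPOmegaOf ⇑(minusForm F m a' b') σ ((ψ.symm.trans (semiA hgp)).trans ψ) := by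
      refine ⟨a', b', ψ₂, σ, hab', hσ1, ha, hb, ?_⟩
      show IsFieldAutPOmegaOf ⇑Q' σ (MulAut.congr ψ₂ (semiA hgp))
      rw [hx₂]
      exact fun s s' e => isInduced_semiA (semi_one hfx) s s' (by simpa using e)
    rw [and_iff_right hfield]
    obtain ⟨hinn₂, hcore, hfix⟩ := balance_transport ψ₂ A hinn (semiA hgp) p
    rw [hx₂] at hcore hfix
    rw [← hfix, ne_eq, hcore]
    exact core_iff_minus_std hm hab' ha hb hσ h2 _ hinn₂

end Cfsg.Agent.AutPO
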