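import Cfsg.Agent.Lib.AutPO.Minus
import Cfsg.Agent.Lib.AutPO.Split

/-!
Centralisers and class splitting of field automorphisms of the elliptic orthogonal groups.
-/

set_option autoImplicit false

namespace Cfsg.Agent.AutPO

open scoped Matrix MatrixGroups
open ClassicalSimple (GO simAut scalarSub omegaSub)
open QForm (minusForm)

variable {F : Type*} [Field F] [Fintype F] {m : ℕ}

/-- Every inner-diagonal similarity is rational up to `Omega` and scalars when the degree is odd. -/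
theorem Dg_minus_le (hm : 3 ≤ m) {F₀ : Type*} [Field F₀] [Fintype F₀] (f : F₀ →+* F) {a₀ b₀ : F₀}
    (hab : ∀ z₁ z₂ : F, z₁ ^ 2 + f a₀ * z₁ * z₂ + f b₀ * z₂ ^ 2 = 0 → z₁ = 0 ∧ z₂ = 0)
    (hab₀ : ∀ z₁ z₂ : F₀, z₁ ^ 2 + a₀ * z₁ * z₂ + b₀ * z₂ ^ 2 = 0 → z₁ = 0 ∧ z₂ = 0)
    {r : ℕ} (hr : Fintype.card F = Fintype.card F₀ ^ r) (hodd : Odd r) :
    Dg (minusForm F m (f a₀) (f b₀)) (m + 1) ≤ omegaSub _ ⊔ scalarSub _ ⊔
      (Dg (minusForm F₀ m a₀ b₀) (m + 1)).map (embGO f 1 1 (minusForm_map_one f)) := by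
  classical
  by_cases h2 : (2 : F) = 0
  · rw [Dg_two _ _ h2]; exact le_sup_left
  · have h20 : (2 : F₀) ≠ 0 := fun e => h2 (by rw [← map_ofNat f 2, e, map_zero])
    have E : ClassicalSimple.EvenForm (minusForm F m (f a₀) (f b₀)) (m + 1) :=
      ⟨h2, nondeg_minus hab, card_minus, by omega⟩
    have E₀ : ClassicalSimple.EvenForm (minusForm F₀ m a₀ b₀) (m + 1) :=
      ⟨h20, nondeg_minus hab₀, card_minus, by omega⟩
    obtain ⟨T⟩ := ClassicalSimple.twist_minus E₀ hab₀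
    exact Dg_le_of_twist f (fun w => minusForm_map f w) E E₀ T hr hodd

set_option maxHeartbeats 2000000 in
-- defeq checks on sum-indexed matrices are slow
theorem field_minus_fun {p f : ℕ} [Fact p.Prime] (hF : Fintype.card F = p ^ f) (hm : 3 ≤ m) {a b : F}
    (hab : ∀ z₁ z₂ : F, z₁ ^ 2 + a * z₁ * z₂ + b * z₂ ^ 2 = 0 → z₁ = 0 ∧ z₂ = 0)
    (F₀ : Type*) [Field F₀] [Fintype F₀]
    (Qf : F → F → ((Fin m ⊕ Fin m) ⊕ Fin 2 → F) → F) (hQf : (fun a b => ⇑(minusForm F m a b)) = Qf)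
    (Qf₀ : F₀ → F₀ → ((Fin m ⊕ Fin m) ⊕ Fin 2 → F₀) → F₀)
    (hQf₀ : (fun a b => ⇑(minusForm F₀ m a b)) = Qf₀) :
    ∀ (x : MulAut (POmega F (Qf a b))),
      (∃ (a' b' : F) (ψ : POmega F (Qf a b) ≃* POmega F (Qf a' b')) (σ : F ≃+* F),
        (∀ z₁ z₂ : F, z₁ ^ 2 + a' * z₁ * z₂ + b' * z₂ ^ 2 = 0 → z₁ = 0 ∧ z₂ = 0) ∧
        σ ≠ RingEquiv.refl F ∧ σ a' = a' ∧ σ b' = b' ∧
        IsFieldAutPOmegaOf (Qf a' b') σ ((ψ.symm.trans x).trans ψ)) →
      ∀ r : ℕ, r.Prime → orderOf x = r → Fintype.card F₀ = p ^ (f / r) →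
      Odd r ∧ r ∣ f ∧
      (∃ a₀ b₀ : F₀, (∀ z₁ z₂ : F₀, z₁ ^ 2 + a₀ * z₁ * z₂ + b₀ * z₂ ^ 2 = 0 → z₁ = 0 ∧ z₂ = 0) ∧
        Nonempty (↥(autSubgroupOf (fun β : MulAut (POmega F (Qf a b)) =>
          ∃ g : GL ((Fin m ⊕ Fin m) ⊕ Fin 2) F, g ∈ Geo.quadSimilarityGroup (F := F) (Qf a b) ∧
            PreservesSingularClassesMinus m a b g.val ∧ IsInducedBySemilinearPOmega (Qf a b) g (RingEquiv.refl F) β)
            ⊓ Subgroup.centralizer {x}) ≃*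
          ↥(autSubgroupOf (fun β : MulAut (POmega F₀ (Qf₀ a₀ b₀)) =>
          ∃ g : GL ((Fin m ⊕ Fin m) ⊕ Fin 2) F₀, g ∈ Geo.quadSimilarityGroup (F := F₀) (Qf₀ a₀ b₀) ∧
            PreservesSingularClassesMinus m a₀ b₀ g.val ∧
            IsInducedBySemilinearPOmega (Qf₀ a₀ b₀) g (RingEquiv.refl F₀) β)))) ∧
      Cfsg.splitClassCount (autSubgroupOf (fun β : MulAut (POmega F (Qf a b)) =>
          ∃ g : GL ((Fin m ⊕ Fin m) ⊕ Fin 2) F, g ∈ Geo.quadSimilarityGroup (F := F) (Qf a b) ∧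
            PreservesSingularClassesMinus m a b g.val ∧ IsInducedBySemilinearPOmega (Qf a b) g (RingEquiv.refl F) β))
        (Cfsg.Inn (POmega F (Qf a b))) x = 1 := by
  subst hQf hQf₀
  intro x hx r hr hxr hF₀
  obtain ⟨a', b', ψ, σ, hab', -, ha, hb, hφ⟩ := hx
  obtain ⟨he, hord⟩ := minus_std hm hab' ψ ha hb hφ
  rw [hxr] at hord
  have hodd := odd_of_fixed hab' ha hb hr hord.symm
  obtain ⟨hdvd, hcard⟩ := FieldExt.orderOf_dvd_and_card hF σ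
  rw [← hord] at hdvd hcard
  obtain ⟨e, hfix⟩ := FieldExt.exists_ringHom_range (F₀ := F₀) σ (by rw [hF₀, hcard])
  have hcardF : Fintype.card F = Fintype.card F₀ ^ r := by
    rw [hF, hF₀, ← pow_mul, Nat.div_mul_cancel hdvd]
  obtain ⟨a₀, rfl⟩ := (hfix a').1 ha
  obtain ⟨b₀, rfl⟩ := (hfix b').1 hb
  have hab₀ : ∀ z₁ z₂ : F₀, z₁ ^ 2 + a₀ * z₁ * z₂ + b₀ * z₂ ^ 2 = 0 → z₁ = 0 ∧ z₂ = 0 := by
    intro z₁ z₂ hz
    have h := hab' (e z₁) (e z₂) (by simpa only [map_add, map_mul, map_pow, map_zero] using congrArg e hz)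
    exact ⟨e.injective (h.1.trans (map_zero e).symm), e.injective (h.2.trans (map_zero e).symm)⟩
  have hQ := nondeg_minus (m := m) hab'
  have hQ₀ := nondeg_minus (m := m) hab₀
  have hk : 3 ≤ m + 1 := by omega
  have hcard' : Fintype.card ((Fin m ⊕ Fin m) ⊕ Fin 2) = 2 * (m + 1) := card_minus
  set Q' := minusForm F m (e a₀) (e b₀)
  have hS : ((1 : GO Q')).1 * gmap σ (1 : GL ((Fin m ⊕ Fin m) ⊕ Fin 2) F) = 1 := by
    rw [map_one, Subgroup.coe_one, one_mul]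
  have hstd : simAut Q' 1 * fieldA (fixes_minus ha hb) = MulAut.congr ψ x := by rw [map_one, one_mul, he]
  have hmap := map_congr_inndiag hm hab hab' ψ
  have hcomap : (Dg Q' (m + 1)).comap (embGO e 1 1 (minusForm_map_one e)) = Dg (minusForm F₀ m a₀ b₀) (m + 1) :=
    Subgroup.ext fun g => emb_mem_Dg_iff e 1 1 (minusForm_map_one e) hQ hQ₀ hcard' hk g
  rw [inndiagMinus_eq (by omega) hab]
  refine ⟨hodd, hdvd, ⟨a₀, b₀, hab₀, ?_⟩, ?_⟩
  · rw [inndiagMinus_eq (by omega) hab₀]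
    obtain ⟨E⟩ := nonempty_centralizer_equiv (fixes_minus ha hb) hQ (by omega) e 1 1 (minusForm_map_one e) hfix 1
      hS hQ₀ (Dg Q' (m + 1)) (scalar_le_Dg hcard')
    rw [hstd, hcomap, ← hmap] at E
    exact ⟨((Subgroup.equivMapOfInjective _ (MulAut.congr ψ).toMonoidHom (MulAut.congr ψ).injective).trans
      (MulEquiv.subgroupCongr (map_inf_centralizer_equiv (MulAut.congr ψ) _ x))).trans E⟩
  · have := inn_normal (X := POmega F ⇑(minusForm F m a b))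
    have hinn : Cfsg.Inn (POmega F ⇑(minusForm F m a b)) ≤ (Dg (minusForm F m a b) (m + 1)).map (simAut _) := by
      rw [ClassicalSimple.inn_eq]; exact Subgroup.map_mono omega_le_Dg
    rw [← splitClassCount_map (MulAut.congr ψ) _ _ hinn, hmap, map_congr_inn, ← hstd,
      split_eq_relIndex (fixes_minus ha hb) hQ (by omega) e 1 1 (minusForm_map_one e) hfix 1 hS _
        (scalar_le_Dg hcard') omega_le_Dg, hcomap, Subgroup.relIndex_eq_one]
    exact Dg_minus_le hm e hab' hab₀ hcardF hodd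

/-- The statement for field automorphisms of minus type. -/
theorem field_omega_minus {p f : ℕ} [Fact p.Prime] (hF : Fintype.card F = p ^ f) (hm : 3 ≤ m) {a b : F}
    (hab : ∀ z₁ z₂ : F, z₁ ^ 2 + a * z₁ * z₂ + b * z₂ ^ 2 = 0 → z₁ = 0 ∧ z₂ = 0)
    (x : MulAut (POmega F (quadFormMinus m F a b))) (hx : IsFieldAutClassPOmegaMinus m x)
    {r : ℕ} (hr : r.Prime) (hxr : orderOf x = r) (F₀ : Type*) [Field F₀] [Fintype F₀]
    (hF₀ : Fintype.card F₀ = p ^ (f / r)) :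
    Odd r ∧ r ∣ f ∧
      (∃ a₀ b₀ : F₀, (∀ z₁ z₂ : F₀, z₁ ^ 2 + a₀ * z₁ * z₂ + b₀ * z₂ ^ 2 = 0 → z₁ = 0 ∧ z₂ = 0) ∧
        Nonempty (↥(inndiagPOmegaMinus m F a b ⊓ Subgroup.centralizer {x}) ≃*
          ↥(inndiagPOmegaMinus m F₀ a₀ b₀))) ∧
      Cfsg.splitClassCount (inndiagPOmegaMinus m F a b) (Cfsg.Inn (POmega F (quadFormMinus m F a b))) x = 1 :=
  field_minus_fun hF hm hab F₀ (fun a b => quadFormMinus m F a b)
    (funext fun a => funext fun b => QForm.coe_minusForm F m a b) (fun a b => quadFormMinus m F₀ a b)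
    (funext fun a => funext fun b => QForm.coe_minusForm F₀ m a b) x hx r hr hxr hF₀

end Cfsg.Agent.AutPO
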