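import Cfsg.Agent.Lib.AutPO.Faithful
import Cfsg.Agent.Lib.QForm.Classify
import Cfsg.Agent.Lib.QForm.OmegaOddInvolution

/-!
Field automorphisms of the odd-dimensional orthogonal groups.
-/

set_option autoImplicit false

namespace Cfsg.Agent.AutPO

open scoped Matrix MatrixGroups
open ClassicalSimple (GO simAut scalarSub isometry_le_GO pgoAut_eq)

variable {m : ℕ} {F : Type*} [Field F] [Fintype F]

local notation "Io" => Unit ⊕ (Fin m ⊕ Fin m)
local notation "QO" => Forms.quadOdd m F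

omit [Fintype F] in
theorem coe_quadOdd : ⇑(Forms.quadOdd m F) = quadFormOdd m F := funext fun v => Forms.quadOdd_apply v

omit [Fintype F] in
theorem quadFormOdd_map {K : Type*} [Field K] (f : K →+* F) (v : Io → K) :
    quadFormOdd m F (f ∘ v) = f (quadFormOdd m K v) := by
  simp [quadFormOdd, map_sum]

omit [Fintype F] in
theorem fixes_odd (σ : F ≃+* F) : Fixes QO σ := fun v => by
  rw [coe_quadOdd]
  exact quadFormOdd_map σ.toRingHom v

omit [Fintype F] in
theorem nondeg_odd (h2 : (2 : F) ≠ 0) : (QuadraticMap.polarBilin QO).Nondegenerate :=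
  Forms.quadOdd_nondegenerate h2 m

omit [Fintype F] in
theorem card_odd (hm : 3 ≤ m) : 5 ≤ Fintype.card Io := by
  simp only [Fintype.card_sum, Fintype.card_unit, Fintype.card_fin]
  omega

omit [Fintype F] in
theorem rich_odd (hm : 3 ≤ m) (t : F) :
    ∃ (g : GO QO) (i₀ j₀ i j : Io), g.1.val i₀ j₀ = 1 ∧ g.1.val i j = t := by
  let i : Fin m := ⟨0, by omega⟩
  let j : Fin m := ⟨1, by omega⟩
  have hij : i ≠ j := by simp [i, j, Fin.ext_iff]
  let a := QForm.OddInv.levi (F := F) hij t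
  have ha : a.1 ∈ isometryGroup F ⇑QO := by rw [coe_quadOdd]; exact a.2
  refine ⟨⟨a.1, isometry_le_GO QO ha⟩, .inl (), .inl (), .inr (.inl i), .inr (.inl j), ?_, ?_⟩
  · have h := congrFun (QForm.OddInv.act_levi (F := F) hij t (Pi.single (.inl ()) 1)) (.inl ())
    simpa [QForm.OddInv.act, QForm.OddInv.leviFun] using h
  · have h := congrFun (QForm.OddInv.act_levi (F := F) hij t (Pi.single (.inr (.inl j)) 1)) (.inr (.inl i))
    simpa [QForm.OddInv.act, QForm.OddInv.leviFun, hij] using h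

theorem orderOf_fieldA_odd (h2 : (2 : F) ≠ 0) (hm : 3 ≤ m) (σ : F ≃+* F) :
    orderOf (fieldA (fixes_odd (m := m) σ)) = orderOf σ :=
  orderOf_fieldA _ (nondeg_odd h2) (card_odd hm) (rich_odd hm)

/-- **Lang's theorem** in the coset of a field automorphism of `Omega_{2m+1}`. -/
theorem lang_odd (h2 : (2 : F) ≠ 0) (hm : 3 ≤ m) (σ : F ≃+* F) (g : GO QO)
    (hg : (simAut QO g * fieldA (fixes_odd σ)) ^ orderOf σ = 1) :
    Cfsg.IsConjUnder (pgoAut F ⇑QO) (fieldA (fixes_odd σ)) (simAut QO g * fieldA (fixes_odd σ)) := by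
  have hQ := nondeg_odd (m := m) h2
  let : Fintype (FieldExt.fixedField σ) := Fintype.ofFinite _
  set f := (FieldExt.fixedField σ).subtype
  have hf : ∀ x : F, σ x = x ↔ x ∈ Set.range f := fun x =>
    ⟨fun h => ⟨⟨x, FieldExt.mem_fixedField.2 h⟩, rfl⟩, fun ⟨y, hy⟩ => hy ▸ FieldExt.mem_fixedField.1 y.2⟩
  obtain ⟨z, ν, a, Q₁, ha, hQ₁n, hQ₁⟩ :=
    exists_twisted (fixes_odd σ) hQ (card_odd hm) rfl g hg f hf
  have h20 : (2 : FieldExt.fixedField σ) ≠ 0 := fun h => h2 (by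
    have := congrArg f h
    rwa [map_ofNat, map_zero] at this)
  obtain ⟨c, hc, e, he⟩ := QForm.exists_iso_odd h20 m Q₁ hQ₁n (by
    rw [Module.finrank_fintype_fun_eq_card]
    simp only [Fintype.card_sum, Fintype.card_unit, Fintype.card_fin]
    omega)
  obtain ⟨b, u, hb⟩ := exists_similar f hQ₁ (Q₂ := QO) (Q₀ := Forms.quadOdd m (FieldExt.fixedField σ))
    (fun w => by rw [Forms.quadOdd_apply, Forms.quadOdd_apply, quadFormOdd_map]) e c hc
    (fun w => by rw [Forms.quadOdd_apply]; exact he w)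
  let k : GO QO := ⟨a * Matrix.GeneralLinearGroup.map f b, u, hb⟩
  refine ⟨simAut QO k, by rw [pgoAut_eq]; exact ⟨k, rfl⟩, ?_⟩
  have h := conj_of_descended (fixes_odd σ) hQ (card_odd hm) g 1 k (z := z)
    (by rw [Subgroup.coe_one, mul_one, map_mul, gmap_map f hf, ← mul_assoc, ha])
  simpa using h

theorem normal_odd (hΓ : gammaPOmega F ⇑QO = ⊤) : (pgoAut F ⇑QO).Normal := by
  rw [pgoAut_eq, MonoidHom.range_eq_map]
  exact normal_of_gamma ⊤ hΓ fun g σ hp h _ => Subgroup.mem_top _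

/-- A field automorphism is conjugate to a standard one. -/
theorem exists_std_odd (h2 : (2 : F) ≠ 0) (hm : 3 ≤ m) {x : MulAut (POmega F ⇑QO)}
    (hx : IsFieldAutClassPOmega ⇑QO x) {r : ℕ} (hxr : orderOf x = r) :
    ∃ (α : MulAut (POmega F ⇑QO)) (σ : F ≃+* F), orderOf σ = r ∧ α * x * α⁻¹ = fieldA (fixes_odd σ) := by
  obtain ⟨α, φ, σ, -, hφ, he⟩ := hx
  rw [eq_fieldA (fixes_odd σ) hφ] at he
  exact ⟨α, σ, by rw [← orderOf_fieldA_odd (m := m) h2 hm σ, ← he, show α * x * α⁻¹ = MulAut.conj α x from rfl,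
    (MulAut.conj α).orderOf_eq, hxr], he⟩

theorem orderOf_iff_odd (h2 : (2 : F) ≠ 0) (hm : 3 ≤ m) (hΓ : gammaPOmega F ⇑QO = ⊤)
    (x δ : MulAut (POmega F ⇑QO)) (hx : IsFieldAutClassPOmega ⇑QO x) {r : ℕ} (hxr : orderOf x = r)
    (hδ : δ ∈ pgoAut F ⇑QO) :
    orderOf (δ * x) = r ↔ Cfsg.IsConjUnder (pgoAut F ⇑QO) x (δ * x) := by
  have := normal_odd hΓ
  obtain ⟨α, σ, hσr, he⟩ := exists_std_odd h2 hm hx hxr
  refine orderOf_iff_isConjUnder _ he hxr hδ fun y hy hyr => ?_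
  rw [pgoAut_eq] at hy
  obtain ⟨g, rfl⟩ := hy
  exact lang_odd h2 hm σ g (by rwa [hσr])

omit [Fintype F] in
theorem inndiagOdd_eq : inndiagPOmegaOdd m F = pgoAut F (quadFormOdd m F) := rfl

theorem two_ne_zero_odd (hodd : Odd (Fintype.card F)) : (2 : F) ≠ 0 := QForm.two_ne_zero_of_odd rfl hodd

/-- The class statement for field automorphisms, given that every automorphism is semilinear. -/
theorem orderOf_iff_omega_odd (hodd : Odd (Fintype.card F)) (hm : 3 ≤ m)
    (hΓ : gammaPOmega F (quadFormOdd m F) = ⊤) :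
    ∀ (x δ : MulAut (POmega F (quadFormOdd m F))), IsFieldAutClassPOmega (quadFormOdd m F) x →
      ∀ r : ℕ, orderOf x = r → δ ∈ inndiagPOmegaOdd m F →
      (orderOf (δ * x) = r ↔ Cfsg.IsConjUnder (inndiagPOmegaOdd m F) x (δ * x)) := by
  rw [inndiagOdd_eq]
  revert hΓ
  rw [← coe_quadOdd (m := m) (F := F)]
  exact fun hΓ x δ hx r hxr hδ => orderOf_iff_odd (two_ne_zero_odd hodd) hm hΓ x δ hx hxr hδ

end Cfsg.Agent.AutPO
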