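import Cfsg.Agent.Lib.AutPO.Class
import Cfsg.Agent.Lib.QForm.OmegaQuot

/-!
Reflections, sphere signs and square classes along an extension of finite fields.
-/

set_option autoImplicit false

namespace Cfsg.Agent.AutPO

open scoped Matrix MatrixGroups
open ClassicalSimple (GO mem_isometry_iff)
open QForm (sphereSign)

variable {ι : Type} [Fintype ι] [DecidableEq ι] {F : Type*} [Field F]
variable {F₀ : Type*} [Field F₀] (f : F₀ →+* F)
variable {Q : QuadraticForm F (ι → F)} {Q₀ : QuadraticForm F₀ (ι → F₀)}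

section

variable (h : ∀ w, Q (f ∘ w) = f (Q₀ w))
include h

theorem reflectionMatrix_map (v : ι → F₀) :
    (reflectionMatrix ⇑Q₀ v).map f = reflectionMatrix ⇑Q (f ∘ v) := by
  have hp : polarVec ⇑Q (f ∘ v) = f ∘ polarVec ⇑Q₀ v := funext fun j => by
    simp only [polarVec, Function.comp_apply, QuadraticMap.polar]
    rw [single_eq_comp f, ← comp_add, h, h, h, map_sub, map_sub]
  ext i j
  rcases eq_or_ne i j with rfl | hij <;>
    simp [reflectionMatrix, Matrix.vecMulVec_apply, hp, h, map_inv₀, *]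

theorem prod_reflection_map (vs : List (ι → F₀)) :
    ((vs.map fun v => reflectionMatrix ⇑Q₀ v).prod).map f =
      ((vs.map fun v => f ∘ v).map fun v => reflectionMatrix ⇑Q v).prod := by
  induction vs with
  | nil => exact Matrix.map_one _ (map_zero f) (map_one f)
  | cons v vs ih =>
    simp only [List.map_cons, List.prod_cons, Matrix.map_mul, ih, reflectionMatrix_map f h]

theorem map_mem_isometry (g : isometryGroup F₀ ⇑Q₀) :
    Matrix.GeneralLinearGroup.map f g.1 ∈ isometryGroup F ⇑Q := by
  have key : Q.comp (Matrix.toLin' (Matrix.GeneralLinearGroup.map f g.1).val) = Q := by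
    refine form_ext f fun w => ?_
    rw [QuadraticMap.comp_apply, Matrix.toLin'_apply, h,
      show (Matrix.GeneralLinearGroup.map f g.1).val *ᵥ (f ∘ w) = f ∘ (g.1.val *ᵥ w) from
        funext fun i => (RingHom.map_mulVec f g.1.val w i).symm, h, (mem_isometry_iff Q₀).1 g.2]
  refine (mem_isometry_iff Q).2 fun v => ?_
  simpa using congrArg (fun D : QuadraticForm F (ι → F) => D v) key

/-- Isometries over the subfield. -/
def mapIso : isometryGroup F₀ ⇑Q₀ →* isometryGroup F ⇑Q where
  toFun g := ⟨_, map_mem_isometry f h g⟩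
  map_one' := Subtype.ext (map_one _)
  map_mul' a b := Subtype.ext (map_mul _ _ _)

theorem mapIso_coe (g : isometryGroup F₀ ⇑Q₀) : (mapIso f h g).1 = Matrix.GeneralLinearGroup.map f g.1 := rfl

theorem det_mapIso (g : isometryGroup F₀ ⇑Q₀) : (mapIso f h g).1.val.det = f g.1.val.det :=
  (RingHom.map_det f g.1.val).symm

end

variable [Fintype F] [Fintype F₀] [DecidableEq F] [DecidableEq F₀] {r : ℕ}

/-- The quadratic character along an extension of degree `r`. -/
theorem quadraticChar_map (hr : Fintype.card F = Fintype.card F₀ ^ r) (h2 : (2 : F) ≠ 0) {a : F₀} (ha : a ≠ 0) :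
    quadraticChar F (f a) = quadraticChar F₀ a ^ r := by
  set q := Fintype.card F₀
  have hF : ringChar F ≠ 2 := fun hc => h2 (by
    have : CharP F 2 := ringChar.of_eq hc
    exact CharTwo.two_eq_zero)
  have h20 : (2 : F₀) ≠ 0 := fun e => h2 (by rw [← map_ofNat f 2, e, map_zero])
  have hF0 : ringChar F₀ ≠ 2 := fun hc => h20 (by
    have : CharP F₀ 2 := ringChar.of_eq hc
    exact CharTwo.two_eq_zero)
  have hq : 1 < q := Fintype.one_lt_card
  have hqodd : q % 2 = 1 := FiniteField.odd_card_of_char_ne_two hF0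
  have hexp : Fintype.card F / 2 = q / 2 * ∑ i ∈ Finset.range r, q ^ i := by
    obtain ⟨k, hk⟩ : ∃ k, q = 2 * k + 1 := ⟨q / 2, by omega⟩
    have hg : (∑ i ∈ Finset.range r, q ^ i) * (q - 1) + 1 = q ^ r := by
      clear_value q
      subst hk
      exact geom_sum_mul_add (2 * k) r
    rw [hr, ← hg, hk, show (2 * k + 1) / 2 = k by omega, show 2 * k + 1 - 1 = 2 * k by omega,
      show (∑ i ∈ Finset.range r, (2 * k + 1) ^ i) * (2 * k) + 1 =
        2 * (k * ∑ i ∈ Finset.range r, (2 * k + 1) ^ i) + 1 by ring]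
    omega
  have hpar : (∑ i ∈ Finset.range r, q ^ i) % 2 = r % 2 := by
    rw [Finset.sum_nat_mod, Finset.sum_congr rfl fun i _ => Nat.odd_iff.1 ((Nat.odd_iff.2 hqodd).pow (n := i))]
    simp
  have hfa : f a ≠ 0 := (map_ne_zero f).2 ha
  rcases quadraticChar_dichotomy ha with h1 | h1
  · rw [h1, one_pow, quadraticChar_one_iff_isSquare hfa]
    exact ((quadraticChar_one_iff_isSquare ha).1 h1).map f
  · have ha1 : a ^ (q / 2) = -1 := by
      rcases FiniteField.pow_dichotomy hF0 ha with e | e
      · rw [(quadraticChar_one_iff_isSquare ha).2 ((FiniteField.isSquare_iff hF0 ha).2 e)] at h1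
        exact absurd h1 (by norm_num)
      · exact e
    have hne : (-1 : F) ≠ 1 := Ring.neg_one_ne_one_of_char_ne_two hF
    rw [h1]
    have hfpow : f a ^ (Fintype.card F / 2) = (-1) ^ (r % 2) := by
      rw [hexp, pow_mul, ← map_pow, ha1, map_neg, map_one, ← hpar, ← neg_one_pow_eq_pow_mod_two]
    rcases Nat.mod_two_eq_zero_or_one r with e | e
    · rw [e, pow_zero] at hfpow
      rw [(Nat.even_iff.2 e).neg_one_pow, quadraticChar_one_iff_isSquare hfa, FiniteField.isSquare_iff hF hfa, hfpow]
    · rw [e, pow_one] at hfpow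
      rw [(Nat.odd_iff.2 e).neg_one_pow, quadraticChar_neg_one_iff_not_isSquare,
        FiniteField.isSquare_iff hF hfa, hfpow]
      exact hne

variable (h : ∀ w, Q (f ∘ w) = f (Q₀ w))
include h

/-- The sphere sign along an extension of degree `r`. -/
theorem sphereSign_mapIso (hr : Fintype.card F = Fintype.card F₀ ^ r) (h2 : (2 : F) ≠ 0)
    (hQ₀ : (QuadraticMap.polarBilin Q₀).Nondegenerate) (g : isometryGroup F₀ ⇑Q₀) :
    (Odd r → sphereSign Q (mapIso f h g) = sphereSign Q₀ g) ∧
      (Even r → g.1.val.det = 1 → sphereSign Q (mapIso f h g) = 1) := by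
  have h20 : (2 : F₀) ≠ 0 := fun e => h2 (by rw [← map_ofNat f 2, e, map_zero])
  have hcard : Fintype.card F₀ ≠ 2 := fun hc => h20 (by
    have : ((2 : ℕ) : F₀) = 0 := by rw [← hc, FiniteField.cast_card_eq_zero]
    exact_mod_cast this)
  obtain ⟨vs, hvs, hg⟩ := QForm.exists_list hQ₀ (Or.inl hcard) g
  obtain ⟨h1, h3⟩ := QForm.invariants_of_prod h20 vs hvs g hg
  have hvs' : ∀ v ∈ vs.map (fun v => f ∘ v), Q v ≠ 0 := by
    intro v hv
    obtain ⟨w, hw, rfl⟩ := List.mem_map.1 hv
    rw [h]
    exact (map_ne_zero f).2 (hvs w hw)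
  obtain ⟨e1, -⟩ := QForm.invariants_of_prod h2 _ hvs' (mapIso f h g) (by
    rw [mapIso_coe, ← prod_reflection_map f h, ← hg]; rfl)
  have hP : (vs.map fun v => Q₀ v).prod ≠ 0 := List.prod_ne_zero fun h0 => by
    obtain ⟨v, hv, hv0⟩ := List.mem_map.1 h0
    exact hvs v hv hv0
  have hprod : ((vs.map fun v => f ∘ v).map fun v => Q v).prod = f (vs.map fun v => Q₀ v).prod := by
    rw [map_list_prod, List.map_map, List.map_map]
    exact congrArg List.prod (List.map_congr_left fun v _ => h v)
  rw [List.length_map, hprod, quadraticChar_map f hr h2 hP] at e1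
  refine ⟨fun hodd => Units.ext ?_, fun hev hdet => Units.ext ?_⟩
  · rw [e1, h1]
    congr 1
    rcases quadraticChar_dichotomy hP with e | e <;> rw [e]
    · exact one_pow _
    · exact hodd.neg_one_pow
  · have hlen : Even vs.length := by
      rw [h3] at hdet
      refine (neg_one_pow_eq_one_iff_even (fun e => h20 ?_)).1 hdet
      linear_combination -e
    rw [e1, hlen.neg_one_pow, one_mul, Units.val_one]
    rcases quadraticChar_dichotomy hP with e | e <;> rw [e]
    · exact one_pow _
    · exact hev.neg_one_pow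

end Cfsg.Agent.AutPO
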