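import Cfsg.Agent.Lib.AutPO.Odd
import Cfsg.Agent.Lib.AutPO.Reflect
import Cfsg.Agent.Lib.QForm.Gram

/-!
Centralisers and class splitting of field automorphisms of the odd-dimensional orthogonal groups.
-/

set_option autoImplicit false

namespace Cfsg.Agent.AutPO

open scoped Matrix MatrixGroups
open ClassicalSimple (GO simAut scalarSub scalarGO omegaSub isometry_le_GO pgoAut_eq mem_isometry_iff)
open QForm (sphereSign refl)

variable {m : ℕ} {F : Type*} [Field F] [Fintype F] [DecidableEq F]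

local notation "Io" => Unit ⊕ (Fin m ⊕ Fin m)
local notation "QO" => Forms.quadOdd m F

/-- An isometry as a similarity. -/
def isoGO {ι : Type} [Fintype ι] [DecidableEq ι] {K : Type*} [Field K] (Q : QuadraticForm K (ι → K)) :
    isometryGroup K ⇑Q →* GO Q :=
  Subgroup.inclusion (isometry_le_GO Q)

theorem isoGO_coe {ι : Type} [Fintype ι] [DecidableEq ι] {K : Type*} [Field K] (Q : QuadraticForm K (ι → K))
    (g : isometryGroup K ⇑Q) : (isoGO Q g).1 = g.1 := rfl

omit [Fintype F] [DecidableEq F] in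
/-- Every similarity in odd dimension is a scalar times a special isometry. -/
theorem exists_scalar_so (h2 : (2 : F) ≠ 0) (_hm : 3 ≤ m) (g : GO QO) :
    ∃ (c : Fˣ) (y : isometryGroup F ⇑QO), y.1.val.det = 1 ∧ g = scalarGO QO c * isoGO QO y := by
  obtain ⟨μ, hμ⟩ := g.2
  let e : (Io → F) ≃ₗ[F] (Io → F) := LinearEquiv.ofLinearMap (Matrix.toLin' g.1.val) (Matrix.toLin' g.1⁻¹.val)
    (by rw [← Matrix.toLin'_mul, ← Units.val_mul, mul_inv_cancel, Units.val_one, Matrix.toLin'_one])
    (by rw [← Matrix.toLin'_mul, ← Units.val_mul, inv_mul_cancel, Units.val_one, Matrix.toLin'_one])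
  have hs := QForm.det_gram_similarity QO QO e (μ : F) (fun w => hμ w) (Pi.basisFun F Io)
  obtain ⟨u, hu, hu'⟩ := QForm.det_gram_change QO (Pi.basisFun F Io) ((Pi.basisFun F Io).map e)
  rw [hu'] at hs
  have hd := QForm.det_gram_ne_zero (nondeg_odd (m := m) h2) (Pi.basisFun F Io)
  have hn : Fintype.card Io = 2 * m + 1 := by
    simp only [Fintype.card_sum, Fintype.card_unit, Fintype.card_fin]; omega
  have hpow : u ^ 2 = (μ : F) ^ (2 * m + 1) := by
    rw [← hn]; exact mul_right_cancel₀ hd hs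
  set s : Fˣ := Units.mk0 (u / (μ : F) ^ m) (div_ne_zero hu (pow_ne_zero _ μ.ne_zero)) with hsdef
  have hss : (s : F) * s = μ := by
    simp only [hsdef, Units.val_mk0]
    field_simp
    linear_combination hpow
  have hiso : ∀ c : Fˣ, (c : F) * c = μ → (scalarGO QO c⁻¹ * g).1 ∈ isometryGroup F ⇑QO := by
    intro c hc
    refine (mem_isometry_iff QO).2 fun v => ?_
    rw [Subgroup.coe_mul, scalarGO_coe, Units.val_mul, ← Matrix.mulVec_mulVec, scl_mulVec, QuadraticMap.map_smul,
      hμ, smul_eq_mul, Units.val_inv_eq_inv_val, ← hc]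
    field_simp
  have hdets : ∀ c : Fˣ, (c : F) * c = μ → (scalarGO QO (-c)⁻¹ * g).1.val.det =
      -(scalarGO QO c⁻¹ * g).1.val.det := by
    intro c hc
    simp only [Subgroup.coe_mul, scalarGO_coe, Units.val_mul, Matrix.det_mul, scl_val, Matrix.det_smul,
      Matrix.det_one, hn, Units.val_inv_eq_inv_val, Units.val_neg, inv_neg, Odd.neg_pow ⟨m, rfl⟩]
    ring
  have key : ∀ c : Fˣ, (c : F) * c = μ → (scalarGO QO c⁻¹ * g).1.val.det = 1 →
      ∃ (c : Fˣ) (y : isometryGroup F ⇑QO), y.1.val.det = 1 ∧ g = scalarGO QO c * isoGO QO y := by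
    intro c hc hd1
    refine ⟨c, ⟨_, hiso c hc⟩, hd1, Subtype.ext ?_⟩
    rw [Subgroup.coe_mul, isoGO_coe, Subgroup.coe_mul, scalarGO_coe, scalarGO_coe, ← mul_assoc, ← map_mul,
      mul_inv_cancel, map_one, one_mul]
  rcases ClassicalSimple.isometry_det QO (ClassicalSimple.bil_nondegenerate QO (nondeg_odd h2))
    ⟨_, hiso s hss⟩ with h | h
  · exact key s hss h
  · exact key (-s) (by rw [Units.val_neg, neg_mul_neg, hss]) (by rw [hdets s hss, h, neg_neg])

omit [Fintype F] [DecidableEq F] in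
/-- The scalar and the special isometry are unique. -/
theorem scalar_so_unique (h2 : (2 : F) ≠ 0) (hm : 3 ≤ m) {c c' : Fˣ} {y y' : isometryGroup F ⇑QO}
    (hy : y.1.val.det = 1) (hy' : y'.1.val.det = 1)
    (h : scalarGO QO c * isoGO QO y = scalarGO QO c' * isoGO QO y') : c = c' ∧ y = y' := by
  have hv : ∀ v, (c : F) • (y.1.val *ᵥ v) = (c' : F) • (y'.1.val *ᵥ v) := fun v => by
    have := congrArg (fun A : GO QO => A.1.val *ᵥ v) h
    simpa only [Subgroup.coe_mul, scalarGO_coe, isoGO_coe, Units.val_mul, ← Matrix.mulVec_mulVec, scl_mulVec]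
      using this
  obtain ⟨v, hv0⟩ := QForm.exists_ne_zero (nondeg_odd (m := m) h2) (le_trans (by norm_num) (card_odd hm))
  have hsq : (c : F) * c = (c' : F) * c' := by
    have := congrArg QO (hv v)
    rw [QuadraticMap.map_smul, QuadraticMap.map_smul, (mem_isometry_iff QO).1 y.2, (mem_isometry_iff QO).1 y'.2,
      smul_eq_mul, smul_eq_mul] at this
    exact mul_right_cancel₀ hv0 this
  have hn : Fintype.card Io = 2 * m + 1 := by
    simp only [Fintype.card_sum, Fintype.card_unit, Fintype.card_fin]; omega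
  have hpow : (c : F) ^ (2 * m + 1) = (c' : F) ^ (2 * m + 1) := by
    have := congrArg (fun A : GO QO => A.1.val.det) h
    simpa only [Subgroup.coe_mul, scalarGO_coe, isoGO_coe, Units.val_mul, Matrix.det_mul, scl_val, Matrix.det_smul,
      Matrix.det_one, hn, hy, hy', mul_one] using this
  have hcc : c = c' := by
    refine Units.ext ?_
    rw [pow_succ, pow_mul, pow_succ (c' : F), pow_mul (c' : F), pow_two, pow_two, hsq] at hpow
    exact mul_left_cancel₀ (pow_ne_zero _ (mul_ne_zero c'.ne_zero c'.ne_zero)) hpow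
  subst hcc
  exact ⟨rfl, Subtype.ext (mul_left_cancel (congrArg Subtype.val h))⟩

/-- A special isometry over the subfield with sphere sign `-1`. -/
theorem exists_spin_neg_odd {K : Type*} [Field K] [Fintype K] [DecidableEq K] (h2 : (2 : K) ≠ 0) (hm : 3 ≤ m) :
    ∃ g : isometryGroup K ⇑(Forms.quadOdd m K), g.1.val.det = 1 ∧ sphereSign (Forms.quadOdd m K) g = -1 := by
  classical
  set Q := Forms.quadOdd m K
  have hQ : (QuadraticMap.polarBilin Q).Nondegenerate := Forms.quadOdd_nondegenerate h2 m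
  have hn : 2 ≤ Fintype.card Io := le_trans (by norm_num) (card_odd hm)
  obtain ⟨n₀, hn₀⟩ := FiniteField.exists_nonsquare (F := K) (by
    intro hc
    have : CharP K 2 := ringChar.of_eq hc
    exact h2 CharTwo.two_eq_zero)
  have hn0 : n₀ ≠ 0 := fun e => hn₀ (e ▸ IsSquare.zero)
  obtain ⟨v, hv⟩ := QForm.exists_apply_eq h2 hQ hn 1 one_ne_zero
  obtain ⟨w, hw⟩ := QForm.exists_apply_eq h2 hQ hn n₀ hn0
  have hv0 : Q v ≠ 0 := by rw [hv]; exact one_ne_zero
  have hw0 : Q w ≠ 0 := by rw [hw]; exact hn0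
  refine ⟨refl Q v hv0 * refl Q w hw0, ?_, Units.ext ?_⟩
  · rw [Subgroup.coe_mul, Units.val_mul, Matrix.det_mul]
    show (reflectionMatrix ⇑Q v).det * (reflectionMatrix ⇑Q w).det = 1
    rw [QForm.det_reflectionMatrix Q hv0, QForm.det_reflectionMatrix Q hw0, neg_mul_neg, one_mul]
  · rw [map_mul, Units.val_mul, QForm.sphereSign_refl Q h2 v hv0, QForm.sphereSign_refl Q h2 w hw0, hv, hw,
      quadraticChar_one_iff_isSquare one_ne_zero |>.2 IsSquare.one,
      quadraticChar_neg_one_iff_not_isSquare.2 hn₀]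
    rfl

theorem mem_omegaSub_of {y : isometryGroup F ⇑QO} (h2 : (2 : F) ≠ 0) (hd : y.1.val.det = 1)
    (hs : sphereSign QO y = 1) : isoGO QO y ∈ omegaSub QO := by
  classical
  exact ⟨y, (QForm.mem_omega_iff_invariants h2 (nondeg_odd h2) y).2 ⟨hs, hd⟩, rfl⟩

theorem of_mem_omegaSub {g : GO QO} (h2 : (2 : F) ≠ 0) (hg : g ∈ omegaSub QO) :
    ∃ y : isometryGroup F ⇑QO, y.1.val.det = 1 ∧ sphereSign QO y = 1 ∧ g = isoGO QO y := by
  classical
  obtain ⟨t, ht, htg⟩ := hg
  obtain ⟨hs, hd⟩ := (QForm.mem_omega_iff_invariants h2 (nondeg_odd h2) t).1 ht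
  exact ⟨t, hd, hs, Subtype.ext htg.symm⟩

section Split

variable {F₀ : Type*} [Field F₀] [Fintype F₀] [DecidableEq F₀] (f : F₀ →+* F)

omit [Fintype F] [DecidableEq F] [Fintype F₀] [DecidableEq F₀] in
theorem quadOdd_map (w : Io → F₀) : QO (f ∘ w) = f (Forms.quadOdd m F₀ w) := by
  rw [Forms.quadOdd_apply, Forms.quadOdd_apply, quadFormOdd_map]

omit [Fintype F] [DecidableEq F] [Fintype F₀] [DecidableEq F₀] in
theorem quadOdd_map_one (w : Io → F₀) :
    QO ((1 : GL Io F).val *ᵥ (f ∘ w)) = ((1 : Fˣ) : F) * f (Forms.quadOdd m F₀ w) := by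
  rw [Units.val_one, Matrix.one_mulVec, Units.val_one, one_mul, quadOdd_map]

/-- The subfield similarities. -/
noncomputable abbrev embOdd : GO (Forms.quadOdd m F₀) →* GO QO := embGO f 1 1 (quadOdd_map_one f)

theorem embOdd_iso (y : isometryGroup F₀ ⇑(Forms.quadOdd m F₀)) :
    embOdd f (isoGO _ y) = isoGO QO (mapIso f (quadOdd_map f) y) :=
  Subtype.ext (by rw [embGO_coe, isoGO_coe, isoGO_coe, one_mul, inv_one, mul_one, mapIso_coe])

theorem embOdd_scalar (c : F₀ˣ) :
    embOdd (m := m) f (scalarGO _ c) = scalarGO QO (Units.map (f : F₀ →* F) c) := by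
  refine Subtype.ext (Units.ext (Matrix.ext fun i j => ?_))
  rw [embGO_coe, one_mul, inv_one, mul_one, scalarGO_coe, scalarGO_coe]
  show f ((scl c : GL Io F₀).val i j) = _
  rw [scl_val, scl_val]
  rcases eq_or_ne i j with rfl | h <;> simp [*]

/-- The index controlling the splitting. -/
theorem index_odd {r : ℕ} (hr : Fintype.card F = Fintype.card F₀ ^ r) (h2 : (2 : F) ≠ 0) (hm : 3 ≤ m) :
    (Odd r → (omegaSub QO ⊔ scalarSub QO ⊔ (embOdd (m := m) f).range).index = 1) ∧
      (Even r → (omegaSub QO ⊔ scalarSub QO ⊔ (embOdd (m := m) f).range).index = 2) := by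
  classical
  set S := omegaSub QO ⊔ scalarSub QO ⊔ (embOdd (m := m) f).range
  have h20 : (2 : F₀) ≠ 0 := fun e => h2 (by rw [← map_ofNat f 2, e, map_zero])
  have hQ₀ : (QuadraticMap.polarBilin (Forms.quadOdd m F₀)).Nondegenerate := Forms.quadOdd_nondegenerate h20 m
  have hsc : ∀ c, scalarGO QO c ∈ S := fun c =>
    Subgroup.mem_sup_left (Subgroup.mem_sup_right (ClassicalSimple.scalarGO_mem c))
  have hso : ∀ y : isometryGroup F ⇑QO, y.1.val.det = 1 → sphereSign QO y = 1 → isoGO QO y ∈ S :=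
    fun y hd hs => Subgroup.mem_sup_left (Subgroup.mem_sup_left (mem_omegaSub_of h2 hd hs))
  constructor
  · intro hodd
    rw [Subgroup.index_eq_one, eq_top_iff]
    intro g _
    obtain ⟨c, y, hy, rfl⟩ := exists_scalar_so h2 hm g
    refine S.mul_mem (hsc c) ?_
    rcases Int.units_eq_one_or (sphereSign QO y) with hs | hs
    · exact hso y hy hs
    · obtain ⟨s, hsd, hss⟩ := exists_spin_neg_odd (K := F₀) (m := m) h20 hm
      set t := mapIso f (quadOdd_map f) s
      have htd : t.1.val.det = 1 := by rw [det_mapIso, hsd, map_one]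
      have hts : sphereSign QO t = -1 := by
        rw [(sphereSign_mapIso f (quadOdd_map f) hr h2 hQ₀ s).1 hodd, hss]
      have e : isoGO QO y = isoGO QO t * isoGO QO (t⁻¹ * y) := by rw [← map_mul, mul_inv_cancel_left]
      rw [e]
      refine S.mul_mem (Subgroup.mem_sup_right ⟨isoGO _ s, embOdd_iso f s⟩) (hso _ ?_ ?_)
      · have hinv : t.1⁻¹.val.det = 1 := by
          have h := congrArg Matrix.det (Units.inv_mul t.1)
          rwa [Matrix.det_mul, htd, mul_one, Matrix.det_one] at h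
        rw [Subgroup.coe_mul, InvMemClass.coe_inv, Units.val_mul, Matrix.det_mul, hinv, hy, one_mul]
      · rw [map_mul, map_inv, hts, hs]; rfl
  · intro hev
    obtain ⟨a, had, has⟩ := exists_spin_neg_odd (K := F) (m := m) h2 hm
    -- members of `S` have trivial sphere sign on the special isometry part
    let T : Subgroup (GO QO) :=
      { carrier := {g | ∀ (c : Fˣ) (y : isometryGroup F ⇑QO), y.1.val.det = 1 →
          g = scalarGO QO c * isoGO QO y → sphereSign QO y = 1}
        one_mem' := fun c y hy he => by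
          obtain ⟨-, hyy⟩ := scalar_so_unique h2 hm (c := 1) (y := 1) (by simp) hy
            (by rw [map_one, mul_one, ← he]; exact Subtype.ext (by rw [scalarGO_coe, map_one, Subgroup.coe_one]))
          rw [← hyy, map_one]
        mul_mem' := fun {g g'} hg hg' c y hy he => by
          obtain ⟨c1, y1, hy1, rfl⟩ := exists_scalar_so h2 hm g
          obtain ⟨c2, y2, hy2, rfl⟩ := exists_scalar_so h2 hm g'
          obtain ⟨-, hyy⟩ := scalar_so_unique h2 hm (c := c1 * c2) (y := y1 * y2)
            (by rw [Subgroup.coe_mul, Units.val_mul, Matrix.det_mul, hy1, hy2, one_mul]) hy (by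
              rw [← he]
              refine Subtype.ext ?_
              simp only [Subgroup.coe_mul, scalarGO_coe, isoGO_coe, map_mul]
              rw [mul_assoc, ← mul_assoc (scl c2), scl_commute c2 y1.1]
              simp only [mul_assoc])
          rw [← hyy, map_mul, hg c1 y1 hy1 rfl, hg' c2 y2 hy2 rfl, one_mul]
        inv_mem' := fun {g} hg c y hy he => by
          obtain ⟨c1, y1, hy1, rfl⟩ := exists_scalar_so h2 hm g
          have hinv : y1.1⁻¹.val.det = 1 := by
            have h := congrArg Matrix.det (Units.inv_mul y1.1)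
            rwa [Matrix.det_mul, hy1, mul_one, Matrix.det_one] at h
          obtain ⟨-, hyy⟩ := scalar_so_unique h2 hm (c := c1⁻¹) (y := y1⁻¹) hinv hy (by
            rw [← he]
            refine Subtype.ext ?_
            simp only [Subgroup.coe_mul, InvMemClass.coe_inv, scalarGO_coe, isoGO_coe, mul_inv_rev, map_inv]
            rw [← mul_inv_rev, ← mul_inv_rev, scl_commute])
          rw [← hyy, map_inv, hg c1 y1 hy1 rfl, inv_one] }
    have hST : S ≤ T := by
      refine sup_le (sup_le ?_ ?_) ?_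
      · intro g hg c y hy he
        obtain ⟨t, htd, hts, rfl⟩ := of_mem_omegaSub h2 hg
        obtain ⟨-, hyy⟩ := scalar_so_unique h2 hm (c := 1) htd hy (by
          rw [← he]; exact Subtype.ext (by rw [Subgroup.coe_mul, scalarGO_coe, map_one, one_mul]))
        rw [← hyy, hts]
      · intro g hg c y hy he
        obtain ⟨a', ha'⟩ := hg
        obtain ⟨-, hyy⟩ := scalar_so_unique h2 hm (c := a') (y := 1) (by simp) hy (by
          rw [← he, map_one, mul_one]; exact Subtype.ext ha')
        rw [← hyy, map_one]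
      · rintro _ ⟨g₀, rfl⟩ c y hy he
        obtain ⟨c₀, y₀, hy₀, rfl⟩ := exists_scalar_so h20 hm g₀
        obtain ⟨-, hyy⟩ := scalar_so_unique h2 hm (c := Units.map (f : F₀ →* F) c₀)
          (y := mapIso f (quadOdd_map f) y₀) (by rw [det_mapIso, hy₀, map_one]) hy
          (by rw [← he, map_mul, embOdd_scalar, embOdd_iso])
        rw [← hyy, (sphereSign_mapIso f (quadOdd_map f) hr h2 hQ₀ y₀).2 hev hy₀]
    have haT : isoGO QO a ∉ S := fun h => by
      have := hST h 1 a had (Subtype.ext (by rw [Subgroup.coe_mul, scalarGO_coe, map_one, one_mul]))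
      rw [has] at this
      exact absurd this (by decide)
    rw [Subgroup.index_eq_two_iff]
    refine ⟨isoGO QO a, fun g => ?_⟩
    obtain ⟨c, y, hy, rfl⟩ := exists_scalar_so h2 hm g
    rcases Int.units_eq_one_or (sphereSign QO y) with hs | hs
    · refine Or.inr ⟨S.mul_mem (hsc c) (hso y hy hs), fun h => haT ?_⟩
      have := S.mul_mem (S.inv_mem (S.mul_mem (hsc c) (hso y hy hs))) h
      rwa [inv_mul_cancel_left] at this
    · have hmem : scalarGO QO c * isoGO QO y * isoGO QO a ∈ S := by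
        rw [mul_assoc, ← map_mul]
        refine S.mul_mem (hsc c) (hso _ ?_ ?_)
        · rw [Subgroup.coe_mul, Units.val_mul, Matrix.det_mul, had, hy, one_mul]
        · rw [map_mul, hs, has]; rfl
      exact Or.inl ⟨hmem, fun h => haT (by
        have := S.mul_mem (S.inv_mem h) hmem
        rwa [inv_mul_cancel_left] at this)⟩

end Split

omit [DecidableEq F] in
/-- The statement for field automorphisms of `Omega_{2m+1}`, given that every automorphism is semilinear. -/
theorem field_omega_odd {p f : ℕ} [Fact p.Prime] (hF : Fintype.card F = p ^ f)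
    (hodd : Odd (Fintype.card F)) (hm : 3 ≤ m) (hΓ : gammaPOmega F (quadFormOdd m F) = ⊤)
    (F₀ : Type*) [Field F₀] [Fintype F₀] :
    ∀ (x : MulAut (POmega F (quadFormOdd m F))), IsFieldAutClassPOmega (quadFormOdd m F) x →
      ∀ r : ℕ, orderOf x = r → Fintype.card F₀ = p ^ (f / r) →
      r ∣ f ∧ Nonempty (↥(inndiagPOmegaOdd m F ⊓ Subgroup.centralizer {x}) ≃* ↥(inndiagPOmegaOdd m F₀)) ∧
        (Odd r → Cfsg.splitClassCount (inndiagPOmegaOdd m F) (Cfsg.Inn (POmega F (quadFormOdd m F))) x = 1) ∧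
        (r = 2 → Cfsg.splitClassCount (inndiagPOmegaOdd m F) (Cfsg.Inn (POmega F (quadFormOdd m F))) x = 2) := by
  classical
  rw [inndiagOdd_eq, inndiagOdd_eq]
  revert hΓ
  rw [← coe_quadOdd (m := m) (F := F), ← coe_quadOdd (m := m) (F := F₀)]
  intro hΓ x hx r hxr hF₀
  have h2 := two_ne_zero_odd hodd
  have hQ := nondeg_odd (m := m) h2
  obtain ⟨α, σ, hσr, he⟩ := exists_std_odd h2 hm hx hxr
  obtain ⟨hdvd, hcard⟩ := FieldExt.orderOf_dvd_and_card hF σ
  rw [hσr] at hdvd hcard
  obtain ⟨e, hfix⟩ := FieldExt.exists_ringHom_range (F₀ := F₀) σ (by rw [hF₀, hcard])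
  have hcardF : Fintype.card F = Fintype.card F₀ ^ r := by
    rw [hF, hF₀, ← pow_mul, Nat.div_mul_cancel hdvd]
  have h20 : (2 : F₀) ≠ 0 := fun h => h2 (by rw [← map_ofNat e 2, h, map_zero])
  have := normal_odd hΓ
  have := inn_normal (X := POmega F ⇑QO)
  have hS : ((1 : GO QO)).1 * gmap σ (1 : GL Io F) = 1 := by rw [map_one, Subgroup.coe_one, one_mul]
  have hstd : simAut QO 1 * fieldA (fixes_odd σ) = α * x * α⁻¹ := by rw [map_one, one_mul, he]
  have htop : pgoAut F ⇑QO = (⊤ : Subgroup (GO QO)).map (simAut QO) := by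
    rw [pgoAut_eq, MonoidHom.range_eq_map]
  have hinn : Cfsg.Inn (POmega F ⇑QO) ≤ pgoAut F ⇑QO := by
    rw [ClassicalSimple.inn_eq, pgoAut_eq, MonoidHom.range_eq_map]; exact Subgroup.map_mono le_top
  have hsplit : Cfsg.splitClassCount (pgoAut F ⇑QO) (Cfsg.Inn (POmega F ⇑QO)) x =
      (omegaSub QO ⊔ scalarSub QO ⊔ (embOdd (m := m) e).range).index := by
    rw [← AutPSL.splitClassCount_conj _ _ hinn α x, ← hstd, htop,
      split_eq_relIndex (fixes_odd σ) hQ (card_odd hm) e 1 1 (quadOdd_map_one e) hfix 1 hS ⊤ le_top le_top,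
      Subgroup.relIndex_top_right, Subgroup.comap_top, ← MonoidHom.range_eq_map]
  refine ⟨hdvd, ?_, fun hr => ?_, fun hr => ?_⟩
  · obtain ⟨E⟩ := nonempty_centralizer_equiv (fixes_odd σ) hQ (card_odd hm) e 1 1 (quadOdd_map_one e) hfix 1 hS
      (Forms.quadOdd_nondegenerate h20 m) ⊤ le_top
    rw [hstd, ← htop, Subgroup.comap_top] at E
    refine ⟨(AutPSL.centralizerEquiv _ α x).trans (E.trans (MulEquiv.subgroupCongr ?_))⟩
    rw [pgoAut_eq, MonoidHom.range_eq_map]
  · rw [hsplit]; exact (index_odd e hcardF h2 hm).1 hr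
  · rw [hsplit]; exact (index_odd e hcardF h2 hm).2 (by rw [hr]; exact even_two)

end Cfsg.Agent.AutPO
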