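import Cfsg.Agent.Lib.AutPO.PlusModel
import Cfsg.Agent.Lib.AutPO.PlusOrder
import Cfsg.Agent.Lib.Semisimple.OrthBlocks
import Cfsg.Agent.Lib.AutPOmega.Matrix

/-!
Field and graph-field automorphisms of the hyperbolic orthogonal groups: classes in their cosets.
-/

set_option autoImplicit false

namespace Cfsg.Agent.AutPO

open scoped Matrix MatrixGroups
open ClassicalSimple (GO simAut scalarSub)
open QForm (plusForm minusForm)

variable {F : Type*} [Field F] [Fintype F] {n : ℕ}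

local notation "QP" => plusForm F (n + 1)

omit [Fintype F] in
/-- The plain embedding data of the hyperbolic form. -/
theorem plus_one_map {F₀ : Type*} [Field F₀] (f : F₀ →+* F) {m : ℕ} (w : Fin m ⊕ Fin m → F₀) :
    plusForm F m ((1 : GL (Fin m ⊕ Fin m) F).val *ᵥ (f ∘ w)) = ((1 : Fˣ) : F) * f (plusForm F₀ m w) := by
  rw [Units.val_one, Matrix.one_mulVec, Units.val_one, one_mul, plusForm_map]

theorem swapP_notMem (hm : 3 ≤ n + 1) : swapP (F := F) n ∉ Dg (plusForm F (n + 1)) (n + 1) :=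
  reflG_notMem nondeg_plus card_plus hm _ _

omit [Fintype F] in
/-- A root of a quadratic anisotropic over the fixed field is moved to the other root. -/
theorem root_moved {F₀ : Type*} [Field F₀] (f : F₀ →+* F) {σ : F ≃+* F}
    (hf : ∀ x : F, σ x = x ↔ x ∈ Set.range f) {a b : F₀}
    (hab : ∀ z₁ z₂ : F₀, z₁ ^ 2 + a * z₁ * z₂ + b * z₂ ^ 2 = 0 → z₁ = 0 ∧ z₂ = 0)
    {θ : F} (hθ : θ ^ 2 + f a * θ + f b = 0) : σ θ = -f a - θ ∧ -f a - θ ≠ θ := by
  have hne : σ θ ≠ θ := fun e => by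
    obtain ⟨t, rfl⟩ := (hf θ).1 e
    have : f (t ^ 2 + a * t * 1 + b * 1 ^ 2) = f 0 := by
      simp only [map_add, map_mul, map_pow, map_one, map_zero]
      linear_combination hθ
    exact one_ne_zero (hab t 1 (f.injective this)).2
  have hσ : σ θ ^ 2 + f a * σ θ + f b = 0 := by
    have := congrArg σ hθ
    rw [map_zero, map_add, map_add, map_mul, map_pow, (hf _).2 ⟨a, rfl⟩, (hf _).2 ⟨b, rfl⟩] at this
    exact this
  have h : σ θ = -f a - θ := by
    have h0 : (σ θ - θ) * (σ θ - (-f a - θ)) = 0 := by linear_combination hσ - hθ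
    exact sub_eq_zero.1 ((mul_eq_zero.1 h0).resolve_left (sub_ne_zero.2 hne))
  exact ⟨h, h ▸ hne⟩

/-- The representative of the coset of `g`. -/
noncomputable def stdS (g : GO (plusForm F (n + 1))) : GO (plusForm F (n + 1)) :=
  open Classical in if g ∈ Dg (plusForm F (n + 1)) (n + 1) then 1 else swapP n

/-- The data of a standard element: it lies in one of two cases. -/
def IsPlusData (σ : F ≃+* F) {F₀ : Type*} [Field F₀] (f : F₀ →+* F)
    (S : GO (plusForm F (n + 1))) (J : GL (Fin (n + 1) ⊕ Fin (n + 1)) F)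
    (Q₀ : QuadraticForm F₀ (Fin (n + 1) ⊕ Fin (n + 1) → F₀)) : Prop :=
  (∀ w, plusForm F (n + 1) (J.val *ᵥ (f ∘ w)) = ((1 : Fˣ) : F) * f (Q₀ w)) ∧
    S.1 * gmap σ J = J ∧ (QuadraticMap.polarBilin Q₀).Nondegenerate

set_option maxHeartbeats 1000000 in
-- defeq checks on sum-indexed matrices are slow
/-- **Lang's theorem** for the hyperbolic orthogonal groups. -/
theorem lang_plus (hm : 3 ≤ n + 1) (σ : F ≃+* F) (g : GO (plusForm F (n + 1)))
    (hg : (simAut _ g * fieldA (fixes_plus σ)) ^ orderOf σ = 1) :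
    Cfsg.IsConjUnder ((Dg (plusForm F (n + 1)) (n + 1)).map (simAut _))
      (simAut _ (stdS g) * fieldA (fixes_plus σ)) (simAut _ g * fieldA (fixes_plus σ)) := by
  classical
  have hQ : (QuadraticMap.polarBilin QP).Nondegenerate := nondeg_plus
  have hcard : Fintype.card (Fin (n + 1) ⊕ Fin (n + 1)) = 2 * (n + 1) := card_plus
  let : Fintype (FieldExt.fixedField σ) := Fintype.ofFinite _
  set f := (FieldExt.fixedField σ).subtype
  have hf : ∀ x : F, σ x = x ↔ x ∈ Set.range f := fun x =>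
    ⟨fun h => ⟨⟨x, FieldExt.mem_fixedField.2 h⟩, rfl⟩, fun ⟨y, hy⟩ => hy ▸ FieldExt.mem_fixedField.1 y.2⟩
  obtain ⟨z, ν, a, Q₁, ha, hQ₁n, hQ₁⟩ :=
    exists_twisted (fixes_plus σ) hQ (by omega) rfl g hg f hf
  obtain ⟨a₀, b₀, hab⟩ := Semisimple.exists_binary_anisotropic (F := FieldExt.fixedField σ)
  rcases QForm.exists_iso_plus_or_minus hab (n + 1) Q₁ hQ₁n (by
      rw [Module.finrank_fintype_fun_eq_card, hcard]) with ⟨e, he⟩ | ⟨-, e, he⟩
  · obtain ⟨b, u, hb⟩ := exists_similar f hQ₁ (Q₂ := QP) (Q₀ := plusForm (FieldExt.fixedField σ) (n + 1))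
      (plusForm_map f) e 1 one_ne_zero (fun w => by rw [one_mul, QForm.plusForm_apply]; exact he w)
    let h : GO QP := ⟨a * Matrix.GeneralLinearGroup.map f b, u, hb⟩
    have heq : g.1 * scl z * gmap σ h.1 = h.1 * (1 : GO QP).1 := by
      rw [Subgroup.coe_one, mul_one, map_mul, gmap_map f hf, ← mul_assoc, ha]
    have hmem : g ∈ Dg QP (n + 1) :=
      (mem_Dg_of_descended hQ hcard hm (fixes_plus σ) g 1 h heq).2 (one_mem _)
    rw [stdS, if_pos hmem]
    exact isConjUnder_of_descended hQ hcard hm (fixes_plus σ) f 1 1 (plus_one_map f) nondeg_plus hf 1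
      (by rw [map_one, Subgroup.coe_one, one_mul]) g h heq
  · let e' := e.trans (LinearEquiv.funCongrLeft _ _ (idxEquiv n)).symm
    obtain ⟨b, u, hb⟩ := exists_similar f hQ₁ (Q₂ := minusP n (f a₀) (f b₀))
      (Q₀ := minusP n a₀ b₀)
      (fun w => by rw [minusP_apply, minusP_apply, Function.comp_assoc, minusForm_map]) e' 1 one_ne_zero
      (fun w => by
        rw [one_mul, minusP_apply, QForm.minusForm_apply, ← he]
        congr 1
        funext i
        simp [e', LinearEquiv.funCongrLeft_symm, LinearEquiv.funCongrLeft_apply, LinearMap.funLeft_apply])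
    set A := a * Matrix.GeneralLinearGroup.map f b
    have hA : gmap σ A = gmap σ a * Matrix.GeneralLinearGroup.map f b := by rw [map_mul, gmap_map f hf]
    by_cases hroot : ∃ θ : F, θ ^ 2 + f a₀ * θ + f b₀ = 0
    · obtain ⟨θ, hθ⟩ := hroot
      obtain ⟨hσθ, hne⟩ := root_moved f hf hab hθ
      set J := twistJ (n := n) hne
      have hS : (swapP n).1 * gmap σ J = J := swapP_twist ((hf _).2 ⟨a₀, rfl⟩) hσθ hne
      have hsim : ∀ v, QP ((A * J⁻¹).val *ᵥ v) = (u : F) * QP v := fun v => by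
        rw [Units.val_mul, ← Matrix.mulVec_mulVec, hb]
        congr 1
        have := plus_twistJ hne hθ (RingHom.id F) (a₀ := f a₀) (b₀ := f b₀) rfl rfl ((J⁻¹).val *ᵥ v)
        simp only [RingHom.coe_id, Function.id_comp, id_eq, Units.val_one, one_mul] at this
        rw [← this, ClassicalSimple.mulVec_inv_cancel]
      let h : GO QP := ⟨A * J⁻¹, u, hsim⟩
      have heq : g.1 * scl z * gmap σ h.1 = h.1 * (swapP n).1 := by
        show g.1 * scl z * gmap σ (A * J⁻¹) = A * J⁻¹ * (swapP n).1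
        rw [map_mul, map_inv, hA, ← mul_assoc, ← mul_assoc, ha, eq_inv_mul_iff_mul_eq.2 hS]
        group
        rfl
      have hmem : g ∉ Dg QP (n + 1) := fun hh =>
        swapP_notMem hm ((mem_Dg_of_descended hQ hcard hm (fixes_plus σ) g (swapP n) h heq).1 hh)
      rw [stdS, if_neg hmem]
      exact isConjUnder_of_descended hQ hcard hm (fixes_plus σ) f J 1
        (fun w => plus_twistJ hne hθ f rfl rfl w) (nondeg_minusP hab) hf (swapP n) hS g h heq
    · exfalso
      push Not at hroot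
      have habF : ∀ z₁ z₂ : F, z₁ ^ 2 + f a₀ * z₁ * z₂ + f b₀ * z₂ ^ 2 = 0 → z₁ = 0 ∧ z₂ = 0 := by
        intro z₁ z₂ hz
        by_cases h2 : z₂ = 0
        · subst h2
          simp at hz
          exact ⟨hz, rfl⟩
        · exact absurd (by field_simp; linear_combination hz) (hroot (z₁ / z₂))
      let L : (Fin (n + 1) ⊕ Fin (n + 1) → F) →ₗ[F] ((Fin n ⊕ Fin n) ⊕ Fin 2 → F) :=
        (LinearEquiv.funCongrLeft F F (idxEquiv n)).toLinearMap.comp (Matrix.toLin' A⁻¹.val)
      refine not_similar_plus_minus habF L (fun x y hxy => ?_) (u⁻¹ : Fˣ).val fun v => ?_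
      · have h1 : A⁻¹.val *ᵥ x = A⁻¹.val *ᵥ y := (LinearEquiv.funCongrLeft F F (idxEquiv n)).injective hxy
        have := congrArg (fun w => A.val *ᵥ w) h1
        simpa only [ClassicalSimple.mulVec_inv_cancel] using this
      · have := hb (A⁻¹.val *ᵥ v)
        rw [ClassicalSimple.mulVec_inv_cancel, minusP_apply] at this
        rw [this, Units.val_inv_eq_inv_val, inv_mul_cancel_left₀ u.ne_zero]
        rfl

theorem stdS_mul_left (hm : 3 ≤ n + 1) {y g : GO (plusForm F (n + 1))}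
    (hy : y ∈ Dg (plusForm F (n + 1)) (n + 1)) : stdS (y * g) = stdS g := by
  classical
  have h := mul_mem_Dg_iff nondeg_plus card_plus hm y g
  unfold stdS
  by_cases hg : g ∈ Dg (plusForm F (n + 1)) (n + 1)
  · rw [if_pos hg, if_pos (h.2 (iff_of_true hy hg))]
  · rw [if_neg hg, if_neg fun e => hg ((h.1 e).1 hy)]

omit [Fintype F] in
theorem gmap_rational_refl (σ : F ≃+* F) {m : ℕ} {v : Fin m ⊕ Fin m → F} (hv : plusForm F m v ≠ 0)
    (hfix : ∀ i, σ (v i) = v i) : mapGO (fixes_plus σ) (reflG v hv) = reflG (Q := plusForm F m) v hv := by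
  refine Subtype.ext (Units.ext ?_)
  rw [mapGO_coe, gmap_val, reflG_coe]
  have := reflectionMatrix_map σ.toRingHom (Q := plusForm F m) (Q₀ := plusForm F m)
    (fun w => plusForm_map σ.toRingHom w) v
  rw [show σ.toRingHom ∘ v = v from funext hfix] at this
  exact this

set_option maxHeartbeats 1000000 in
-- defeq checks on sum-indexed matrices are slow
/-- A field or graph-field automorphism is conjugate to `simAut h * fieldA`. -/
theorem exists_std_plus (hm : 3 ≤ n + 1) {x : MulAut (POmega F ⇑(plusForm F (n + 1)))} {r : ℕ} (hr : r.Prime)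
    (hxr : orderOf x = r) :
    (IsFieldAutClassPOmega ⇑(plusForm F (n + 1)) x →
      ∃ (α : MulAut (POmega F ⇑(plusForm F (n + 1)))) (σ : F ≃+* F),
        orderOf σ = r ∧ α * x * α⁻¹ = fieldA (fixes_plus σ)) ∧
    (∀ (α γ φ : MulAut (POmega F ⇑(plusForm F (n + 1)))) (σ : F ≃+* F) (v : Fin (n + 1) ⊕ Fin (n + 1) → F)
      (rr : GL (Fin (n + 1) ⊕ Fin (n + 1)) F),
      σ ≠ RingEquiv.refl F → ∀ (hv : plusForm F (n + 1) v ≠ 0), (∀ i, σ (v i) = v i) →
      rr.val = reflectionMatrix ⇑(plusForm F (n + 1)) v →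
      IsInducedBySemilinearPOmega ⇑(plusForm F (n + 1)) rr (RingEquiv.refl F) γ →
      IsFieldAutPOmegaOf ⇑(plusForm F (n + 1)) σ φ → α * x * α⁻¹ = γ * φ →
      r = 2 ∧ orderOf σ = 2 ∧ α * x * α⁻¹ = simAut _ (reflG v hv) * fieldA (fixes_plus σ)) := by
  refine ⟨?_, ?_⟩
  · rintro ⟨α, φ, σ, -, hφ, he⟩
    rw [eq_fieldA (fixes_plus σ) hφ] at he
    exact ⟨α, σ, by rw [← orderOf_fieldA_plus (m := n + 1) hm σ, ← he,
      show α * x * α⁻¹ = MulAut.conj α x from rfl, (MulAut.conj α).orderOf_eq, hxr], he⟩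
  · intro α γ φ σ v rr hσ1 hv hfix hrr hγ hφ he
    set R : GO QP := reflG v hv
    have hrrR : rr = R.1 := Units.ext (by rw [hrr]; rfl)
    rw [hrrR] at hγ
    rw [(ClassicalSimple.induced_iff QP R.2).1 hγ, eq_fieldA (fixes_plus σ) hφ] at he
    have hR : mapGO (fixes_plus σ) R = R := gmap_rational_refl σ hv hfix
    have hcomm : Commute (simAut QP R) (fieldA (fixes_plus σ)) := by
      have := fieldA_mul_simAut (fixes_plus σ) R
      rw [hR] at this
      exact this.symm
    have hRR : R * R = 1 := Subtype.ext (congrArg (fun x : isometryGroup F ⇑QP => x.1) (QForm.refl_mul_self QP v hv))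
    have hpow : (simAut QP R * fieldA (fixes_plus σ)) ^ r = 1 := by
      rw [← he, conj_pow, ← hxr, pow_orderOf_eq_one, mul_one, mul_inv_cancel]
    rw [hcomm.mul_pow, ← map_pow] at hpow
    have hr2 : r = 2 := by
      rcases hr.eq_two_or_odd' with h | ⟨t, ht⟩
      · exact h
      · exfalso
        rw [ht, pow_succ, pow_mul, pow_two, hRR, one_pow, one_mul, ← ht] at hpow
        refine fieldA_pow_ne_refl (m := n + 1) hm σ r v hv ?_
        rw [eq_inv_of_mul_eq_one_right hpow, ← map_inv]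
        congr 1
    subst hr2
    rw [pow_two, hRR, map_one, one_mul] at hpow
    refine ⟨rfl, ?_, he⟩
    rw [← orderOf_fieldA_plus (m := n + 1) hm σ]
    refine orderOf_eq_prime hpow ?_
    intro h
    have := orderOf_fieldA_plus (m := n + 1) hm σ
    rw [h, orderOf_one] at this
    exact hσ1 (orderOf_eq_one_iff.1 this.symm)

set_option maxHeartbeats 1000000 in
-- defeq checks on sum-indexed matrices are slow
/-- An element of the coset has order `r` exactly when it is conjugate to the standard element. -/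
theorem orderOf_iff_std (hm : 3 ≤ n + 1) (hΓ : gammaPOmega F ⇑(plusForm F (n + 1)) = ⊤)
    {x δ α : MulAut (POmega F ⇑(plusForm F (n + 1)))} {σ : F ≃+* F} {h : GO (plusForm F (n + 1))} {r : ℕ}
    (he : α * x * α⁻¹ = simAut _ h * fieldA (fixes_plus σ)) (hσ : orderOf σ = r) (hxr : orderOf x = r)
    (hδ : δ ∈ (Dg (plusForm F (n + 1)) (n + 1)).map (simAut _)) :
    orderOf (δ * x) = r ↔ Cfsg.IsConjUnder ((Dg (plusForm F (n + 1)) (n + 1)).map (simAut _)) x (δ * x) := by
  have := normal_Dg nondeg_plus card_plus hm hΓ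
  refine orderOf_iff_isConjUnder _ he hxr hδ fun y hy hyr => ?_
  obtain ⟨y, hy, rfl⟩ := hy
  have hh : (simAut _ h * fieldA (fixes_plus σ)) ^ orderOf σ = 1 := by
    rw [hσ, ← he, conj_pow, ← hxr, pow_orderOf_eq_one, mul_one, mul_inv_cancel]
  rw [← mul_assoc, ← map_mul] at hyr ⊢
  have h1 := lang_plus hm σ h hh
  have h2 := lang_plus hm σ (y * h) (by rwa [hσ])
  rw [stdS_mul_left hm hy] at h2
  exact isConjUnder_trans (isConjUnder_symm h1) h2

theorem orderOf_iff_plus_fun (hm : 3 ≤ n + 1) (Qf : (Fin (n + 1) ⊕ Fin (n + 1) → F) → F)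
    (hQf : ⇑QP = Qf) :
    gammaPOmega F Qf = ⊤ → ∀ (x δ : MulAut (POmega F Qf)),
      (IsFieldAutClassPOmega Qf x ∨ ∃ (α γ φ : MulAut (POmega F Qf)) (σ : F ≃+* F)
        (v : Fin (n + 1) ⊕ Fin (n + 1) → F) (rr : GL (Fin (n + 1) ⊕ Fin (n + 1)) F),
        σ ≠ RingEquiv.refl F ∧ Qf v ≠ 0 ∧ (∀ i, σ (v i) = v i) ∧
        rr.val = reflectionMatrix Qf v ∧
        IsInducedBySemilinearPOmega Qf rr (RingEquiv.refl F) γ ∧
        IsFieldAutPOmegaOf Qf σ φ ∧ α * x * α⁻¹ = γ * φ) →
      ∀ r : ℕ, r.Prime → orderOf x = r →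
      δ ∈ autSubgroupOf (fun β : MulAut (POmega F Qf) =>
        ∃ g : GL (Fin (n + 1) ⊕ Fin (n + 1)) F, g ∈ Geo.quadSimilarityGroup (F := F) Qf ∧
          PreservesSingularClasses Qf g.val ∧ IsInducedBySemilinearPOmega Qf g (RingEquiv.refl F) β) →
      (orderOf (δ * x) = r ↔ Cfsg.IsConjUnder (autSubgroupOf (fun β : MulAut (POmega F Qf) =>
        ∃ g : GL (Fin (n + 1) ⊕ Fin (n + 1)) F, g ∈ Geo.quadSimilarityGroup (F := F) Qf ∧
          PreservesSingularClasses Qf g.val ∧ IsInducedBySemilinearPOmega Qf g (RingEquiv.refl F) β))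
        x (δ * x)) := by
  subst hQf
  intro hΓ x δ hx r hr hxr
  rw [inndiagPlus_eq hm]
  intro hδ
  rcases hx with hx | ⟨α, γ, φ, σ, v, rr, hσ, hv, hfix, hrr, hγ, hφ, he⟩
  · obtain ⟨α, σ, hσr, he⟩ := (exists_std_plus hm hr hxr).1 hx
    exact orderOf_iff_std hm hΓ (α := α) (h := 1) (by rw [map_one, one_mul]; exact he) hσr hxr hδ
  · obtain ⟨rfl, hσ2, he'⟩ := (exists_std_plus hm hr hxr).2 α γ φ σ v rr hσ hv hfix hrr hγ hφ he
    exact orderOf_iff_std hm hΓ he' hσ2 hxr hδ

/-- The class statement for field and graph-field automorphisms of plus type. -/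
theorem orderOf_iff_omega_plus {m : ℕ} (hm : 5 ≤ m) (x δ : MulAut (POmega F (quadFormPlus m F)))
    (hx : IsFieldAutClassPOmega (quadFormPlus m F) x ∨ IsGraphFieldAutClassPOmegaPlus m x)
    {r : ℕ} (hr : r.Prime) (hxr : orderOf x = r) (hδ : δ ∈ inndiagPOmegaPlus m F) :
    orderOf (δ * x) = r ↔ Cfsg.IsConjUnder (inndiagPOmegaPlus m F) x (δ * x) := by
  obtain ⟨n, rfl⟩ : ∃ n, m = n + 1 := ⟨m - 1, by omega⟩
  exact orderOf_iff_plus_fun (by omega) _ (QForm.coe_plusForm F (n + 1))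
    (AutPOmega.gammaPOmega_plus hm) x δ hx r hr hxr hδ

end Cfsg.Agent.AutPO
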