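import Cfsg.Agent.Lib.AutPO.Singular
import Cfsg.Agent.Lib.AutPO.Faithful

/-!
Classes of elements in the coset of a (twisted) field automorphism modulo the inner-diagonal group of an
even-dimensional form.
-/

set_option autoImplicit false

namespace Cfsg.Agent.AutPO

open scoped Matrix MatrixGroups
open ClassicalSimple (GO simAut scalarSub omegaSub scalarGO scalarGO_mem)

variable {ι : Type} [Fintype ι] [DecidableEq ι] {F : Type*} [Field F] [Fintype F]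
variable {Q : QuadraticForm F (ι → F)} {k : ℕ}
variable (hQ : (QuadraticMap.polarBilin Q).Nondegenerate) (hn : Fintype.card ι = 2 * k) (hk : 3 ≤ k)
include hQ hn hk

omit [Fintype F] in
theorem Dg_semi {g : GL ι F} {σ : F ≃+* F} (hp : Semi Q g σ) {h : GO Q} (hh : h ∈ Dg Q k) :
    (⟨_, semi_mul_gmap hp h⟩ : GO Q) ∈ Dg Q k := by
  have : Nonempty ι := Fintype.card_pos_iff.1 (by omega)
  obtain ⟨c, hc⟩ := id hp
  have hJ : ∀ w, Q (g.val *ᵥ (σ.toRingHom ∘ w)) = (c : F) * σ.toRingHom (Q w) := hc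
  exact emb_mem_Dg σ.toRingHom g c hJ hQ hh

theorem normal_Dg (hΓ : gammaPOmega F ⇑Q = ⊤) : ((Dg Q k).map (simAut Q)).Normal :=
  normal_of_gamma _ hΓ fun _ _ hp _ hh => Dg_semi hQ hn hk hp hh

theorem mapGO_mem_Dg_iff {σ : F ≃+* F} (hσ : Fixes Q σ) (g : GO Q) : mapGO hσ g ∈ Dg Q k ↔ g ∈ Dg Q k := by
  have hJ : ∀ w, Q ((1 : GL ι F).val *ᵥ (σ.toRingHom ∘ w)) = ((1 : Fˣ) : F) * σ.toRingHom (Q w) := fun w => by
    rw [Units.val_one, Matrix.one_mulVec, Units.val_one, one_mul]; exact hσ w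
  rw [← emb_mem_Dg_iff σ.toRingHom 1 1 hJ hQ hQ hn hk g]
  refine iff_of_eq (congrArg (· ∈ Dg Q k) (Subtype.ext ?_))
  rw [mapGO_coe, embGO_coe, one_mul, inv_one, mul_one]

theorem scalar_mul_mem_Dg_iff (g : GO Q) (z : Fˣ) : g * scalarGO Q z ∈ Dg Q k ↔ g ∈ Dg Q k := by
  rw [mul_mem_Dg_iff hQ hn hk]
  have hz := scalar_le_Dg (Q := Q) (k := k) hn (scalarGO_mem (Q := Q) z)
  exact ⟨fun h => h.2 hz, fun h => iff_of_true h hz⟩

variable {σ : F ≃+* F} (hσ : Fixes Q σ)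

include hσ in
/-- A descended equation decides the class of `g`. -/
theorem mem_Dg_of_descended (g s h : GO Q) {z : Fˣ} (e : g.1 * scl z * gmap σ h.1 = h.1 * s.1) :
    g ∈ Dg Q k ↔ s ∈ Dg Q k := by
  have e' : g * scalarGO Q z * mapGO hσ h = h * s := Subtype.ext e
  have h1 : g * scalarGO Q z * mapGO hσ h ∈ Dg Q k ↔ h * s ∈ Dg Q k := by rw [e']
  rw [mul_mem_Dg_iff hQ hn hk (g * scalarGO Q z), mul_mem_Dg_iff hQ hn hk h,
    scalar_mul_mem_Dg_iff hQ hn hk, mapGO_mem_Dg_iff hQ hn hk] at h1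
  tauto

variable {F₀ : Type*} [Field F₀] [Fintype F₀] (f : F₀ →+* F) {Q₀ : QuadraticForm F₀ (ι → F₀)} (J : GL ι F) (u : Fˣ)
  (hJ : ∀ w, Q (J.val *ᵥ (f ∘ w)) = (u : F) * f (Q₀ w))
  (hQ₀ : (QuadraticMap.polarBilin Q₀).Nondegenerate)
  (hf : ∀ x : F, σ x = x ↔ x ∈ Set.range f) (S : GO Q) (hS : S.1 * gmap σ J = J)
include hJ hQ₀ hf hS hσ

/-- A descended equation gives a conjugation by an inner-diagonal similarity. -/
theorem isConjUnder_of_descended (g h : GO Q) {z : Fˣ} (e : g.1 * scl z * gmap σ h.1 = h.1 * S.1) :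
    Cfsg.IsConjUnder ((Dg Q k).map (simAut Q)) (simAut Q S * fieldA hσ) (simAut Q g * fieldA hσ) := by
  have h5 : 5 ≤ Fintype.card ι := by omega
  by_cases hh : h ∈ Dg Q k
  · exact ⟨simAut Q h, ⟨h, hh, rfl⟩, conj_of_descended hσ hQ h5 g S h e⟩
  obtain ⟨v, hv, -⟩ := exists_reflG hQ₀ hn hk
  set w := embGO f J u hJ (reflG v hv)
  have hw : w ∉ Dg Q k := by
    rw [emb_mem_Dg_iff f J u hJ hQ hQ₀ hn hk]
    exact reflG_notMem hQ₀ hn hk v hv
  have hmem : h * w ∈ Dg Q k := (mul_mem_Dg_iff hQ hn hk h w).2 (iff_of_false hh hw)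
  have hσJ : gmap σ J = S.1⁻¹ * J := eq_inv_mul_iff_mul_eq.2 hS
  have hcomm : S.1 * gmap σ w.1 = w.1 * S.1 := by
    rw [embGO_coe, map_mul, map_mul, map_inv, hσJ, gmap_map f hf]
    group
  refine ⟨simAut Q (h * w), ⟨_, hmem, rfl⟩, conj_of_descended hσ hQ h5 g S (h * w) (z := z) ?_⟩
  rw [Subgroup.coe_mul, map_mul, ← mul_assoc, e, mul_assoc, hcomm, ← mul_assoc]

end Cfsg.Agent.AutPO
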